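import Cfsg.Agent.TameBlocks.DihedralExclude

/-!
# Blocks with dihedral defect groups

`dihedral_block`: a block with dihedral defect group of order `4 * h` has `h + 3` characters, four
of height zero, all of height at most one, and `l + (the ranks at the classes outside the
rotations) = 3`.
-/

set_option autoImplicit false
set_option linter.unusedSectionVars false
set_option linter.style.haveILetI false

namespace CfsgLib.TameBlocks

open Cfsg CfsgLib.BlockPairs CfsgLib.Star
open CfsgLib.Blocks (Res)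
open scoped Classical

universe u

variable {G : Type u} [Group G] [Fintype G] {M : Ideal AlgInt} [M.IsPrime]
  [CharP (Res M) 2] [IsAlgClosed (Res M)]

theorem exists_maxPair_on (hM : Cfsg.IsPModular 2 M) {B : Set (IrrCharacter G)}
    (hB : Cfsg.IsPBlock M B) {D : Subgroup G} (hD : Cfsg.IsDefectGroup 2 M B D) :
    ∃ eP : GA (Res M) G, IsMaxPair 2 (⊤ : Subgroup G) (gblk M B) D eP := by
  haveI : Fact (Nat.Prime 2) := ⟨Nat.prime_two⟩
  have hd := (isDefectGroup_gblk_iff hB D).1 hD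
  obtain ⟨e, he⟩ := exists_blockHas (isBlock_gblk (M := M) hB) le_top hd.2.1 hd.2.2.1
  exact ⟨e, isMaxPair_of_defect hd he⟩

theorem dihedral_block (hM : Cfsg.IsPModular 2 M) {B : Set (IrrCharacter G)}
    (hB : Cfsg.IsPBlock M B) {D : Subgroup G} {eP : GA (Res M) G}
    (hmax : IsMaxPair 2 (⊤ : Subgroup G) (gblk M B) D eP) {h : ℕ} (S : Shape D h) :
    Nat.card B = h + 3 ∧
      Nat.card {χ : IrrCharacter G // χ ∈ B ∧ Cfsg.blockHeight 2 B (χ : G → ℂ) = 0} = 4 ∧
      (∀ χ ∈ B, Cfsg.blockHeight 2 B (χ : G → ℂ) ≤ 1) ∧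
      ∃ n, Cfsg.blockRank 2 B + n = 3 ∧ (reps S eP \ rots S).card ≤ n := by
  classical
  obtain ⟨𝒞⟩ := exists_centerData S hM hB hmax
  obtain ⟨h0, hN, hcases⟩ := count_cases 𝒞 hM hB hmax
  rcases hcases with ⟨hk, hht⟩ | ⟨hk, h4, hF⟩
  · obtain ⟨l, hl, hl1⟩ := exists_count 𝒞 hM hB hmax
    refine ⟨hk, h0, hht, ∑ r ∈ reps S eP \ rots S, l r, by omega, ?_⟩
    simpa using Finset.sum_le_sum hl1
  · exact (not_card_add_one 𝒞 hM hB hmax hk h4 h0 hN hF).elim

end CfsgLib.TameBlocks
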