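import Cfsg.Prelude.Def_CaseTheorems
import Cfsg.Agent.BlockPairs.Nilpotent
import Mathlib.GroupTheory.SpecificGroups.Dihedral

/-!
# Dihedral and semidihedral two-groups

Both are generated by an element `a` of order `4 * h` and an involution `x` inverting `a`, possibly
up to the involution of `zpowers a`.  An element of odd order normalizing a subgroup `Q` and the
intersection of `Q` with `zpowers a` centralizes `Q`, and this intersection has at most three
conjugates.
-/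

set_option autoImplicit false
set_option linter.unusedSectionVars false

namespace CfsgLib.TameBlocks

open CfsgLib.BlockPairs (cj mem_cj cj_cj cj_one card_cj)

universe u v

/-- Dihedral of order at least eight, or semidihedral. -/
def IsTame (P : Type u) [Group P] : Prop :=
  ∃ (h : ℕ) (a x : P), (∃ e, h = 2 ^ e) ∧ Nat.card P = 8 * h ∧ orderOf a = 4 * h ∧ x * x = 1 ∧
    x ∉ Subgroup.zpowers a ∧
      (x * a * x⁻¹ = a⁻¹ ∨ (2 ≤ h ∧ x * a * x⁻¹ = a⁻¹ * a ^ (2 * h)))

theorem IsTame.of_equiv {P : Type u} {P' : Type v} [Group P] [Group P'] (e : P ≃* P')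
    (h : IsTame P) : IsTame P' := by
  obtain ⟨h, a, x, h2, hc, ho, hx, hn, hconj⟩ := h
  refine ⟨h, e a, e x, h2, by rw [← Nat.card_congr e.toEquiv, hc],
    by rw [MulEquiv.orderOf_eq, ho], by rw [← map_mul, hx, map_one], ?_,
    hconj.imp (fun hh => ?_) (And.imp_right fun hh => ?_)⟩
  · rintro ⟨k, hk⟩
    exact hn ⟨k, e.injective (by simpa using hk)⟩
  · rw [← map_inv, ← map_mul, ← map_mul, hh, map_inv]
  · rw [← map_inv, ← map_mul, ← map_mul, hh, map_mul, map_inv, map_pow]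

theorem isTame_of_dihedral {P : Type u} [Group P] {n : ℕ} (hn : 3 ≤ n)
    (hd : Nonempty (P ≃* DihedralGroup (2 ^ (n - 1)))) : IsTame P := by
  obtain ⟨f⟩ := hd
  refine IsTame.of_equiv f.symm ⟨2 ^ (n - 3), DihedralGroup.r 1, DihedralGroup.sr 0, ⟨_, rfl⟩,
    ?_, ?_, by simp, ?_, Or.inl (by simp)⟩
  · rw [DihedralGroup.nat_card, ← pow_succ', show (8 : ℕ) = 2 ^ 3 by norm_num, ← pow_add]
    congr 1
    omega
  · rw [DihedralGroup.orderOf_r_one, show (4 : ℕ) = 2 ^ 2 by norm_num, ← pow_add]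
    congr 1
    omega
  · rintro ⟨k, hk⟩
    simp at hk

theorem isTame_of_quasiDihedral {P : Type u} [Group P] (hq : Cfsg.IsQuasiDihedral P) :
    IsTame P := by
  obtain ⟨n, hn, hc, x, y, hx, hy, hyx⟩ := hq
  have h4 : 2 ^ n = 4 * 2 ^ (n - 2) := by
    rw [show (4 : ℕ) = 2 ^ 2 by norm_num, ← pow_add]; congr 1; omega
  have h2 : 2 ^ (n - 1) = 2 * 2 ^ (n - 2) := by rw [← pow_succ']; congr 1; omega
  have hh2 : 2 ≤ 2 ^ (n - 2) := le_of_eq_of_le (pow_one 2).symm (Nat.pow_le_pow_right two_pos (by omega))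
  have hconj : y * x * y⁻¹ = x⁻¹ * x ^ (2 * 2 ^ (n - 2)) := by
    rw [hyx, eq_inv_mul_iff_mul_eq, ← pow_succ', h2]
    congr 1
    omega
  refine ⟨2 ^ (n - 2), x, y, ⟨_, rfl⟩, by rw [hc, pow_succ, h4]; ring, by rw [hx, h4],
    by rw [← pow_two, ← hy, pow_orderOf_eq_one], fun hm => ?_, Or.inr ⟨hh2, hconj⟩⟩
  obtain ⟨k, rfl⟩ := hm
  rw [((Commute.refl x).zpow_left k).eq, mul_inv_cancel_right] at hyx
  have hpow : x ^ (2 ^ (n - 1) - 2) = 1 := by
    refine mul_left_cancel (a := x) ?_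
    rw [mul_one, ← pow_succ']
    exact (congrArg (x ^ ·) (show 2 ^ (n - 1) - 2 + 1 = 2 ^ (n - 1) - 1 by omega)).trans hyx.symm
  have hd := Nat.le_of_dvd (by omega) (orderOf_dvd_of_pow_eq_one hpow)
  omega

variable {G : Type u} [Group G]

/-- A tame subgroup with its generators. -/
structure Tame (D : Subgroup G) (h : ℕ) where
  a : G
  x : G
  a_mem : a ∈ D
  x_mem : x ∈ D
  x_not_mem : x ∉ Subgroup.zpowers a
  order : orderOf a = 4 * h
  x_sq : x * x = 1
  conj : x * a * x⁻¹ = a⁻¹ ∨ (2 ≤ h ∧ x * a * x⁻¹ = a⁻¹ * a ^ (2 * h))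
  card : Nat.card D = 8 * h
  two_pow : ∃ e, h = 2 ^ e

theorem exists_tame {D : Subgroup G} (hD : IsTame D) : ∃ h, Nonempty (Tame D h) := by
  obtain ⟨h, a, x, h2, hc, ho, hx, hn, hconj⟩ := hD
  refine ⟨h, ⟨⟨(a : G), (x : G), a.2, x.2, fun hm => hn ?_, by rw [Subgroup.orderOf_coe, ho],
    by exact_mod_cast congrArg Subtype.val hx, ?_, hc, h2⟩⟩⟩
  · obtain ⟨k, hk⟩ := hm
    exact ⟨k, Subtype.ext (by simpa using hk)⟩
  · exact hconj.imp (fun hh => by simpa using congrArg Subtype.val hh)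
      (And.imp_right fun hh => by simpa using congrArg Subtype.val hh)

namespace Tame

variable {D : Subgroup G} {h : ℕ} (T : Tame D h)

/-- The involution in `zpowers a`. -/
def z : G := T.a ^ (2 * h)

include T

theorem h_pos : 0 < h := by
  obtain ⟨e, rfl⟩ := T.two_pow
  exact pow_pos two_pos e

theorem zpowers_le : Subgroup.zpowers T.a ≤ D := Subgroup.zpowers_le.2 T.a_mem

theorem z_mem_zpowers : T.z ∈ Subgroup.zpowers T.a := pow_mem (Subgroup.mem_zpowers _) _

theorem z_mem : T.z ∈ D := T.zpowers_le T.z_mem_zpowers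

theorem z_mul_z : T.z * T.z = 1 := by
  rw [z, ← pow_add, show 2 * h + 2 * h = orderOf T.a by rw [T.order]; ring, pow_orderOf_eq_one]

theorem z_inv : T.z⁻¹ = T.z := inv_eq_of_mul_eq_one_right T.z_mul_z

theorem z_ne_one : T.z ≠ 1 := fun h1 => by
  have := Nat.le_of_dvd (by have := T.h_pos; omega) (orderOf_dvd_of_pow_eq_one h1)
  rw [T.order] at this
  have := T.h_pos
  omega

theorem isPGroup : IsPGroup 2 D := by
  obtain ⟨e, he⟩ := T.two_pow
  refine IsPGroup.of_card (n := e + 3) ?_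
  rw [T.card, he, pow_add]
  ring

theorem index_two [Finite G] : ((Subgroup.zpowers T.a).subgroupOf D).index = 2 := by
  have hm := ((Subgroup.zpowers T.a).subgroupOf D).index_mul_card
  rw [Nat.card_congr (Subgroup.subgroupOfEquivOfLe T.zpowers_le).toEquiv, Nat.card_zpowers,
    T.order, T.card, show 8 * h = 2 * (4 * h) by ring] at hm
  exact Nat.eq_of_mul_eq_mul_right (by have := T.h_pos; omega) hm

theorem mul_mem_iff [Finite G] {v w : G} (hv : v ∈ D) (hw : w ∈ D) :
    v * w ∈ Subgroup.zpowers T.a ↔ (v ∈ Subgroup.zpowers T.a ↔ w ∈ Subgroup.zpowers T.a) :=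
  Subgroup.mul_mem_iff_of_index_two T.index_two (a := ⟨v, hv⟩) (b := ⟨w, hw⟩)

/-- An element of `zpowers a` with square one. -/
theorem eq_one_or_z {v : G} (hv : v ∈ Subgroup.zpowers T.a) (h2 : v * v = 1) :
    v = 1 ∨ v = T.z := by
  obtain ⟨k, rfl⟩ := hv
  dsimp only at h2 ⊢
  rw [← zpow_add] at h2
  have hd := orderOf_dvd_iff_zpow_eq_one.2 h2
  rw [T.order, ← two_mul] at hd
  obtain ⟨c, hc⟩ := hd
  have hk : k = (2 * h : ℕ) * c := by push_cast at hc ⊢; linarith
  rw [hk, zpow_mul, zpow_natCast]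
  show T.z ^ c = 1 ∨ T.z ^ c = T.z
  obtain ⟨d, rfl | rfl⟩ : ∃ d, c = 2 * d ∨ c = 2 * d + 1 := by
    rcases Int.even_or_odd c with ⟨d, hd⟩ | ⟨d, hd⟩
    · exact ⟨d, Or.inl (by omega)⟩
    · exact ⟨d, Or.inr (by omega)⟩
  · left; rw [zpow_mul, show T.z ^ (2 : ℤ) = 1 by rw [zpow_two, T.z_mul_z], one_zpow]
  · right
    rw [zpow_add, zpow_mul, show T.z ^ (2 : ℤ) = 1 by rw [zpow_two, T.z_mul_z], one_zpow, one_mul,
      zpow_one]

/-- The central involution of a tame group. -/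
theorem eq_z_of_central [Finite G] {c : G} (hcD : c ∈ D) (hc : ∀ d ∈ D, c * d = d * c)
    (h2 : c * c = 1) (h1 : c ≠ 1) : c = T.z := by
  by_cases hca : c ∈ Subgroup.zpowers T.a
  · exact (T.eq_one_or_z hca h2).resolve_left h1
  exfalso
  obtain ⟨k, hk⟩ := (T.mul_mem_iff T.x_mem hcD).2
    ⟨fun hh => absurd hh T.x_not_mem, fun hh => absurd hh hca⟩
  have hxa : Commute T.x T.a := by
    have h3 : Commute (T.x * c) T.a := hk ▸ (Commute.refl T.a).zpow_left k
    have h4 := h3.mul_left (Commute.inv_left (hc T.a T.a_mem : Commute c T.a))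
    rwa [mul_inv_cancel_right] at h4
  have hh := T.h_pos
  rcases T.conj with e | ⟨hh2, e⟩
  · rw [hxa.eq, mul_inv_cancel_right, eq_inv_iff_mul_eq_one, ← pow_two] at e
    have := Nat.le_of_dvd two_pos (orderOf_dvd_of_pow_eq_one e)
    rw [T.order] at this
    omega
  · rw [hxa.eq, mul_inv_cancel_right, eq_inv_mul_iff_mul_eq, ← pow_two] at e
    have e' : T.a ^ (2 * h - 2) = 1 := by
      refine mul_left_cancel (a := T.a ^ 2) ?_
      rw [mul_one, ← pow_add, show 2 + (2 * h - 2) = 2 * h by omega, ← e]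
    have := Nat.le_of_dvd (by omega) (orderOf_dvd_of_pow_eq_one e')
    rw [T.order] at this
    omega

section Aut

variable [Finite G] {Q : Subgroup G} {y : G}

theorem conj_pow_translation {q c : G} (h1 : y * q * y⁻¹ = q * c) (hc : y * c * y⁻¹ = c) (N : ℕ) :
    y ^ N * q * (y ^ N)⁻¹ = q * c ^ N := by
  induction N with
  | zero => simp
  | succ N ih =>
    have hcN : y * c ^ N * y⁻¹ = c ^ N := by rw [← _root_.conj_pow, hc]
    calc y ^ (N + 1) * q * (y ^ (N + 1))⁻¹ = y * (y ^ N * q * (y ^ N)⁻¹) * y⁻¹ := by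
          rw [pow_succ']; group
      _ = (y * q * y⁻¹) * (y * c ^ N * y⁻¹) := by rw [ih]; group
      _ = q * c ^ (N + 1) := by rw [h1, hcN, pow_succ', mul_assoc]

theorem translation_one (hy : ¬ 2 ∣ orderOf y) {q c : G} (hcD : c ∈ D)
    (h1 : y * q * y⁻¹ = q * c) (hc : y * c * y⁻¹ = c) : c = 1 := by
  refine BlockPairs.isPGroup_centralizes (hp := ⟨Nat.prime_two⟩) T.isPGroup hcD hy fun N hN => ?_
  have h2 := conj_pow_translation T h1 hc N
  rw [hN, one_mul, inv_one, mul_one] at h2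
  exact mul_left_cancel (a := q) (by rw [mul_one]; exact h2.symm)

/-- An element of odd order fixes a subgroup of `zpowers a` it normalizes. -/
theorem cyclic_fixed (hy : ¬ 2 ∣ orderOf y) {A : Subgroup G} (hA : A ≤ Subgroup.zpowers T.a)
    (hN : ∀ w ∈ A, y * w * y⁻¹ ∈ A) :
    ∀ m, ∀ w ∈ A, orderOf w = m → y * w * y⁻¹ = w := by
  intro m
  induction m using Nat.strong_induction_on with
  | _ m ih =>
    intro w hw hm
    have hfix2 : ∀ v ∈ A, v * v = 1 → y * v * y⁻¹ = v := by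
      intro v hv hv2
      have hv' : y * v * y⁻¹ * (y * v * y⁻¹) = 1 := by
        rw [show y * v * y⁻¹ * (y * v * y⁻¹) = y * (v * v) * y⁻¹ by group, hv2]; group
      rcases T.eq_one_or_z (hA hv) hv2 with e | e
      · rw [e]; group
      rcases T.eq_one_or_z (hA (hN v hv)) hv' with e' | e'
      · rw [mul_inv_eq_one, mul_eq_left] at e'
        rw [e']; group
      · rw [e', e]
    by_cases h2 : w * w = 1
    · exact hfix2 w hw h2
    have hlt : orderOf (w ^ 2) < m := by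
      obtain ⟨k, hk⟩ := T.isPGroup ⟨w, T.zpowers_le (hA hw)⟩
      obtain ⟨i, -, hi⟩ := (Nat.dvd_prime_pow Nat.prime_two).1
        (orderOf_dvd_of_pow_eq_one (x := w) (n := 2 ^ k) (congrArg Subtype.val hk))
      have hi0 : i ≠ 0 := fun h0 => h2 (by
        rw [h0, pow_zero, orderOf_eq_one_iff] at hi; rw [hi, one_mul])
      rw [orderOf_pow' w two_ne_zero, ← hm, hi, Nat.gcd_eq_right (dvd_pow_self 2 hi0)]
      exact Nat.div_lt_self (pow_pos two_pos i) one_lt_two
    have hfix := ih _ hlt (w ^ 2) (pow_mem hw 2) rfl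
    set d := w⁻¹ * (y * w * y⁻¹) with hd
    have hdA : d ∈ A := mul_mem (inv_mem hw) (hN w hw)
    have hd2 : d * d = 1 := by
      obtain ⟨i, hi⟩ := hA (inv_mem hw)
      obtain ⟨j, hj⟩ := hA (hN w hw)
      have hcm : Commute w⁻¹ (y * w * y⁻¹) := hi ▸ hj ▸ ((Commute.refl T.a).zpow_zpow i j)
      rw [hd, hcm.symm.mul_mul_mul_comm,
        show y * w * y⁻¹ * (y * w * y⁻¹) = y * w ^ 2 * y⁻¹ by rw [pow_two]; group, hfix]
      group
    have h1 : y * w * y⁻¹ = w * d := by rw [hd, mul_inv_cancel_left]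
    rw [h1, T.translation_one hy (T.zpowers_le (hA hdA)) h1 (hfix2 d hdA hd2), mul_one]

/-- An element of odd order normalizing `Q` and `Q ⊓ zpowers a` centralizes `Q`. -/
theorem centralizes_of_fixed (hy : ¬ 2 ∣ orderOf y) (hQ : Q ≤ D)
    (hNQ : ∀ w ∈ Q, y * w * y⁻¹ ∈ Q)
    (hNA : ∀ w ∈ Q ⊓ Subgroup.zpowers T.a, y * w * y⁻¹ ∈ Q ⊓ Subgroup.zpowers T.a) :
    y ∈ Subgroup.centralizer (Q : Set G) := by
  have hA := fun w hw => T.cyclic_fixed hy inf_le_right hNA _ w hw rfl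
  refine Subgroup.mem_centralizer_iff.2 fun q hq => ?_
  suffices key : y * q * y⁻¹ = q from (mul_inv_eq_iff_eq_mul.1 key).symm
  by_cases hqa : q ∈ Subgroup.zpowers T.a
  · exact hA q ⟨hq, hqa⟩
  have hq' : y * q * y⁻¹ ∉ Subgroup.zpowers T.a := fun hm => by
    have h1 := hA _ ⟨hNQ q hq, hm⟩
    rw [mul_left_inj, mul_right_inj] at h1
    exact hqa (h1 ▸ hm)
  set c := q⁻¹ * (y * q * y⁻¹) with hc
  have hcA : c ∈ Q ⊓ Subgroup.zpowers T.a := ⟨(Q.mul_mem (Q.inv_mem hq) (hNQ q hq) : c ∈ Q),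
    (T.mul_mem_iff (inv_mem (hQ hq)) (hQ (hNQ q hq))).2
      ⟨fun hh : q⁻¹ ∈ Subgroup.zpowers T.a => absurd (by simpa using Subgroup.inv_mem _ hh) hqa, fun hh => absurd hh hq'⟩⟩
  have h1 : y * q * y⁻¹ = q * c := by rw [hc, mul_inv_cancel_left]
  rw [h1, T.translation_one hy (hQ hcA.1) h1 (hA c hcA), mul_one]

/-- `Q ⊓ zpowers a` has at most three conjugates for a normal `Q`. -/
theorem index_normalizer_le (hQ : Q ≤ D) [Q.Normal] :
    (Subgroup.normalizer ((Q ⊓ Subgroup.zpowers T.a : Subgroup G) : Set G)).index ≤ 3 := by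
  classical
  set A := Q ⊓ Subgroup.zpowers T.a with hAdef
  by_cases hAQ : A = Q
  · rw [hAQ, Subgroup.normalizer_eq_top Q, Subgroup.index_top]; norm_num
  obtain ⟨v, hvQ, hvA⟩ : ∃ v ∈ Q, v ∉ A := Set.not_subset.1 fun hh =>
    hAQ (le_antisymm inf_le_left hh)
  have hva : v ∉ Subgroup.zpowers T.a := fun hh => hvA ⟨hvQ, hh⟩
  obtain ⟨u, hu⟩ : ∃ u, Subgroup.zpowers u = A := by
    have hc : IsCyclic A := Subgroup.isCyclic_of_le (inf_le_right : A ≤ Subgroup.zpowers T.a)
    exact (Subgroup.isCyclic_iff_exists_zpowers_eq_top A).1 hc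
  have huA : u ∈ A := hu ▸ Subgroup.mem_zpowers u
  -- conjugates lie in `Q` and multiply as subgroups of index two
  have hle : ∀ g : G, cj g A ≤ Q := fun g w hw => by
    have := (mem_cj.1 hw).1
    have := (inferInstance : Q.Normal).conj_mem _ this g
    simpa [mul_assoc] using this
  have hmul : ∀ g : G, ∀ b ∈ Q, ∀ c ∈ Q, (b * c ∈ cj g A ↔ (b ∈ cj g A ↔ c ∈ cj g A)) := by
    intro g b hb c hc
    have hb' : g⁻¹ * b * g ∈ Q := by simpa using (inferInstance : Q.Normal).conj_mem b hb g⁻¹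
    have hc' : g⁻¹ * c * g ∈ Q := by simpa using (inferInstance : Q.Normal).conj_mem c hc g⁻¹
    simp only [mem_cj, hAdef, Subgroup.mem_inf]
    rw [show g⁻¹ * (b * c) * g = g⁻¹ * b * g * (g⁻¹ * c * g) by group,
      T.mul_mem_iff (hQ hb') (hQ hc')]
    simp [hb', hc', mul_mem hb' hc']
  have hgen : ∀ w ∈ Q, w ∈ Subgroup.closure ({u, v} : Set G) := by
    intro w hw
    have hA' : ∀ r ∈ A, r ∈ Subgroup.closure ({u, v} : Set G) := fun r hr => by
      rw [← hu] at hr
      exact Subgroup.zpowers_le.2 (Subgroup.subset_closure (Set.mem_insert u {v})) hr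
    by_cases hwa : w ∈ Subgroup.zpowers T.a
    · exact hA' w ⟨hw, hwa⟩
    · have := hA' (v * w) ⟨mul_mem hvQ hw, (T.mul_mem_iff (hQ hvQ) (hQ hw)).2
        ⟨fun hh => absurd hh hva, fun hh => absurd hh hwa⟩⟩
      have hv' : v ∈ Subgroup.closure ({u, v} : Set G) :=
        Subgroup.subset_closure (Set.mem_insert_of_mem _ rfl)
      simpa using mul_mem (inv_mem hv') this
  let f : G ⧸ Subgroup.normalizer (A : Set G) → Bool × Bool := fun q =>
    (decide (u ∈ cj q.out A), decide (v ∈ cj q.out A))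
  have hinj : Function.Injective f := by
    intro p q e
    simp only [f, Prod.mk.injEq, decide_eq_decide] at e
    have hiff : ∀ w ∈ Subgroup.closure ({u, v} : Set G),
        w ∈ Q ∧ (w ∈ cj p.out A ↔ w ∈ cj q.out A) := by
      intro w hw
      induction hw using Subgroup.closure_induction with
      | mem w hw =>
        rcases hw with rfl | rfl
        · exact ⟨huA.1, e.1⟩
        · exact ⟨hvQ, e.2⟩
      | one => exact ⟨one_mem Q, by simp⟩
      | mul b c _ _ hb hc =>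
        exact ⟨mul_mem hb.1 hc.1, by rw [hmul _ b hb.1 c hc.1, hmul _ b hb.1 c hc.1, hb.2, hc.2]⟩
      | inv b _ hb => exact ⟨inv_mem hb.1, by simpa using hb.2⟩
    have heq : cj p.out A = cj q.out A := Subgroup.ext fun w =>
      ⟨fun hw => ((hiff w (hgen w (hle _ hw))).2).1 hw,
        fun hw => ((hiff w (hgen w (hle _ hw))).2).2 hw⟩
    rw [← QuotientGroup.out_eq' p, ← QuotientGroup.out_eq' q, QuotientGroup.eq]
    have h3 : cj (p.out⁻¹ * q.out) A = A := by
      rw [← cj_cj, ← heq, cj_cj, inv_mul_cancel, cj_one]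
    have h4 : ∀ w : G, (p.out⁻¹ * q.out) * w * (p.out⁻¹ * q.out)⁻¹ ∈ A ↔ w ∈ A := fun w => by
      have h5 := SetLike.ext_iff.1 h3 ((p.out⁻¹ * q.out) * w * (p.out⁻¹ * q.out)⁻¹)
      rw [mem_cj] at h5
      rw [← h5]
      simp [mul_assoc]
    exact Subgroup.mem_normalizer_iff.2 fun w => (h4 w).symm
  have hne : ∀ q, f q ≠ (true, true) := by
    intro q e
    simp only [f, Prod.mk.injEq, decide_eq_true_eq] at e
    have hQA : Q ≤ cj q.out A := fun w hw =>
      (Subgroup.closure_le _).2 (Set.insert_subset e.1 (Set.singleton_subset_iff.2 e.2)) (hgen w hw)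
    have hcard := Subgroup.card_le_of_le hQA
    rw [card_cj] at hcard
    exact hAQ (Subgroup.eq_of_le_of_card_ge inf_le_left hcard)
  rw [Subgroup.index]
  calc Nat.card (G ⧸ Subgroup.normalizer (A : Set G))
      ≤ Nat.card {b : Bool × Bool // b ≠ (true, true)} :=
        Nat.card_le_card_of_injective (fun q => ⟨f q, hne q⟩)
          fun p q e => hinj (congrArg Subtype.val e)
    _ = 3 := by rw [Nat.card_eq_fintype_card]; rfl

end Aut

end Tame

end CfsgLib.TameBlocks
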