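import Cfsg.Agent.TameBlocks.DihedralMain
import Cfsg.Agent.TameBlocks.TameShape
import Cfsg.Agent.InertialQuotient.KleinFour
import Cfsg.Agent.AbelianDefect.CentralQuotient

/-!
# A tame block of rank three: the centre has odd order

A central involution gives a block of the quotient of rank at least three with dihedral or Klein
four defect group.  There the image of an involution outside the cyclic subgroup is fused to the
image of an element of order four, which is impossible.
-/

set_option autoImplicit false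
set_option linter.unusedSectionVars false
set_option linter.style.haveILetI false

namespace CfsgLib.TameBlocks

open Cfsg CfsgLib.BlockPairs CfsgLib.Star
open CfsgLib.Blocks (Res)
open CfsgLib.BlocksLocal.CentralQuotient (infl exists_infl kerPart)
open scoped Classical

universe u

/-- On the regular elements a block is spanned by a block of the quotient by a central
`p`-subgroup. -/
theorem blockRank_le_quotient_central {H : Type u} [Group H] [Fintype H] {M : Ideal AlgInt}
    [M.IsPrime] {p : ℕ} [Fact p.Prime] (Q : Subgroup H) [Q.Normal] (hQ : IsPGroup p Q)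
    (hQc : Q ≤ Subgroup.center H) (hM : Cfsg.IsPModular p M) {B : Set (IrrCharacter H)}
    (hB : Cfsg.IsPBlock M B) {Bq : Set (IrrCharacter (H ⧸ Q))}
    (himg : kerPart Q B = infl Q '' Bq) :
    Cfsg.blockRank p B ≤ Cfsg.blockRank p Bq := by
  let L : ((H ⧸ Q) → ℂ) →ₗ[ℂ] (H → ℂ) :=
    { toFun := fun f g => if p ∣ orderOf g then 0 else f (g : H ⧸ Q)
      map_add' := fun f g => by funext x; simp only [Pi.add_apply]; split_ifs <;> simp
      map_smul' := fun c f => by funext x; simp }
  have hL : ∀ η : IrrCharacter (H ⧸ Q), Cfsg.pRegularPart p (infl Q η : H → ℂ) =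
      L (Cfsg.pRegularPart p (η : H ⧸ Q → ℂ)) := fun η => by
    funext g
    simp only [L, LinearMap.coe_mk, AddHom.coe_mk, BlockPairing.pRegularPart_apply]
    by_cases hg : p ∣ orderOf g
    · simp [hg]
    · have hg' : ¬ p ∣ orderOf (g : H ⧸ Q) := fun hd =>
        hg (hd.trans (orderOf_map_dvd (QuotientGroup.mk' Q) g))
      simp [hg, hg', infl]
  refine le_trans ?_ (Submodule.finrank_map_le L
    (Submodule.span ℂ ((fun η : IrrCharacter (H ⧸ Q) =>
      Cfsg.pRegularPart p (η : H ⧸ Q → ℂ)) '' Bq)))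
  rw [Cfsg.blockRank]
  refine Submodule.finrank_mono (Submodule.span_le.2 ?_)
  rintro _ ⟨χ, hχ, rfl⟩
  have he : Cfsg.pRegularPart p (χ : H → ℂ) = ∑ ψ ∈ (kerPart Q B).toFinset,
      ((Nat.card Q : ℂ) * BlockPairing.regInner p (χ : H → ℂ) ψ) •
        Cfsg.pRegularPart p (ψ : H → ℂ) := by
    funext x
    rw [Finset.sum_apply]
    by_cases hx : p ∣ orderOf x
    · simp [BlockPairing.pRegularPart_apply, hx]
    · simp only [Pi.smul_apply, smul_eq_mul, BlockPairing.pRegularPart_apply, if_neg hx]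
      rw [AbelianDefect.regular_expansion Q hQ hQc (Characters.isClassFunction_of_isIrr χ.2) hx,
        ← Finset.sum_filter]
      refine (Finset.sum_subset (fun ψ hψ => ?_) fun ψ hψ hn => ?_).symm
      · exact Finset.mem_filter.2 ⟨Finset.mem_univ _, (Set.mem_toFinset.1 hψ).2⟩
      · rw [Contributions.regInner_eq_zero hM hB hχ
          (fun h => hn (Set.mem_toFinset.2 ⟨h, (Finset.mem_filter.1 hψ).2⟩)), mul_zero, zero_mul]
  show Cfsg.pRegularPart p (χ : H → ℂ) ∈ _
  rw [he]
  refine Submodule.sum_mem _ fun ψ hψ => Submodule.smul_mem _ _ ?_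
  obtain ⟨η, hη, rfl⟩ := (himg ▸ Set.mem_toFinset.1 hψ : ψ ∈ infl Q '' Bq)
  exact ⟨_, Submodule.subset_span ⟨η, hη, rfl⟩, (hL η).symm⟩

variable {G : Type u} [Group G] [Fintype G] {M : Ideal AlgInt} [M.IsPrime]
  [CharP (Res M) 2] [IsAlgClosed (Res M)]

/-- In a dihedral block of rank three a reflection is fused to the central involution. -/
theorem fused_of_rank_three (hM : Cfsg.IsPModular 2 M) {B : Set (IrrCharacter G)}
    (hB : Cfsg.IsPBlock M B) {D : Subgroup G} (hD : Cfsg.IsDefectGroup 2 M B D) {h : ℕ}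
    (S : Shape D h) (hl : 3 ≤ Cfsg.blockRank 2 B) : ∃ g, g * S.τ * g⁻¹ = S.z := by
  haveI : Fact (Nat.Prime 2) := ⟨Nat.prime_two⟩
  obtain ⟨eP, hmax⟩ := exists_maxPair_on hM hB hD
  obtain ⟨-, -, -, n, hn, hr⟩ := dihedral_block hM hB hmax S
  have hempty : reps S eP \ rots S = ∅ := Finset.card_eq_zero.1 (by omega)
  obtain ⟨r, ⟨hr', hf⟩, -⟩ := (isReps_reps hB hmax S).2 S.τ S.τ_mem
  have hrot : r ∈ Subgroup.zpowers S.σ :=
    mem_zpowers_of_mem_rots S ((Finset.sdiff_eq_empty_iff_subset.1 hempty) hr')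
  have ho := hf.orderOf_eq
  obtain ⟨g, -, hg⟩ := hf
  have hr2 : r * r = 1 := by
    rw [← hg, show g * S.τ * g⁻¹ * (g * S.τ * g⁻¹) = g * (S.τ * S.τ) * g⁻¹ by group, S.τ_sq]
    group
  rcases S.eq_one_or_z hrot hr2 with e | e
  · rw [e, orderOf_one, eq_comm, orderOf_eq_one_iff] at ho
    exact absurd (ho ▸ one_mem _) S.τ_not_mem
  · exact ⟨g, hg.trans e⟩

/-- In a Klein four block of rank three the involutions are fused. -/
theorem klein_fused_of_rank_three (hM : Cfsg.IsPModular 2 M) {B : Set (IrrCharacter G)}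
    (hB : Cfsg.IsPBlock M B) {D : Subgroup G} [IsKleinFour D] (hD : Cfsg.IsDefectGroup 2 M B D)
    (hl : 3 ≤ Cfsg.blockRank 2 B) {v w : G} (hv : v ∈ D) (hw : w ∈ D) (hv1 : v ≠ 1) (hw1 : w ≠ 1) :
    ∃ g, g * v * g⁻¹ = w := by
  haveI : Fact (Nat.Prime 2) := ⟨Nat.prime_two⟩
  obtain ⟨eP, hmax⟩ := exists_maxPair_on hM hB hD
  have hPe := hmax.1.1
  have hne : ∀ r ∈ D, ({x : G | Fused 2 D eP r x}).Nonempty := fun r hr => ⟨r, Fused.refl hPe hr⟩
  have hrep : ∀ r ∈ D, Fused 2 D eP r (classRep 2 D eP r) := fun r hr => by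
    rw [classRep, pick, dif_pos (hne r hr)]
    exact (hne r hr).some_mem
  have hcong : ∀ r r', Fused 2 D eP r r' → classRep 2 D eP r = classRep 2 D eP r' := fun r r' hf => by
    rw [classRep, classRep]
    congr 1
    ext x
    exact ⟨fun hx => hf.symm.trans hPe hx, fun hx => hf.trans hPe hx⟩
  set R : Finset G := (Finset.univ.filter (· ∈ D)).image (classRep 2 D eP) with hRdef
  have hR : IsReps 2 D eP R := by
    refine ⟨fun r hr => ?_, fun r hr => ?_⟩
    · obtain ⟨r', hr', rfl⟩ := Finset.mem_image.1 hr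
      exact (hrep r' (Finset.mem_filter.1 hr').2).mem_right
    · refine ⟨_, ⟨Finset.mem_image_of_mem _ (Finset.mem_filter.2 ⟨Finset.mem_univ _, hr⟩),
        hrep r hr⟩, fun y hy => ?_⟩
      obtain ⟨r', hr', rfl⟩ := Finset.mem_image.1 hy.1
      exact (hcong _ _ (hy.2.trans hPe (hrep r' (Finset.mem_filter.1 hr').2).symm)).symm
  let l : G → ℕ := fun r => if hr : r ∈ R then (exists_rank hM hB hmax (hR.1 r hr)).choose else 0
  have hspec : ∀ r ∈ R, 1 ≤ l r ∧ ∑ χ : IrrCharacter G,
      (if χ ∈ B then sval 2 D eP r (χ : G → ℂ) χ else 0) = (l r : ℂ) := fun r hr => by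
    simp only [l, dif_pos hr]
    exact (exists_rank hM hB hmax (hR.1 r hr)).choose_spec
  have hcount := card_eq_sum_rank hM hB hmax hR fun r hr => (hspec r hr).2
  rw [InertialQuotient.card_klein hM hB hD hmax] at hcount
  obtain ⟨r₁, ⟨hr₁, hf₁⟩, -⟩ := hR.2 1 D.one_mem
  have e₁ : r₁ = 1 := orderOf_eq_one_iff.1 (hf₁.orderOf_eq.trans orderOf_one)
  subst e₁
  have hl1 : l 1 = Cfsg.blockRank 2 B := Nat.cast_injective (R := ℂ)
    (((hspec 1 hr₁).2).symm.trans (sum_sval_one hM hB hmax))
  rw [← Finset.add_sum_erase _ _ hr₁, hl1] at hcount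
  have hone : (R.erase 1).card ≤ 1 := by
    have := Finset.card_nsmul_le_sum (R.erase 1) l 1 fun r hr => (hspec r (Finset.mem_erase.1 hr).2).1
    simp only [smul_eq_mul, mul_one] at this
    replace hcount : 4 = Cfsg.blockRank 2 B + (R.erase 1).sum l := hcount
    omega
  have key : ∀ r ∈ D, r ≠ 1 → classRep 2 D eP r ∈ R.erase 1 := fun r hr hr1 => by
    refine Finset.mem_erase.2 ⟨fun e => hr1 (orderOf_eq_one_iff.1 ?_),
      Finset.mem_image_of_mem _ (Finset.mem_filter.2 ⟨Finset.mem_univ _, hr⟩)⟩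
    rw [← (hrep r hr).orderOf_eq, e, orderOf_one]
  have he := Finset.card_le_one.1 hone _ (key v hv hv1) _ (key w hw hw1)
  have hf := (hrep v hv).trans hPe (he ▸ (hrep w hw).symm)
  obtain ⟨g, -, hg⟩ := hf
  exact ⟨g, hg⟩

/-- The centre has odd order. -/
theorem odd_center_of_rank_three (hM : Cfsg.IsPModular 2 M) {B : Set (IrrCharacter G)}
    (hB : Cfsg.IsPBlock M B) {D : Subgroup G} (hD : Cfsg.IsDefectGroup 2 M B D) (hT : IsTame D)
    (hl : 3 ≤ Cfsg.blockRank 2 B) : Odd (Nat.card (Subgroup.center G)) := by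
  haveI : Fact (Nat.Prime 2) := ⟨Nat.prime_two⟩
  by_contra hodd
  rw [Nat.not_odd_iff_even, even_iff_two_dvd] at hodd
  obtain ⟨c, hc⟩ := exists_prime_orderOf_dvd_card' (G := Subgroup.center G) 2 hodd
  rw [← Subgroup.orderOf_coe] at hc
  set Q : Subgroup G := Subgroup.zpowers (c : G) with hQdef
  have hQc : Q ≤ Subgroup.center G := Subgroup.zpowers_le.2 c.2
  haveI hQn : Q.Normal := ⟨fun q hq g => by
    rw [Subgroup.mem_center_iff.1 (hQc hq) g, mul_inv_cancel_right]; exact hq⟩
  have hQp : IsPGroup 2 Q := IsPGroup.of_card (n := 1) (by rw [Nat.card_zpowers, hc, pow_one])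
  haveI : Fintype (G ⧸ Q) := Fintype.ofFinite _
  obtain ⟨Bq, hBq, himg, -, D', hD', hQD, hDq⟩ := AbelianDefect.exists_quotient_block Q hQp hQc hM hB
  have hl' : 3 ≤ Cfsg.blockRank 2 Bq :=
    hl.trans (blockRank_le_quotient_central Q hQp hQc hM hB himg)
  obtain ⟨t, rfl⟩ := CfsgLib.Blocks.IsDefectGroup.exists_conj hM hB hD hD'
  obtain ⟨h, ⟨T⟩⟩ := exists_tame (hT.of_equiv
    (Subgroup.equivMapOfInjective D (MulAut.conj t).toMonoidHom (MulAut.conj t).injective))
  set D' := D.map (MulAut.conj t).toMonoidHom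
  have hc1 : (c : G) ≠ 1 := fun e => by rw [e, orderOf_one] at hc; omega
  have hc2 : (c : G) * c = 1 := by rw [← pow_two, ← hc, pow_orderOf_eq_one]
  have hcz : (c : G) = T.z := T.eq_z_of_central (hQD (Subgroup.mem_zpowers _))
    (fun d _ => (Subgroup.mem_center_iff.1 c.2 d).symm) hc2 hc1
  have hQmem : ∀ q, q ∈ Q ↔ q = 1 ∨ q = T.z := fun q => by
    constructor
    · intro hq
      obtain ⟨k, rfl⟩ := hq
      show (c : G) ^ k = 1 ∨ (c : G) ^ k = T.z
      rcases Int.even_or_odd k with ⟨j, rfl⟩ | ⟨j, rfl⟩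
      · left; rw [← two_mul, zpow_mul, zpow_two, hc2, one_zpow]
      · right; rw [zpow_add, zpow_mul, zpow_two, hc2, one_zpow, one_mul, zpow_one, hcz]
    · rintro (rfl | rfl)
      · exact one_mem Q
      · rw [← hcz]; exact Subgroup.mem_zpowers _
  set π := QuotientGroup.mk' Q with hπ
  have hπ1 : ∀ q : G, π q = 1 ↔ q = 1 ∨ q = T.z := fun q => by
    rw [← hQmem]; exact QuotientGroup.eq_one_iff q
  have hh := T.h_pos
  have hz_mem : T.z ∈ Subgroup.zpowers T.a := T.z_mem_zpowers
  -- the images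
  have hσ : orderOf (π T.a) = 2 * h := by
    refine Nat.dvd_antisymm (orderOf_dvd_of_pow_eq_one ?_) ?_
    · rw [← map_pow, hπ1]; exact Or.inr rfl
    · have h1 : π (T.a ^ orderOf (π T.a)) = 1 := by rw [map_pow, pow_orderOf_eq_one]
      have h2 : (T.a ^ orderOf (π T.a)) * T.a ^ orderOf (π T.a) = 1 := by
        rcases (hπ1 _).1 h1 with e | e <;> rw [e]
        · rw [one_mul]
        · exact T.z_mul_z
      rw [← pow_add] at h2
      have := orderOf_dvd_of_pow_eq_one h2
      rw [T.order, ← two_mul, show 4 * h = 2 * (2 * h) by ring] at this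
      exact Nat.dvd_of_mul_dvd_mul_left two_pos this
  have hτ : π T.x * π T.x = 1 := by rw [← map_mul, T.x_sq, map_one]
  have hτn : π T.x ∉ Subgroup.zpowers (π T.a) := by
    rintro ⟨k, hk⟩
    have h1 : π (T.x⁻¹ * T.a ^ k) = 1 := by
      rw [map_mul, map_zpow, map_inv]; simp only at hk; rw [hk, inv_mul_cancel]
    refine T.x_not_mem ?_
    rcases (hπ1 _).1 h1 with e | e
    · rw [inv_mul_eq_one] at e; exact ⟨k, e.symm⟩
    · rw [inv_mul_eq_iff_eq_mul] at e
      rw [show T.x = T.a ^ k * T.z⁻¹ by rw [e, mul_inv_cancel_right]]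
      exact mul_mem (zpow_mem (Subgroup.mem_zpowers _) k) (inv_mem hz_mem)
  have hconj : π T.x * π T.a * (π T.x)⁻¹ = (π T.a)⁻¹ := by
    rcases T.conj with e | ⟨-, e⟩
    · rw [← map_inv, ← map_mul, ← map_mul, e, map_inv]
    · rw [← map_inv, ← map_mul, ← map_mul, e, map_mul, (hπ1 (T.a ^ (2 * h))).2 (Or.inr rfl),
        mul_one, map_inv]
  have hcard : Nat.card (D'.map π) = 4 * h := by
    have hker : (π.comp D'.subtype).ker = Q.subgroupOf D' := by
      ext d
      exact QuotientGroup.eq_one_iff (d : G)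
    have h2 := (π.comp D'.subtype).ker.index_mul_card
    rw [Subgroup.index_ker, MonoidHom.range_comp, Subgroup.range_subtype] at h2
    rw [hker, Nat.card_congr (Subgroup.subgroupOfEquivOfLe hQD).toEquiv] at h2
    have hQ2 : Nat.card Q = 2 := (Nat.card_zpowers (c : G)).trans hc
    rw [T.card, hQ2] at h2
    omega
  -- the element of order four and the fusion in the quotient
  set i := T.a ^ h with hi
  have hiD : i ∈ D' := pow_mem T.a_mem h
  have hi2 : i * i = T.z := by rw [hi, ← pow_add, ← two_mul]; rfl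
  obtain ⟨gb, hgb⟩ : ∃ gb, gb * π T.x * gb⁻¹ = π i := by
    by_cases h2 : 2 ≤ h
    · let S : Shape (D'.map π) h :=
        { σ := π T.a
          τ := π T.x
          σ_mem := Subgroup.mem_map_of_mem _ T.a_mem
          τ_mem := Subgroup.mem_map_of_mem _ T.x_mem
          τ_not_mem := hτn
          order := hσ
          conj := hconj
          τ_sq := hτ
          gen := by
            rintro _ ⟨d, hd, rfl⟩
            by_cases hda : d ∈ Subgroup.zpowers T.a
            · obtain ⟨k, rfl⟩ := hda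
              exact Or.inl ⟨k, (map_zpow π T.a k).symm⟩
            · obtain ⟨k, hk⟩ := (T.mul_mem_iff T.x_mem hd).2
                ⟨fun e => absurd e T.x_not_mem, fun e => absurd e hda⟩
              exact Or.inr ⟨k, by simp only at hk ⊢; rw [← map_mul, ← hk, map_zpow]⟩
          card := hcard
          two_pow := by
            obtain ⟨e, he⟩ := T.two_pow
            refine ⟨e, ?_, he⟩
            rcases e with _ | e
            · simp at he; omega
            · exact Nat.succ_pos e }
      obtain ⟨gb, hgb⟩ := fused_of_rank_three hM hBq hDq S hl'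
      exact ⟨gb, hgb.trans (map_pow π T.a h).symm⟩
    · obtain rfl : h = 1 := by omega
      have hklein : IsKleinFour (D'.map π) := by
        refine ⟨by rw [hcard], ?_⟩
        have hexp : ∀ d : (D'.map π), d ^ 2 = 1 := by
          rintro ⟨_, d, hd, rfl⟩
          refine Subtype.ext ?_
          show (π d) ^ 2 = 1
          by_cases hda : d ∈ Subgroup.zpowers T.a
          · obtain ⟨k, rfl⟩ := hda
            rw [map_zpow, ← zpow_natCast, ← zpow_mul, mul_comm, zpow_mul, zpow_natCast,
              show (2 : ℕ) = orderOf (π T.a) by rw [hσ], pow_orderOf_eq_one, one_zpow]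
          · obtain ⟨k, hk⟩ := (T.mul_mem_iff T.x_mem hd).2
              ⟨fun e => absurd e T.x_not_mem, fun e => absurd e hda⟩
            have e1 : T.x * T.a * T.x⁻¹ = T.a⁻¹ := T.conj.resolve_right fun hh => by omega
            have hd' : d = T.x⁻¹ * T.a ^ k := by rw [show T.a ^ k = T.x * d from hk]; group
            have e2 : T.x⁻¹ * T.a ^ k * T.x = (T.a ^ k)⁻¹ := by
              have e3 : T.x⁻¹ = T.x := inv_eq_of_mul_eq_one_right T.x_sq
              rw [e3]
              conv_lhs => arg 2; rw [← e3]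
              rw [← conj_zpow, e1, inv_zpow]
            rw [← map_pow, hd', pow_two,
              show T.x⁻¹ * T.a ^ k * (T.x⁻¹ * T.a ^ k) =
                T.x⁻¹ * T.a ^ k * T.x * (T.x⁻¹ * T.x⁻¹) * T.a ^ k by group,
              e2, ← mul_inv_rev, T.x_sq, inv_one, mul_one, inv_mul_cancel, map_one]
        refine ((Nat.dvd_prime Nat.prime_two).1
          (Monoid.exponent_dvd_of_forall_pow_eq_one hexp)).resolve_left fun he => ?_
        have h0 := Monoid.pow_exponent_eq_one
          (⟨π T.x, Subgroup.mem_map_of_mem _ T.x_mem⟩ : (D'.map π))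
        rw [he, pow_one] at h0
        exact hτn (by rw [show π T.x = 1 from congrArg Subtype.val h0]; exact one_mem _)
      refine klein_fused_of_rank_three hM hBq hDq hl' (Subgroup.mem_map_of_mem _ T.x_mem)
        (Subgroup.mem_map_of_mem _ hiD) (fun e => hτn (by rw [e]; exact one_mem _)) fun e => ?_
      rw [hi, pow_one] at e
      rw [e, orderOf_one] at hσ
      omega
  obtain ⟨g, rfl⟩ := QuotientGroup.mk'_surjective Q gb
  have h1 : π (i⁻¹ * (g * T.x * g⁻¹)) = 1 := by
    rw [map_mul, map_inv, map_mul, map_mul, map_inv, hgb, inv_mul_cancel]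
  have hsq : g * T.x * g⁻¹ * (g * T.x * g⁻¹) = 1 := by
    rw [show g * T.x * g⁻¹ * (g * T.x * g⁻¹) = g * (T.x * T.x) * g⁻¹ by group, T.x_sq]; group
  obtain ⟨q, hq, e⟩ : ∃ q, (q = 1 ∨ q = T.z) ∧ g * T.x * g⁻¹ = i * q :=
    ⟨_, (hπ1 _).1 h1, by rw [mul_inv_cancel_left]⟩
  rw [e] at hsq
  rcases hq with rfl | rfl
  · rw [mul_one, hi2] at hsq; exact T.z_ne_one hsq
  · have hcm : Commute i T.z := by
      rw [hi]; exact Commute.pow_pow_self T.a h (2 * h)
    rw [hcm.symm.mul_mul_mul_comm, hi2, T.z_mul_z, mul_one] at hsq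
    exact T.z_ne_one hsq

end CfsgLib.TameBlocks
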