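import Cfsg.Agent.BlocksCharsC.CliffordInvariant
import Cfsg.Agent.CharactersDeep.Gallagher
import Cfsg.Agent.CharactersDeep.ExtensionCriteria
import Cfsg.Agent.BlocksLocal.Covering
import Cfsg.Agent.Blocks.Height

/-!
# Characters over an invariant character of a normal subgroup of odd order

On a coset of `N` the characters over an invariant `θ` are multiples of one function, and the
central character at an element of `N` is a local unit only if its class has odd size.
-/

set_option autoImplicit false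
set_option linter.unusedSectionVars false
set_option linter.style.haveILetI false

namespace CfsgLib.TameBlocks

open Cfsg CfsgLib.Blocks
open scoped ComplexConjugate

universe u

variable {G : Type u} [Group G] [Fintype G]

/-- A constituent of a constituent is a constituent. -/
theorem classInner_comp_eq_zero {X Y : Type u} [Group X] [Fintype X] [Group Y] [Fintype Y]
    (f : Y →* X) {ψ : X → ℂ} (hψ : Cfsg.IsCharacter X ψ) {η : IrrCharacter X}
    (hη : Cfsg.classInner ψ (η : X → ℂ) ≠ 0) {θ : IrrCharacter Y}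
    (h0 : Cfsg.classInner (fun y => ψ (f y)) (θ : Y → ℂ) = 0) :
    Cfsg.classInner (fun y => (η : X → ℂ) (f y)) (θ : Y → ℂ) = 0 := by
  classical
  obtain ⟨m, hm⟩ := Characters.exists_nat_coeff hψ
  choose c hc using fun ξ : IrrCharacter X => Characters.classInner_character_irr
    (Characters.isCharacter_comp f (Characters.isCharacter_of_isIrr ξ.2)) θ.2
  have hmη : m η ≠ 0 := fun e => hη (by rw [hm, Characters.classInner_irr_coeff, e]; simp)
  have hsum : ((∑ ξ : IrrCharacter X, m ξ * c ξ : ℕ) : ℂ) = 0 := by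
    rw [← h0]
    push_cast
    simp only [← hc, Cfsg.classInner, hm, Finset.sum_apply, Pi.smul_apply, smul_eq_mul,
      Finset.sum_mul, Finset.mul_sum]
    rw [Finset.sum_comm]
    refine Finset.sum_congr rfl fun y _ => Finset.sum_congr rfl fun ξ _ => ?_
    ring
  rw [Nat.cast_eq_zero, Finset.sum_eq_zero_iff] at hsum
  rw [hc η, (mul_eq_zero.1 (hsum η (Finset.mem_univ _))).resolve_left hmη, Nat.cast_zero]

/-- The invariance condition. -/
def Fixed (N : Subgroup G) [hN : N.Normal] (θ : IrrCharacter N) : Prop :=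
  ∀ (g : G) (n : N), (θ : N → ℂ) ⟨g * n * g⁻¹, hN.conj_mem n n.2 g⟩ = (θ : N → ℂ) n

variable {N : Subgroup G} [hN : N.Normal] [Fintype N] {θ : IrrCharacter N}

/-- A character of `N` on `N.subgroupOf K`. -/
noncomputable def pullTo {K : Subgroup G} (hNK : N ≤ K) (θ : IrrCharacter N) :
    IrrCharacter (N.subgroupOf K) :=
  ⟨fun n => (θ : N → ℂ) (Subgroup.subgroupOfEquivOfLe hNK n),
    Characters.isIrr_comp (Subgroup.subgroupOfEquivOfLe hNK).toMonoidHom
      (Subgroup.subgroupOfEquivOfLe hNK).surjective θ.2⟩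

theorem fixed_pullTo (hfix : Fixed N θ) {K : Subgroup G} (hNK : N ≤ K) :
    ∀ (g : K) (n : N.subgroupOf K), (pullTo hNK θ : N.subgroupOf K → ℂ)
      ⟨g * n * g⁻¹, (inferInstance : (N.subgroupOf K).Normal).conj_mem n n.2 g⟩ =
        (pullTo hNK θ : N.subgroupOf K → ℂ) n := fun g n =>
  hfix (g : G) ⟨((n : K) : G), n.2⟩

/-- Constituents of the restriction to an overgroup of `N` restrict to multiples of `θ`. -/
theorem constituent_pullTo (hfix : Fixed N θ) {K : Subgroup G} [Fintype K]
    [Fintype (N.subgroupOf K)] (hNK : N ≤ K) {χ : IrrCharacter G}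
    (hχ : Cfsg.classInner (fun n : N => (χ : G → ℂ) n) (θ : N → ℂ) ≠ 0) {η : IrrCharacter K}
    (hη : Cfsg.classInner (fun k : K => (χ : G → ℂ) k) (η : K → ℂ) ≠ 0) :
    Cfsg.classInner (fun n : N.subgroupOf K => (η : K → ℂ) n)
      (pullTo hNK θ : N.subgroupOf K → ℂ) ≠ 0 := by
  classical
  set θ' := pullTo hNK θ with hθ'
  obtain ⟨ψ, hψ⟩ := BlocksLocal.exists_constituent (N.subgroupOf K) η
  suffices e : ψ = θ' by rwa [← e]
  by_contra hne
  refine hψ (classInner_comp_eq_zero (N.subgroupOf K).subtype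
    (Characters.isCharacter_restrict K (Characters.isCharacter_of_isIrr χ.2)) hη ?_)
  have hres : (fun n : N.subgroupOf K => (χ : G → ℂ) ((n : K) : G)) =
      Cfsg.classInner (fun n : N => (χ : G → ℂ) n) (θ : N → ℂ) • (θ' : N.subgroupOf K → ℂ) := by
    funext n
    exact BlocksCharsC.restrict_eq_smul_of_invariant θ.2 hfix χ.2 hχ ⟨((n : K) : G), n.2⟩
  show Cfsg.classInner (fun n : N.subgroupOf K => (χ : G → ℂ) ((n : K) : G)) _ = 0
  rw [hres, Characters.classInner_smul_left, Characters.classInner_irr, if_neg (Ne.symm hne),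
    mul_zero]

/-- The characters over `θ` are multiples of one function on the coset of `g`. -/
theorem exists_coset_fun (hfix : Fixed N θ) (g : G) :
    ∃ φ : N → ℂ, (∃ n, φ n ≠ 0) ∧ ∀ χ : IrrCharacter G,
      Cfsg.classInner (fun n : N => (χ : G → ℂ) n) (θ : N → ℂ) ≠ 0 →
        ∃ c : ℂ, ∀ n : N, (χ : G → ℂ) ((n : G) * g) = c * φ n := by
  classical
  set K := N ⊔ Subgroup.zpowers g with hK
  have hNK : N ≤ K := le_sup_left
  have hgK : g ∈ K := le_sup_right (a := N) (Subgroup.mem_zpowers g)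
  haveI : Fintype K := Fintype.ofFinite _
  haveI : Fintype (N.subgroupOf K) := Fintype.ofFinite _
  set g' : K := ⟨g, hgK⟩ with hg'
  have hcyc : IsCyclic (K ⧸ N.subgroupOf K) := by
    refine ⟨⟨(g' : K ⧸ N.subgroupOf K), fun x => ?_⟩⟩
    obtain ⟨y, rfl⟩ := QuotientGroup.mk_surjective x
    have hle : K ≤ ((Subgroup.zpowers (g' : K ⧸ N.subgroupOf K)).comap
        (QuotientGroup.mk' _)).map K.subtype := by
      refine sup_le (fun n hn => ⟨⟨n, hNK hn⟩, ?_, rfl⟩) ?_
      · show ((⟨n, hNK hn⟩ : K) : K ⧸ N.subgroupOf K) ∈ Subgroup.zpowers _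
        rw [(QuotientGroup.eq_one_iff (N := N.subgroupOf K) (⟨n, hNK hn⟩ : K)).2 hn]
        exact one_mem _
      · exact Subgroup.zpowers_le.2 ⟨g', Subgroup.mem_zpowers _, rfl⟩
    obtain ⟨y', hy', e⟩ := hle y.2
    obtain rfl : y' = y := Subtype.ext e
    exact hy'
  obtain ⟨φ, hφ, hφθ⟩ := CharactersDeep.ExtensionCriteria.extends_of_cyclic
    (N.subgroupOf K) (pullTo hNK θ).2 (fixed_pullTo hfix hNK) hcyc
  have hres : (fun n : N.subgroupOf K => φ n) = (pullTo hNK θ : N.subgroupOf K → ℂ) := funext hφθ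
  have hθi : Cfsg.IsIrrCharacter (N.subgroupOf K) fun n => φ n := hres ▸ (pullTo hNK θ).2
  refine ⟨fun n => φ (⟨(n : G), hNK n.2⟩ * g'), ?_, fun χ hχ => ?_⟩
  · by_contra hc
    push Not at hc
    have h1 := CharactersDeep.Gallagher.sum_coset_mul_conj (N.subgroupOf K) hφ hθi g'
    rw [Finset.sum_eq_zero, eq_comm, Nat.cast_eq_zero] at h1
    · exact Nat.card_pos.ne' h1
    intro n _
    rw [show (n : K) = (⟨((n : K) : G), hNK n.2⟩ : K) from rfl, hc ⟨((n : K) : G), n.2⟩, zero_mul]
  · obtain ⟨m, hm⟩ := Characters.exists_nat_coeff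
      (Characters.isCharacter_restrict K (Characters.isCharacter_of_isIrr χ.2))
    have hη : ∀ η : IrrCharacter K, ∃ b : ℂ, ∀ n : N,
        (m η : ℂ) * (η : K → ℂ) (⟨(n : G), hNK n.2⟩ * g') = b * φ (⟨(n : G), hNK n.2⟩ * g') := by
      intro η
      by_cases hz : m η = 0
      · exact ⟨0, fun n => by simp [hz]⟩
      have hne : Cfsg.classInner (fun k : K => (χ : G → ℂ) k) (η : K → ℂ) ≠ 0 := by
        rw [hm, Characters.classInner_irr_coeff]; exact_mod_cast hz
      obtain ⟨β, -, hβ⟩ := CharactersDeep.Gallagher.exists_eq_prodInfl (N.subgroupOf K) hφ hθi η.2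
        (by rw [hres]; exact constituent_pullTo hfix hNK hχ hne)
      refine ⟨(m η : ℂ) * β (g' : K ⧸ N.subgroupOf K), fun n => ?_⟩
      rw [hβ, CharactersDeep.Gallagher.prodInfl, QuotientGroup.mk_mul,
        (QuotientGroup.eq_one_iff (⟨(n : G), hNK n.2⟩ : K)).2 (by exact n.2), one_mul]
      ring
    choose b hb using hη
    refine ⟨∑ η, b η, fun n => ?_⟩
    have := congrFun hm (⟨(n : G), hNK n.2⟩ * g')
    simp only [Finset.sum_apply, Pi.smul_apply, smul_eq_mul] at this
    rw [Finset.sum_mul]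
    exact this.trans (Finset.sum_congr rfl fun η _ => hb η n)

/-- A unit central value at an element of `N` needs a class of odd size. -/
theorem odd_index_of_centralChar {p : ℕ} [Fact p.Prime] {M : Ideal AlgInt} [M.IsPrime]
    (hM : Cfsg.IsPModular p M) {X : Type u} [Group X] [Fintype X] (χ : IrrCharacter X) (x : X)
    {w : ℂ} (hw : Cfsg.MemLocalRing M w) {d : ℕ} (hd : ¬ p ∣ d)
    (hval : (χ : X → ℂ) x * (d : ℂ) = w * (χ : X → ℂ) 1)
    (hne : ¬ Cfsg.MemLocalIdeal M (Cfsg.centralChar (χ : X → ℂ) x)) :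
    ¬ p ∣ (Subgroup.centralizer ({x} : Set X)).index := by
  intro hp
  refine hne ?_
  have hd0 : d ≠ 0 := fun e => hd (e ▸ dvd_zero p)
  have he : Cfsg.centralChar (χ : X → ℂ) x =
      ((Subgroup.centralizer ({x} : Set X)).index : ℂ) * w / (d : ℂ) := by
    rw [Cfsg.centralChar, div_eq_div_iff (Characters.irr_one_ne_zero χ.2) (Nat.cast_ne_zero.2 hd0)]
    linear_combination ((Subgroup.centralizer ({x} : Set X)).index : ℂ) * hval
  rw [he]
  refine memLocalIdeal_mul_div_of_lt hM hd0 ?_ hw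
  rw [Nat.factorization_eq_zero_of_not_dvd hd]
  exact (Fact.out : p.Prime).factorization_pos_of_dvd Subgroup.index_ne_zero_of_finite hp

end CfsgLib.TameBlocks
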