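import Cfsg.Agent.TameBlocks.TameClasses
import Cfsg.Agent.TameBlocks.TameOver
import Cfsg.Agent.BlockDegrees.FongReynolds
import Cfsg.Agent.BlocksLocal.Fong
import Cfsg.Agent.BlocksLocal.Knorr
import Cfsg.Agent.Inv53.Constrained
import Cfsg.Agent.PLocal.PSolvable
import Cfsg.Agent.PLocal.Constraint
import Cfsg.Agent.BlockPairing.DefectOne
import Cfsg.Prelude.Def_BlockRank

/-!
# A tame block of a solvable group has rank at most two

Reduce by Fong–Reynolds to an invariant character `θ` of the odd core `N`.  Then the defect group is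
a Sylow subgroup, the regular elements outside `N` lie in one class modulo `N`, and the members of
the block are determined on each regular coset by one number.
-/

set_option autoImplicit false
set_option linter.unusedSectionVars false
set_option linter.style.haveILetI false

namespace CfsgLib.TameBlocks

open Cfsg CfsgLib.Blocks
open CfsgLib.BlockPairs (cj)

universe u

variable {G : Type u} [Group G] [Fintype G]

open Classical in
/-- Functions proportional to one function on each coset in a set meeting all regular classes. -/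
theorem finrank_span_le (N : Subgroup G) {ι : Type*} (s : Set ι) (f : ι → G → ℂ)
    (hcl : ∀ i ∈ s, Cfsg.IsClassFunction G (f i)) (P : G → Prop)
    (hP : ∀ i ∈ s, ∀ x, ¬ P x → f i x = 0) (R : Finset G)
    (hR : ∀ x, P x → ∃ r ∈ R, ∃ t : G, ∃ n : N, t * x * t⁻¹ = (n : G) * r)
    (hfun : ∀ r ∈ R, ∃ φ : N → ℂ, (∃ n, φ n ≠ 0) ∧
      ∀ i ∈ s, ∃ c : ℂ, ∀ n : N, f i ((n : G) * r) = c * φ n) :
    Module.finrank ℂ (Submodule.span ℂ (f '' s)) ≤ R.card := by
  choose φ hφ hf using hfun
  choose n₀ hn₀ using hφ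
  set W := Submodule.span ℂ (f '' s)
  let L : W →ₗ[ℂ] (R → ℂ) :=
    { toFun := fun w r => (w : G → ℂ) ((n₀ r r.2 : G) * r)
      map_add' := fun a b => by funext r; rfl
      map_smul' := fun c a => by funext r; rfl }
  have hW : ∀ w ∈ W, Cfsg.IsClassFunction G w ∧ (∀ x, ¬ P x → w x = 0) ∧
      ∀ r, ∀ hr : r ∈ R, ∃ c : ℂ, ∀ n : N, w ((n : G) * r) = c * φ r hr n := by
    intro w hw
    induction hw using Submodule.span_induction with
    | mem w hw =>
      obtain ⟨i, hi, rfl⟩ := hw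
      exact ⟨hcl i hi, hP i hi, fun r hr => hf r hr i hi⟩
    | zero => exact ⟨fun _ _ => rfl, fun _ _ => rfl, fun r hr => ⟨0, fun n => by simp⟩⟩
    | add a b _ _ ha hb =>
      refine ⟨fun g h => by simp [ha.1 g h, hb.1 g h],
        fun x hx => by simp [ha.2.1 x hx, hb.2.1 x hx], fun r hr => ?_⟩
      obtain ⟨c, hc⟩ := ha.2.2 r hr
      obtain ⟨d, hd⟩ := hb.2.2 r hr
      exact ⟨c + d, fun n => by simp [hc n, hd n, add_mul]⟩
    | smul a b _ hb =>
      refine ⟨fun g h => by simp [hb.1 g h], fun x hx => by simp [hb.2.1 x hx], fun r hr => ?_⟩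
      obtain ⟨c, hc⟩ := hb.2.2 r hr
      exact ⟨a * c, fun n => by simp [hc n, mul_assoc]⟩
  have hinj : Function.Injective L := by
    refine (injective_iff_map_eq_zero L).2 fun w hw => Subtype.ext (funext fun x => ?_)
    obtain ⟨hc, h0, hr'⟩ := hW w w.2
    by_cases hx : P x
    · obtain ⟨r, hr, t, n, ht⟩ := hR x hx
      obtain ⟨c, hcr⟩ := hr' r hr
      have h1 : c * φ r hr (n₀ r hr) = 0 := by rw [← hcr]; exact congrFun hw ⟨r, hr⟩
      rw [← hc x t, ht, hcr, (mul_eq_zero.1 h1).resolve_right (hn₀ r hr), zero_mul]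
      rfl
    · exact h0 x hx
  refine (LinearMap.finrank_le_finrank_of_injective hinj).trans (le_of_eq ?_)
  rw [Module.finrank_fintype_fun_eq_card, Fintype.card_coe]

variable {M : Ideal AlgInt} [M.IsPrime]

open Classical in
/-- An inducing block has at least the rank. -/
theorem blockRank_le_of_induced {T : Subgroup G} [Fintype T] {B' : Set (IrrCharacter T)}
    {B : Set (IrrCharacter G)}
    (h : ∀ χ ∈ B, ∃ ψ ∈ B', (χ : G → ℂ) = Cfsg.indFun T (ψ : T → ℂ)) :
    Cfsg.blockRank 2 B ≤ Cfsg.blockRank 2 B' := by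
  let L : (T → ℂ) →ₗ[ℂ] (G → ℂ) :=
    { toFun := fun f => Cfsg.indFun T f
      map_add' := Characters.indFun_add T
      map_smul' := fun c f => Characters.indFun_smul T c f }
  have key : ∀ f : T → ℂ,
      L (Cfsg.pRegularPart 2 f) = Cfsg.pRegularPart 2 (Cfsg.indFun T f) := by
    intro f
    funext g
    have ho : ∀ x : G, orderOf (x⁻¹ * g * x) = orderOf g := fun x => by
      simpa using (MulAut.conj x⁻¹).orderOf_eq g
    simp only [L, LinearMap.coe_mk, AddHom.coe_mk, BlockPairing.pRegularPart_apply, Cfsg.indFun]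
    split_ifs with hg
    · rw [Finset.sum_eq_zero, mul_zero]
      intro x _
      by_cases hx : x⁻¹ * g * x ∈ T
      · rw [Characters.extendByZero_of_mem T _ hx, BlockPairing.pRegularPart_apply, if_pos]
        rw [← Subgroup.orderOf_coe]; simpa only [ho] using hg
      · rw [Characters.extendByZero_of_not_mem T _ hx]
    · congr 1
      refine Finset.sum_congr rfl fun x _ => ?_
      by_cases hx : x⁻¹ * g * x ∈ T
      · rw [Characters.extendByZero_of_mem T _ hx, Characters.extendByZero_of_mem T _ hx,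
          BlockPairing.pRegularPart_apply, if_neg]
        rw [← Subgroup.orderOf_coe]; simpa only [ho] using hg
      · rw [Characters.extendByZero_of_not_mem T _ hx, Characters.extendByZero_of_not_mem T _ hx]
  refine le_trans ?_ (Submodule.finrank_map_le L
    (Submodule.span ℂ ((fun ψ : IrrCharacter T => Cfsg.pRegularPart 2 (ψ : T → ℂ)) '' B')))
  rw [Cfsg.blockRank]
  refine Submodule.finrank_mono (Submodule.span_le.2 ?_)
  rintro _ ⟨χ, hχ, rfl⟩
  obtain ⟨ψ, hψ, e⟩ := h χ hχ
  exact ⟨_, Submodule.subset_span ⟨ψ, hψ, rfl⟩, by rw [key, ← e]⟩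

theorem val_eq_of_over {N : Subgroup G} [hN : N.Normal] [Fintype N] {θ : IrrCharacter N}
    (hfix : Fixed N θ) {χ : IrrCharacter G}
    (hχ : Cfsg.classInner (fun n : N => (χ : G → ℂ) n) (θ : N → ℂ) ≠ 0) (n : N) :
    (χ : G → ℂ) n * (Cfsg.charDegree (θ : N → ℂ) : ℂ) = (θ : N → ℂ) n * (χ : G → ℂ) 1 := by
  have h1 := BlocksCharsC.restrict_eq_smul_of_invariant θ.2 hfix χ.2 hχ n
  have h2 := BlocksCharsC.restrict_eq_smul_of_invariant θ.2 hfix χ.2 hχ 1
  rw [OneMemClass.coe_one] at h2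
  rw [h1, h2, charDegree_cast]
  ring

theorem exists_blockRank_le_two_step (hM : Cfsg.IsPModular 2 M) [Group.IsSolvable G]
    {B : Set (IrrCharacter G)} (hB : Cfsg.IsPBlock M B) {N : Subgroup G} [hN : N.Normal]
    [Fintype N] (hNd : N = Cfsg.pPrimeCore 2 G) {θ : IrrCharacter N} (hfix : Fixed N θ)
    (hover : ∀ χ ∈ B, Cfsg.classInner (fun n : N => (χ : G → ℂ) n) (θ : N → ℂ) ≠ 0)
    (htame : ∀ P : Subgroup G, Cfsg.IsDefectGroup 2 M B P → IsTame P) :
    Cfsg.blockRank 2 B ≤ 2 := by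
  classical
  haveI : Fact (Nat.Prime 2) := ⟨Nat.prime_two⟩
  obtain ⟨χ₀, hχ₀⟩ := isPBlock_nonempty hB
  set π := QuotientGroup.mk' N with hπ
  have hπ1 : ∀ x : G, π x = 1 ↔ x ∈ N := fun x => QuotientGroup.eq_one_iff x
  have hsurj : Function.Surjective π := QuotientGroup.mk'_surjective N
  have hbot : Cfsg.pPrimeCore 2 (G ⧸ N) = ⊥ := by
    have h1 := CfsgLib.PLocal.comap_pPrimeCore_quotient (p := 2) N
      (hNd ▸ CfsgLib.PLocal.coprime_card_pPrimeCore 2 G)
    rw [← hNd] at h1
    refine Subgroup.comap_injective hsurj ?_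
    rw [h1, MonoidHom.comap_bot, hπ, QuotientGroup.ker_mk']
  haveI : Group.IsSolvable (G ⧸ N) := Group.isSolvable_of_surjective hsurj
  have hC : Subgroup.centralizer (Cfsg.pCore 2 (G ⧸ N) : Set (G ⧸ N)) ≤ Cfsg.pCore 2 (G ⧸ N) :=
    CfsgLib.Inv53.centralizer_pCore_le (CfsgLib.PLocal.isPConstrained_of_isPSolvable
      CfsgLib.PLocal.isPSolvable_of_isSolvable) hbot
  set Qb := Cfsg.pCore 2 (G ⧸ N) with hQb
  have hQbp : IsPGroup 2 Qb := CfsgLib.PLocal.isPGroup_pCore 2 _
  have hNodd : ¬ 2 ∣ Nat.card N := by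
    have h := CfsgLib.PLocal.coprime_card_pPrimeCore 2 G
    rw [← hNd] at h
    exact fun hd => absurd (Nat.dvd_gcd hd (dvd_refl 2)) (by rw [h.gcd_eq_one]; norm_num)
  have hdodd : ¬ 2 ∣ Cfsg.charDegree (θ : N → ℂ) := fun hd =>
    hNodd (hd.trans (charDegree_dvd_card θ))
  have hθint : ∀ n : N, Cfsg.MemLocalRing M ((θ : N → ℂ) n) := fun n =>
    memLocalRing_of_isIntegral (Characters.gen_isIntegral (Characters.isGen_of_isIrr θ.2) n)
  have hregN : ∀ x : G, ¬ 2 ∣ orderOf x → π x ∈ Qb → x ∈ N := by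
    intro x hx hxQ
    obtain ⟨k, hk⟩ := hQbp ⟨π x, hxQ⟩
    refine (hπ1 x).1 (orderOf_eq_one_iff.1 (Nat.eq_one_of_dvd_coprimes
      ((Nat.prime_two.coprime_iff_not_dvd.2 hx).pow_left k)
      (orderOf_dvd_of_pow_eq_one (congrArg Subtype.val hk)) (orderOf_map_dvd π x)))
  -- a defect group above a Sylow subgroup of the preimage of the two-core
  set L := Qb.comap π with hL
  have hNL : N ≤ L := fun x hx => by
    rw [hL, Subgroup.mem_comap, (hπ1 x).2 hx]; exact one_mem _
  haveI : L.Normal := (inferInstance : (Cfsg.pCore 2 (G ⧸ N)).Normal).comap π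
  haveI : Fintype L := Fintype.ofFinite _
  haveI : Fintype (N.subgroupOf L) := Fintype.ofFinite _
  obtain ⟨η₀, hη₀⟩ := BlocksLocal.exists_constituent L χ₀
  have hbL := isPBlock_blockOf (M := M) η₀
  set b := Cfsg.blockOf M (η₀ : L → ℂ) with hb
  obtain ⟨R, hR⟩ := exists_isDefectGroup (p := 2) hbL
  obtain ⟨gb, hgb, hRs⟩ := isDefectGroup_iff.1 hR
  have hgb2 : ¬ 2 ∣ orderOf (gb : G) := fun hd => hgb.2.1 (by
    rw [blockCoeff_eq_zero_of_singular hM (isBlockUnion_of_isPBlock hbL)
      (by rwa [← Subgroup.orderOf_coe])]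
    exact memLocalIdeal_zero)
  have hgbN : (gb : G) ∈ N := hregN _ hgb2 gb.2
  have hRodd : ¬ 2 ∣ R.index := by
    have hres := BlocksCharsC.restrict_eq_smul_of_invariant (pullTo hNL θ).2
      (fixed_pullTo hfix hNL) η₀.2 (constituent_pullTo hfix hNL (hover χ₀ hχ₀) hη₀)
    have hval : (η₀ : L → ℂ) gb * (Cfsg.charDegree (θ : N → ℂ) : ℂ) =
        (θ : N → ℂ) ⟨gb, hgbN⟩ * (η₀ : L → ℂ) 1 := by
      have e1 := hres ⟨gb, hgbN⟩
      have e2 := hres 1
      rw [OneMemClass.coe_one] at e2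
      rw [e1, e2, charDegree_cast]
      show _ * (θ : N → ℂ) ⟨gb, hgbN⟩ * _ = _ * (_ * (θ : N → ℂ) 1)
      ring
    have h1 := odd_index_of_centralChar hM η₀ gb (hθint _) hdodd hval
      (hgb.2.2 η₀ (mem_blockOf_self η₀))
    have h2 := Subgroup.relIndex_mul_index hRs.1
    intro hd
    rw [← h2] at hd
    rcases Nat.prime_two.dvd_mul.1 hd with hd | hd
    · exact hRs.2.2 hd
    · exact h1 hd
  obtain ⟨P, hP, hPL⟩ := BlocksLocal.Knorr.exists_defectGroup_inf_eq L hM hbL
    (Subgroup.map_subtype_le R)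
    (by rw [Subgroup.subgroupOf, Subgroup.comap_map_eq_self_of_injective L.subtype_injective]; exact hR)
    hB hχ₀ (mem_blockOf_self η₀) hη₀
  have hQP : Qb ≤ P.map π := by
    let f : L →* Qb := (π.comp L.subtype).codRestrict Qb fun x => x.2
    have hfs : Function.Surjective f := fun q => by
      obtain ⟨x, hx⟩ := hsurj (q : G ⧸ N)
      exact ⟨⟨x, show π x ∈ Qb by rw [hx]; exact q.2⟩, Subtype.ext hx⟩
    have hd := Subgroup.index_map_dvd (H := R) hfs
    have htop : R.map f = ⊤ := by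
      rw [← Subgroup.index_eq_one]
      obtain ⟨k, hk⟩ := IsPGroup.iff_card.1 hQbp
      exact Nat.eq_one_of_dvd_coprimes
        ((Nat.prime_two.coprime_iff_not_dvd.2 fun h2 => hRodd (h2.trans hd)).pow_left k).symm
        dvd_rfl (hk ▸ Subgroup.index_dvd_card (R.map f))
    intro q hq
    obtain ⟨r, hr, e⟩ : (⟨q, hq⟩ : Qb) ∈ R.map f := htop ▸ trivial
    have hrP : (r : G) ∈ P := by
      have : (r : G) ∈ R.map L.subtype := Subgroup.mem_map_of_mem _ hr
      rw [← hPL] at this
      exact this.1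
    exact ⟨(r : G), hrP, congrArg Subtype.val e⟩
  -- so it is a Sylow subgroup
  obtain ⟨gB, hgB, hPs⟩ := isDefectGroup_iff.1 hP
  have hgB2 : ¬ 2 ∣ orderOf gB := fun hd => hgB.2.1 (by
    rw [blockCoeff_eq_zero_of_singular hM (isBlockUnion_of_isPBlock hB) hd]
    exact memLocalIdeal_zero)
  have hgBN : gB ∈ N := by
    refine hregN _ hgB2 (hC (Subgroup.mem_centralizer_iff.2 fun q hq => ?_))
    obtain ⟨x, hx, rfl⟩ := hQP hq
    rw [← map_mul, ← map_mul, Subgroup.mem_centralizer_singleton_iff.1 (hPs.1 hx)]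
  have hPodd : ¬ 2 ∣ P.index := by
    have h1 := odd_index_of_centralChar hM χ₀ gB (hθint _) hdodd
      (val_eq_of_over hfix (hover χ₀ hχ₀) ⟨gB, hgBN⟩) (hgB.2.2 χ₀ hχ₀)
    have h2 := Subgroup.relIndex_mul_index hPs.1
    intro hd
    rw [← h2] at hd
    rcases Nat.prime_two.dvd_mul.1 hd with hd | hd
    · exact hPs.2.2 hd
    · exact h1 hd
  -- its image in the quotient
  have hinj : Function.Injective (π.comp P.subtype) := by
    refine (injective_iff_map_eq_one _).2 fun x hx => ?_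
    obtain ⟨k, hk⟩ := hPs.2.1 x
    have hxN : (x : G) ∈ N := (hπ1 _).1 hx
    have hd1 : orderOf (x : G) ∣ Nat.card N := by
      have := orderOf_dvd_natCard (⟨(x : G), hxN⟩ : N)
      rwa [← Subgroup.orderOf_coe] at this
    have hd2 : orderOf (x : G) ∣ 2 ^ k := by
      rw [Subgroup.orderOf_coe]; exact orderOf_dvd_of_pow_eq_one hk
    exact Subtype.ext (orderOf_eq_one_iff.1 (Nat.eq_one_of_dvd_coprimes
      ((Nat.prime_two.coprime_iff_not_dvd.2 hNodd).pow_left k) hd2 hd1))
  have hDb : IsTame (P.map π) := by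
    refine (htame P hP).of_equiv ?_
    refine ((π.comp P.subtype).ofInjective hinj).trans (MulEquiv.subgroupCongr ?_)
    rw [MonoidHom.range_comp, Subgroup.range_subtype]
  have hindb : ¬ 2 ∣ (P.map π).index := fun hd =>
    hPodd (hd.trans (P.index_map_dvd hsurj))
  -- the count
  have hclass : ∀ x y : G, ¬ 2 ∣ orderOf x → ¬ 2 ∣ orderOf y → x ∉ N → y ∉ N →
      ∃ t : G, t * x * t⁻¹ * y⁻¹ ∈ N := by
    intro x y hx hy hxN hyN
    obtain ⟨c, hc⟩ := isConj_iff.1 (regular_isConj hDb hindb hC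
      (fun hd => hx (hd.trans (orderOf_map_dvd π x))) (fun hd => hy (hd.trans (orderOf_map_dvd π y)))
      (fun e => hxN ((hπ1 x).1 e)) (fun e => hyN ((hπ1 y).1 e)))
    obtain ⟨t, rfl⟩ := hsurj c
    exact ⟨t, (hπ1 _).1 (by
      rw [map_mul, map_mul, map_mul, map_inv, map_inv, hc, mul_inv_cancel])⟩
  obtain ⟨Rs, hRs2, hRsreg, hRscov⟩ : ∃ Rs : Finset G, Rs.card ≤ 2 ∧
      (∀ r ∈ Rs, ¬ 2 ∣ orderOf r) ∧
      ∀ x : G, ¬ 2 ∣ orderOf x → ∃ r ∈ Rs, ∃ t : G, ∃ n : N, t * x * t⁻¹ = (n : G) * r := by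
    have h1 : ¬ 2 ∣ orderOf (1 : G) := by rw [orderOf_one]; norm_num
    by_cases hex : ∃ g, ¬ 2 ∣ orderOf g ∧ g ∉ N
    · obtain ⟨g, hg, hgN⟩ := hex
      refine ⟨{1, g}, Finset.card_le_two, fun r hr => ?_, fun x hx => ?_⟩
      · simp only [Finset.mem_insert, Finset.mem_singleton] at hr
        rcases hr with rfl | rfl
        · exact h1
        · exact hg
      by_cases hxN : x ∈ N
      · exact ⟨1, by simp, 1, ⟨x, hxN⟩, by simp⟩
      · obtain ⟨t, ht⟩ := hclass x g hx hg hxN hgN
        exact ⟨g, by simp, t, ⟨_, ht⟩, (inv_mul_cancel_right _ g).symm⟩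
    · push Not at hex
      exact ⟨{1}, by simp, fun r hr => by rw [Finset.mem_singleton.1 hr]; exact h1,
        fun x hx => ⟨1, by simp, 1, ⟨x, hex x hx⟩, by simp⟩⟩
  have hregcoset : ∀ r : G, ¬ 2 ∣ orderOf r → ∀ n : N, ¬ 2 ∣ orderOf ((n : G) * r) := by
    intro r hr n hd
    have hm : ((n : G) * r) ^ orderOf r ∈ N := by
      rw [← hπ1, map_pow, map_mul, (hπ1 _).2 n.2, one_mul, ← map_pow, pow_orderOf_eq_one, map_one]
    have h2 : ((n : G) * r) ^ (orderOf r * Nat.card N) = 1 := by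
      rw [pow_mul]; exact congrArg Subtype.val (pow_card_eq_one' (x := (⟨_, hm⟩ : N)))
    rcases Nat.prime_two.dvd_mul.1 (hd.trans (orderOf_dvd_of_pow_eq_one h2)) with h | h
    · exact hr h
    · exact hNodd h
  refine le_trans ?_ hRs2
  rw [Cfsg.blockRank]
  refine finrank_span_le N B (fun χ : IrrCharacter G => Cfsg.pRegularPart 2 (χ : G → ℂ))
    (fun χ _ => BlockPairing.isClassFunction_pRegularPart 2 (Characters.isClassFunction_of_isIrr χ.2))
    (fun x => ¬ 2 ∣ orderOf x)
    (fun χ _ x hx => by simp [BlockPairing.pRegularPart_apply, not_not.1 hx]) Rs hRscov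
    fun r hr => ?_
  obtain ⟨φ, hφ, hall⟩ := exists_coset_fun hfix r
  refine ⟨φ, hφ, fun χ hχ => ?_⟩
  obtain ⟨c, hc⟩ := hall χ (hover χ hχ)
  exact ⟨c, fun n => by
    rw [BlockPairing.pRegularPart_apply, if_neg (hregcoset r (hRsreg r hr) n)]; exact hc n⟩

open Classical in
/-- The general statement, by induction on the order. -/
theorem blockRank_le_two (hM : Cfsg.IsPModular 2 M) :
    ∀ (k : ℕ) (X : Type u) [Group X] [Fintype X], Nat.card X = k → Group.IsSolvable X →
      ∀ (B : Set (IrrCharacter X)), Cfsg.IsPBlock M B →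
        ∀ D : Subgroup X, Cfsg.IsDefectGroup 2 M B D → IsTame D → Cfsg.blockRank 2 B ≤ 2 := by
  haveI : Fact (Nat.Prime 2) := ⟨Nat.prime_two⟩
  intro k
  induction k using Nat.strong_induction_on with
  | _ k ih =>
    intro X _ _ hk hsol B hB D hD htD
    haveI := hsol
    set N := Cfsg.pPrimeCore 2 X with hNd
    haveI : N.Normal := inferInstanceAs (Cfsg.pPrimeCore 2 X).Normal
    haveI : Fintype N := Fintype.ofFinite _
    obtain ⟨χ₀, hχ₀⟩ := isPBlock_nonempty hB
    obtain ⟨θ, hθ⟩ := BlocksLocal.exists_constituent N χ₀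
    have hbe : Cfsg.blockOf M (θ : N → ℂ) = {θ} := (defect_zero_iff hM θ).1 fun hd => by
      have h := CfsgLib.PLocal.coprime_card_pPrimeCore 2 X
      exact absurd (Nat.dvd_gcd (hd.trans (Nat.div_dvd_of_dvd (charDegree_dvd_card θ))) (dvd_refl 2))
        (by rw [h.gcd_eq_one]; norm_num)
    have hb : Cfsg.IsPBlock M ({θ} : Set (IrrCharacter N)) := hbe ▸ isPBlock_blockOf θ
    let T : Subgroup X :=
      { carrier := {g | BlocksLocal.conjIrr N θ g = θ}
        one_mem' := BlocksLocal.conjIrr_one N θ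
        mul_mem' := fun {a c} ha hc => by
          show BlocksLocal.conjIrr N θ (a * c) = θ
          rw [← BlocksLocal.conjIrr_mul, ha, hc]
        inv_mem' := fun {a} ha => by
          show BlocksLocal.conjIrr N θ a⁻¹ = θ
          conv_lhs => rw [← (ha : BlocksLocal.conjIrr N θ a = θ)]
          rw [BlocksLocal.conjIrr_mul, mul_inv_cancel, BlocksLocal.conjIrr_one] }
    have hmemT : ∀ g, g ∈ T ↔ BlocksLocal.conjIrr N θ g = θ := fun g => Iff.rfl
    by_cases hTtop : T = ⊤
    · have hfix : Fixed N θ := fun g n => by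
        have h := (hmemT g).1 (by rw [hTtop]; trivial)
        exact congrFun (congrArg Subtype.val h) n
      have hinv : ∀ g : X, ∀ θ₁ ∈ ({θ} : Set (IrrCharacter N)),
          BlocksLocal.conjIrr N θ₁ g ∈ ({θ} : Set (IrrCharacter N)) := fun g θ₁ h₁ => by
        rw [Set.mem_singleton_iff] at h₁ ⊢
        rw [h₁]
        exact (hmemT g).1 (by rw [hTtop]; trivial)
      obtain ⟨w, hw, hres, -⟩ := BlocksLocal.exists_invariant_idem (M := M) N hb hinv
      have homega : ∀ (χ : IrrCharacter X) (ψ : IrrCharacter N),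
          Cfsg.classInner (fun n : N => (χ : X → ℂ) n) (ψ : N → ℂ) ≠ 0 →
          omegaBar M χ w = if ψ ∈ ({θ} : Set (IrrCharacter N)) then 1 else 0 := fun χ ψ hψ => by
        rw [BlocksLocal.omegaBar_eq_of_covers N hψ w hw, hres, omegaBar_idemBar]
        congr
      refine exists_blockRank_le_two_step hM hB hNd hfix (fun χ hχ => ?_) fun P hP => ?_
      · have hsame : omegaBar M χ₀ w = omegaBar M χ w := by
          rw [(sameBlock_iff χ₀ χ).1]
          rw [eq_blockOf_of_mem hB hχ₀] at hχ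
          exact hχ
        obtain ⟨ψ, hψ⟩ := BlocksLocal.exists_constituent N χ
        rw [homega χ₀ θ hθ, homega χ ψ hψ, if_pos (Set.mem_singleton θ)] at hsame
        by_cases hψθ : ψ = θ
        · exact hψθ ▸ hψ
        · rw [if_neg (by exact hψθ)] at hsame; exact absurd hsame one_ne_zero
      · obtain ⟨t, rfl⟩ := IsDefectGroup.exists_conj hM hB hD hP
        exact htD.of_equiv (Subgroup.equivMapOfInjective D (MulAut.conj t).toMonoidHom
          (MulAut.conj t).injective)
    · haveI : Fintype T := Fintype.ofFinite _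
      have hIs : BlockDegrees.FongReynolds.IsStab N ({θ} : Set (IrrCharacter N)) T := by
        intro g
        constructor
        · intro hg θ₁ h₁ θ' hθ'
          rw [Set.mem_singleton_iff] at h₁ ⊢
          subst h₁
          rw [← (hmemT g).1 hg]
          exact Subtype.ext (funext hθ')
        · intro h
          exact h θ rfl (BlocksLocal.conjIrr N θ g) fun n => rfl
      have hNT : N ≤ T := fun n hn => by
        refine Subtype.ext (funext fun m => ?_)
        exact Characters.isClassFunction_of_isIrr θ.2 m ⟨n, hn⟩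
      obtain ⟨B', hB', hcov', hind⟩ := BlockDegrees.FongReynolds.exists_inducing hb hIs hNT hB
        ⟨χ₀, hχ₀, θ, rfl, hθ⟩
      obtain ⟨C, hC, -, -, hm⟩ := BlockDegrees.FongReynolds.inducedBlock hb hIs hNT hB' hcov'
      rw [isInducedBlock_unique hC hind] at hm
      obtain ⟨D₀, hD₀⟩ := exists_isDefectGroup (p := 2) hB'
      obtain ⟨t, ht⟩ := IsDefectGroup.exists_conj hM hB hD
        ((BlockDegrees.FongReynolds.heights hM hb hIs hNT hB' hcov' hind).1 D₀ hD₀)
      have htD₀ : IsTame D₀ := by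
        refine IsTame.of_equiv ?_ htD
        refine (Subgroup.equivMapOfInjective D (MulAut.conj t).toMonoidHom
          (MulAut.conj t).injective).trans ((MulEquiv.subgroupCongr ?_).trans
          (Subgroup.equivMapOfInjective D₀ T.subtype T.subtype_injective).symm)
        exact ht
      have hlt : Nat.card T < k := by
        rw [← hk]
        refine lt_of_le_of_ne (Nat.card_le_card_of_injective _ T.subtype_injective) fun e => hTtop ?_
        exact Subgroup.eq_top_of_card_eq T e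
      have hsolT : Group.IsSolvable T := Group.isSolvable_of_isSolvable_injective T.subtype_injective
      exact (blockRank_le_of_induced fun χ hχ => (hm χ).1 hχ).trans
        (ih _ hlt T rfl hsolT B' hB' D₀ hD₀ htD₀)

end CfsgLib.TameBlocks
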