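import Cfsg.Agent.TameBlocks.DihedralRel
import Cfsg.Agent.Star.Height

/-!
# The column at the central involution

`F χ z` is a nonzero rational integer for every member of the block; it is divisible by
`2 ^ ht χ` and odd in height zero.
-/

set_option autoImplicit false
set_option linter.unusedSectionVars false
set_option linter.style.haveILetI false

namespace CfsgLib.TameBlocks

open Cfsg CfsgLib.BlockPairs CfsgLib.Star
open CfsgLib.Blocks (Res localRing)
open scoped ComplexConjugate Classical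

universe u

variable {G : Type u} [Group G] [Fintype G] {M : Ideal AlgInt} [M.IsPrime]
  [CharP (Res M) 2] [IsAlgClosed (Res M)] {D : Subgroup G} {eP : GA (Res M) G} {h : ℕ}
  {S : Shape D h} (𝒞 : CenterData M eP S) (hM : Cfsg.IsPModular 2 M)
  {B : Set (IrrCharacter G)} (hB : Cfsg.IsPBlock M B)
  (hmax : IsMaxPair 2 (⊤ : Subgroup G) (gblk M B) D eP)

theorem exists_int_F_z (χ : IrrCharacter G) : ∃ f : ℤ, F 𝒞 (χ : G → ℂ) S.z = f := by
  set z' : ↥(DS S) := liftD ⟨S.z, S.z_mem⟩ with hz'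
  have hzc : z' ∈ Subgroup.center ↥(DS S) := Subgroup.mem_center_iff.2 fun y => by
    refine Subtype.ext (Subtype.ext ?_)
    exact (S.z_central (Subgroup.mem_subgroupOf.1 y.2)).eq
  have hz2 : z' * z' = 1 := by rw [hz', ← map_mul, show (⟨S.z, S.z_mem⟩ : D) * ⟨S.z, S.z_mem⟩ = 1 from Subtype.ext S.z_mul_z, map_one]
  have hval : ∀ θ : IrrCharacter ↥(DS S), ∃ n : ℤ, (θ : ↥(DS S) → ℂ) z' = n := fun θ => by
    obtain ⟨n, -, hn⟩ := Characters.exists_degree_pos θ.2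
    have h1 := BlocksCharsC.irr_central_mul θ.2 hzc z'
    rw [hz2, hn, ← pow_two, ← pow_two] at h1
    rcases sq_eq_sq_iff_eq_or_eq_neg.1 h1 with e | e
    · exact ⟨n, by rw [Int.cast_natCast, e]⟩
    · exact ⟨-n, by rw [Int.cast_neg, Int.cast_natCast, e, neg_neg]⟩
  choose n hn using hval
  choose m hm using exists_mult_int 𝒞 χ
  refine ⟨∑ θ, (m θ : ℤ) * n θ, ?_⟩
  rw [F_apply 𝒞 _ S.z_mem]
  push_cast
  exact Finset.sum_congr rfl fun θ _ => by rw [hm θ, hn θ]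

include hM hB hmax

theorem cval_z (χ ψ : IrrCharacter G) :
    cval 2 D eP (χ : G → ℂ) ψ S.z = F 𝒞 (χ : G → ℂ) S.z * conj (F 𝒞 (ψ : G → ℂ) S.z) := by
  have h1 := sval_eq_F hM hmax 𝒞 (Characters.isClassFunction_of_isIrr χ.2)
    (Characters.isClassFunction_of_isIrr ψ.2) S.z_mem_zpowers S.z_ne_one
  rw [sval, inf_eq_left.2 S.D_le_centralizer] at h1
  rw [cval, wt, inf_eq_left.2 (le_cent_of_central S.z_mem_centralizer), mul_comm, mul_div_assoc',
    mul_comm, mul_div_assoc, h1, mul_div_cancel₀ _ (Nat.cast_ne_zero.2 Nat.card_pos.ne')]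

theorem fz_spec {χ : IrrCharacter G} (hχ : χ ∈ B) {f : ℤ} (hf : F 𝒞 (χ : G → ℂ) S.z = f) :
    f ≠ 0 ∧ (2 : ℤ) ^ Cfsg.blockHeight 2 B (χ : G → ℂ) ∣ f ∧
      (Cfsg.blockHeight 2 B (χ : G → ℂ) = 0 → Odd f) := by
  haveI : Fact (Nat.Prime 2) := ⟨Nat.prime_two⟩
  haveI := Fintype.ofFinite ↥(Subgroup.centralizer ({S.z} : Set G))
  obtain ⟨φ, hφ, hφ0⟩ := CfsgLib.Blocks.exists_height_zero hM (p := 2) hB
  obtain ⟨fφ, hfφ⟩ := exists_int_F_z 𝒞 φ
  obtain ⟨hk, b, hb, hind, hle⟩ := exists_sub hM hB hmax S.z_mem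
  obtain ⟨k, hk'⟩ := id hk
  have hc : D ≤ Subgroup.centralizer ({S.z} : Set G) := S.D_le_centralizer
  have hd := blockDefect_sub hM hB hmax hc hb hle
  have heq : ∀ (a b' : IrrCharacter G) {m n : ℤ}, F 𝒞 (a : G → ℂ) S.z = m →
      F 𝒞 (b' : G → ℂ) S.z = n →
      BlocksCharsC.subContrib 2 S.z b (a : G → ℂ) b' = ((m * n : ℤ) : ℂ) := fun a b' m n hm hn => by
    rw [← cval_eq_subContrib hM hB hmax hb hle
      (card_inf_cent_central hM hB hmax S.z_mem_centralizer hb hle)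
      (Characters.isClassFunction_of_isIrr a.2) (Characters.isClassFunction_of_isIrr b'.2),
      cval_z 𝒞 hM hB hmax, hm, hn, map_intCast, Int.cast_mul]
  have hodd : ∀ {a : IrrCharacter G} {m : ℤ}, a ∈ B → Cfsg.blockHeight 2 B (a : G → ℂ) = 0 →
      F 𝒞 (a : G → ℂ) S.z = m → Odd m := fun {a m} ha h0 hm => by
    have h := BlocksCharsC.subContrib_unit hM hk hB hind ha ha h0 h0
    rw [heq a a hm hm, MajorSubsection.memLocalIdeal_intCast_iff hM] at h
    rcases Int.even_or_odd m with he | ho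
    · exact absurd ((even_iff_two_dvd.1 he).mul_right m) h
    · exact ho
  refine ⟨fun h0 => ?_, ?_, fun h0 => hodd hχ h0 hf⟩
  · refine BlocksCharsC.subContrib_ne_zero hM hB hind hd hk' hχ hφ hφ0 ?_
    rw [heq χ φ hf hfφ, h0, zero_mul, Int.cast_zero]
  · set t := Cfsg.blockHeight 2 B (χ : G → ℂ) with ht
    obtain ⟨U, hU, hle', hUe⟩ := MajorSubsection.exists_cofactor (p := 2) hχ
    have hsplit : ((U : ℤ) * (f * fφ) : ℤ) = ((2 : ℂ) ^ t) *
        BlocksCharsC.secSum 2 S.z b (χ : G → ℂ) φ := by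
      rw [Int.cast_mul, Int.cast_natCast, ← heq χ φ hf hfφ,
        BlocksCharsC.subContrib_eq hM hind hd hk' χ φ, ← mul_assoc]
      congr 1
      have hU0 : (U : ℂ) ≠ 0 := Nat.cast_ne_zero.2 fun h0 => hU (h0 ▸ dvd_zero 2)
      have hG : (Nat.card G : ℂ) ≠ 0 := Nat.cast_ne_zero.2 Nat.card_pos.ne'
      have hχ1 := Characters.irr_one_ne_zero χ.2
      have hsp : (2 : ℂ) ^ Cfsg.blockDefect 2 B =
          (2 : ℂ) ^ (Cfsg.blockDefect 2 B - t) * (2 : ℂ) ^ t := by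
        rw [← pow_add, Nat.sub_add_cancel hle']
      rw [div_eq_iff hχ1] at hUe
      rw [BlocksCharsC.defScale, hUe, Nat.cast_pow, ← ht]
      push_cast
      rw [hsp]
      field_simp
    have hdvd := Star.pow_dvd_of_eq_mul (p := 2) hM t _ _
      (BlocksCharsC.memLocalRing_secSum hM hk' χ φ) (by exact_mod_cast hsplit)
    have hcop : IsCoprime ((2 : ℤ) ^ t) ((U : ℤ) * fφ) := by
      refine IsCoprime.pow_left (IsCoprime.mul_right ?_ ?_)
      · exact Int.isCoprime_iff_gcd_eq_one.2 (by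
          simpa [Int.gcd] using (Nat.prime_two.coprime_iff_not_dvd.2 hU).gcd_eq_one)
      · obtain ⟨j, hj⟩ := hodd hφ hφ0 hfφ
        exact ⟨-j, 1, by rw [hj]; ring⟩
    refine hcop.dvd_of_dvd_mul_left ?_
    rw [show (U : ℤ) * fφ * f = U * (f * fφ) by ring]
    exact_mod_cast hdvd

end CfsgLib.TameBlocks
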