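import Cfsg.Agent.TameBlocks.Lift
import Cfsg.Agent.Star.Nilpotent

/-!
# The members of a nilpotent block as stars

The members of a nilpotent block are the stars of the irreducible characters of the maximal pair's
group on one member of height zero; at a point over `w` in that group the trace of the block below
`w` multiplies by the value at `w`.
-/

set_option autoImplicit false
set_option linter.unusedSectionVars false
set_option linter.style.haveILetI false

namespace CfsgLib.TameBlocks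

open Cfsg CfsgLib.BlockPairs CfsgLib.Star
open CfsgLib.Blocks (Res)
open CfsgLib.BlockPairing (regInner)
open scoped ComplexConjugate

universe u

variable {G : Type u} [Group G] [Fintype G] {M : Ideal AlgInt} [M.IsPrime] {p : ℕ}
  [hp : Fact p.Prime] (hM : Cfsg.IsPModular p M) {P : Subgroup G} {eP : GA (Res M) G}
  [CharP (Res M) p] [IsAlgClosed (Res M)] {B : Set (IrrCharacter G)} (hB : Cfsg.IsPBlock M B)
  (hmax : IsMaxPair p (⊤ : Subgroup G) (gblk M B) P eP) (hn : Nilp p ⊤ (gblk M B))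
  {χ : IrrCharacter G} (hχ : χ ∈ B) (h0 : Cfsg.blockHeight p B (χ : G → ℂ) = 0)

include hM hB hmax hn hχ h0

/-- The members are the stars on a member of height zero. -/
theorem exists_param_star :
    ∃ Ψ : IrrCharacter P → IrrCharacter G, Function.Injective Ψ ∧
      (∀ ψ, ψ ∈ B ↔ ∃ θ, Ψ θ = ψ) ∧
      ∀ θ : IrrCharacter P,
        (Ψ θ : G → ℂ) = star p P eP (Cfsg.extendByZero P (θ : P → ℂ)) (χ : G → ℂ) := by
  classical
  obtain ⟨Φ, hΦi, hΦ, hΦreg⟩ := Star.exists_param hM hB hmax hn hχ h0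
  set ext : IrrCharacter P → G → ℂ := fun θ => Cfsg.extendByZero P (θ : P → ℂ) with hextdef
  have hext : ∀ (θ : IrrCharacter P) (w : P), ext θ (w : G) = (θ : P → ℂ) w := fun θ w =>
    Characters.extendByZero_of_mem P _ w.2
  have hinv : ∀ θ : IrrCharacter P, IsInvariant p P eP (ext θ) := fun θ =>
    isInvariant_extend hB hmax hn (Characters.isClassFunction_of_isIrr θ.2)
  have hinner : ∀ θ θ' : IrrCharacter P,
      Cfsg.classInner (star p P eP (ext θ) (χ : G → ℂ)) (star p P eP (ext θ') (χ : G → ℂ)) =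
        if θ = θ' then 1 else 0 := fun θ θ' => by
    rw [classInner_star_eq hM hB hmax hn hχ (hinv θ) (hinv θ')]
    simp only [hext, aval_eq_one hM hB hmax hn hχ h0, mul_one]
    exact Characters.classInner_irr θ θ'
  have hreg : ∀ (θ : IrrCharacter P) (g : G), ¬ p ∣ orderOf g →
      star p P eP (ext θ) (χ : G → ℂ) g = (θ : P → ℂ) 1 * (χ : G → ℂ) g := fun θ g hg => by
    rw [star_regular hM hB hmax (hinv θ) hχ hg, show (1 : G) = ((1 : P) : G) from rfl, hext]
  have hgen : ∀ θ : IrrCharacter P,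
      Cfsg.IsGeneralizedCharacter G (star p P eP (ext θ) (χ : G → ℂ)) := fun θ => by
    refine isGen_star hM (isBlock_gblk hB) hmax (hinv θ) ?_ (Characters.isCharacter_of_isIrr χ.2)
    simp only [hext]
    exact Characters.isGen_of_isIrr θ.2
  have hirr : ∀ θ : IrrCharacter P, Cfsg.IsIrrCharacter G (star p P eP (ext θ) (χ : G → ℂ)) :=
    fun θ => by
    refine Characters.isIrr_of_gen_norm_one (hgen θ) ((hinner θ θ).trans (if_pos rfl)) ?_
    obtain ⟨n, hn0, hdeg⟩ := Characters.exists_degree_pos χ.2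
    obtain ⟨m, hm0, hdegθ⟩ := Characters.exists_degree_pos θ.2
    rw [hreg θ 1 (by rw [orderOf_one]; exact hp.out.not_dvd_one), hdeg, hdegθ]
    simp only [Complex.mul_re, Complex.natCast_re, Complex.natCast_im, mul_zero, sub_zero]
    positivity
  let Ψ : IrrCharacter P → IrrCharacter G := fun θ => ⟨_, hirr θ⟩
  have hmem : ∀ θ, Ψ θ ∈ B := fun θ => by
    by_contra hnot
    have h1 := Contributions.regInner_eq_zero (p := p) hM hB ((hΦ _).2 ⟨θ, rfl⟩) hnot
    rw [BlocksCharsC.regInner_congr_right (ψ' := (Φ θ : G → ℂ)) _ (fun g hg => by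
      show star p P eP (ext θ) (χ : G → ℂ) g = _
      rw [hreg θ g hg, hΦreg θ g hg])] at h1
    have h2 := congrArg Complex.re h1
    rw [regInner, Complex.zero_re, ← Complex.ofReal_natCast, ← Complex.ofReal_inv,
      Complex.re_ofReal_mul, mul_eq_zero, inv_eq_zero, Complex.re_sum] at h2
    have h3 := (Finset.sum_eq_zero_iff_of_nonneg (fun g _ => ?_)).1
      (h2.resolve_left (Nat.cast_ne_zero.2 Nat.card_pos.ne')) 1 (Finset.mem_univ _)
    · rw [orderOf_one, if_neg hp.out.not_dvd_one, Complex.mul_conj, Complex.ofReal_re,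
        Complex.normSq_eq_zero] at h3
      exact Characters.irr_one_ne_zero (Φ θ).2 h3
    · split_ifs
      · simp
      · rw [Complex.mul_conj, Complex.ofReal_re]
        exact Complex.normSq_nonneg _
  have hinj : Function.Injective Ψ := fun θ θ' h => by
    by_contra hne'
    have h1 := hinner θ θ'
    rw [if_neg hne', show star p P eP (ext θ') (χ : G → ℂ) = star p P eP (ext θ) (χ : G → ℂ) from
      (congrArg Subtype.val h).symm, hinner θ θ, if_pos rfl] at h1
    exact one_ne_zero h1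
  refine ⟨Ψ, hinj, fun ψ => ⟨fun hψ => ?_, ?_⟩, fun θ => rfl⟩
  · obtain ⟨θ, rfl⟩ := (hΦ ψ).1 hψ
    have hsub : Finset.univ.image Ψ ⊆ Finset.univ.image Φ := fun x hx => by
      obtain ⟨t, -, rfl⟩ := Finset.mem_image.1 hx
      obtain ⟨t', ht'⟩ := (hΦ _).1 (hmem t)
      exact Finset.mem_image.2 ⟨t', Finset.mem_univ _, ht'⟩
    have heq := Finset.eq_of_subset_of_card_le hsub (by
      rw [Finset.card_image_of_injective _ hinj, Finset.card_image_of_injective _ hΦi])
    obtain ⟨t, -, ht⟩ := Finset.mem_image.1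
      (show Φ θ ∈ Finset.univ.image Ψ from heq ▸ Finset.mem_image.2 ⟨θ, Finset.mem_univ _, rfl⟩)
    exact ⟨t, ht⟩
  · rintro ⟨θ, rfl⟩
    exact hmem θ

omit h0 hχ hn in
/-- Only the members see the blocks below the maximal pair. -/
theorem T_below_eq_zero {ξ : IrrCharacter G} (hξ : ξ ∉ B) {w : G} (hw : w ∈ P)
    (s : ↥(Subgroup.centralizer ({w} : Set G))) (hs : ¬ p ∣ orderOf s) :
    T M (ξ : G → ℂ) (w * (s : G)) (below p P eP (Subgroup.zpowers w)) = 0 := by
  obtain ⟨k, hk⟩ := hmax.1.1.2.1 ⟨w, hw⟩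
  obtain ⟨i, -, hi⟩ := (Nat.dvd_prime_pow hp.out).1
    (orderOf_dvd_of_pow_eq_one (x := w) (n := p ^ k) (congrArg Subtype.val hk))
  have hB' := CfsgLib.Blocks.isPBlock_blockOf (M := M) ξ
  set B' := Cfsg.blockOf M (ξ : G → ℂ) with hB'def
  have hξ' : ξ ∈ B' := CfsgLib.Blocks.mem_blockOf_self ξ
  have hne : B' ≠ B := fun h => hξ (h ▸ hξ')
  have hprod : gblk M B' * gblk M B = (0 : GA (Res M) G) :=
    ((isBlock_gblk hB').eq_or_mul_eq_zero (isBlock_gblk hB)).resolve_left
      fun h => hne (gblk_inj hB' hB h)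
  have hPz := (hmax.1.1.2.1).to_le (Subgroup.zpowers_le.2 hw)
  have h3 := ((blockHas_iff_of_le (isBlock_gblk hB) (le_below hmax hw)
    (le_pair hmax.1.1 (le_below hmax hw))).2 hmax.1).2
  have h2 : br (Subgroup.zpowers w) (gblk M B') * below p P eP (Subgroup.zpowers w) = 0 := by
    rw [← h3, ← mul_assoc, ← br_mul hPz ((isBlock_gblk hB').fixed.mono le_top)
      ((isBlock_gblk hB).fixed.mono le_top), hprod, br_zero, zero_mul]
  have hpp := pPart_mul_regular ⟨i, hi⟩ hs
  exact T_eq_zero_of_not_under hM hB' hξ' (by rw [hpp]; exact below_mem_blocks hmax hw)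
    (by rw [hpp]; exact h2)

omit h0 hχ hn in
/-- The trace of a star of a block below. -/
theorem T_star_below {ζ : G → ℂ} (hζ : IsInvariant p P eP ζ) {φ : G → ℂ}
    (hφ : Cfsg.IsClassFunction G φ) {w : G} (hw : w ∈ P)
    (s : ↥(Subgroup.centralizer ({w} : Set G))) (hs : ¬ p ∣ orderOf s) :
    T M (star p P eP ζ φ) (w * (s : G)) (below p P eP (Subgroup.zpowers w)) =
      ζ w * T M φ (w * (s : G)) (below p P eP (Subgroup.zpowers w)) := by
  obtain ⟨k, hk⟩ := hmax.1.1.2.1 ⟨w, hw⟩
  obtain ⟨i, -, hi⟩ := (Nat.dvd_prime_pow hp.out).1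
    (orderOf_dvd_of_pow_eq_one (x := w) (n := p ^ k) (congrArg Subtype.val hk))
  have hpp := pPart_mul_regular ⟨i, hi⟩ hs
  rw [T_star hM hζ hφ (by rw [hpp]; exact below_mem_blocks hmax hw), hpp,
    zt_eq hζ (x := 1) (by rw [conjA_one_left, cj_one]; exact le_below hmax hw)]
  simp

end CfsgLib.TameBlocks
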