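import Cfsg.Agent.TameBlocks.DihedralFusion
import Cfsg.Agent.TameBlocks.Param
import Cfsg.Agent.BlocksCharsC.Congruence
import Cfsg.Agent.Blocks.HeightZero

/-!
# The generalized characters of the dihedral group belonging to the characters

For a character `χ` the function `F χ` collects the multiplicities in `χ` of the members
`θ * χ₀` of the nilpotent block at the central involution; the trace at `r * s`, `r` a nontrivial
rotation, of the block below `r` is `F χ r` times that of `χ₀`.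
-/

set_option autoImplicit false
set_option linter.unusedSectionVars false
set_option linter.style.haveILetI false

namespace CfsgLib.TameBlocks

open Cfsg CfsgLib.BlockPairs CfsgLib.Star
open CfsgLib.Blocks (Res)
open scoped ComplexConjugate Classical

universe u

variable {G : Type u} [Group G] [Fintype G] (M : Ideal AlgInt) [M.IsPrime]
  [CharP (Res M) 2] [IsAlgClosed (Res M)] {D : Subgroup G} (eP : GA (Res M) G) {h : ℕ}
  (S : Shape D h)

/-- The centralizer of the central involution. -/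
abbrev KS : Subgroup G := cent ⊤ (Subgroup.zpowers S.z)

/-- The dihedral group inside the centralizer. -/
abbrev DS : Subgroup ↥(KS S) := D.subgroupOf (KS S)

theorem KS_eq : KS S = Subgroup.centralizer ({S.z} : Set G) := Star.cent_zpowers S.z

theorem D_le_KS : D ≤ KS S := by rw [KS_eq]; exact S.D_le_centralizer

/-- The nilpotent block at the central involution with its parametrization. -/
structure CenterData where
  b : Set (IrrCharacter ↥(KS S))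
  e : GA (Res M) ↥(KS S)
  χ₀ : IrrCharacter ↥(KS S)
  Ψ : IrrCharacter ↥(DS S) → IrrCharacter ↥(KS S)
  block : Cfsg.IsPBlock M b
  sblk_eq : sblk M (KS S) b = below 2 D eP (Subgroup.zpowers S.z)
  emb_eq : emb (KS S).subtype e = eP
  maxPair : IsMaxPair 2 ⊤ (gblk M b) (DS S) e
  nilp : Nilp 2 ⊤ (gblk M b)
  mem : χ₀ ∈ b
  height : Cfsg.blockHeight 2 b (χ₀ : ↥(KS S) → ℂ) = 0
  inj : Function.Injective Ψ
  mem_iff : ∀ ψ, ψ ∈ b ↔ ∃ θ, Ψ θ = ψ
  eqn : ∀ θ : IrrCharacter ↥(DS S), (Ψ θ : ↥(KS S) → ℂ) =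
    star 2 (DS S) e (Cfsg.extendByZero (DS S) (θ : ↥(DS S) → ℂ)) (χ₀ : ↥(KS S) → ℂ)

variable {M eP} (hM : Cfsg.IsPModular 2 M) {B : Set (IrrCharacter G)} (hB : Cfsg.IsPBlock M B)
  (hmax : IsMaxPair 2 (⊤ : Subgroup G) (gblk M B) D eP)

include hM hB hmax in
theorem exists_centerData : Nonempty (CenterData M eP S) := by
  have hK := Star.isMaxPair_central hB hmax S.z_mem S.z_mem_centralizer
  obtain ⟨b, e, hb, hsb, hemb, hmK, hnK⟩ := exists_local_nilp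
    (mem_blocks.1 (below_mem_blocks hmax S.z_mem)) hK (nilp_below_z hB hmax S)
  obtain ⟨χ₀, hχ, h0⟩ := CfsgLib.Blocks.exists_height_zero hM (p := 2) hb
  obtain ⟨Ψ, hi, hiff, heq⟩ := exists_param_star hM hb hmK hnK hχ h0
  exact ⟨⟨b, e, χ₀, Ψ, hb, hsb, hemb, hmK, hnK, hχ, h0, hi, hiff, heq⟩⟩

variable {S} (𝒞 : CenterData M eP S)

/-- An element of the dihedral group in the centralizer. -/
def liftD : D →* ↥(DS S) :=
  (Subgroup.subgroupOfEquivOfLe (D_le_KS S)).symm.toMonoidHom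

theorem liftD_coe (x : D) : ((liftD (S := S) x : ↥(KS S)) : G) = x := rfl

/-- The multiplicities of the members in the restriction. -/
noncomputable def mult (χ : G → ℂ) (θ : IrrCharacter ↥(DS S)) : ℂ :=
  Cfsg.classInner (fun k : ↥(KS S) => χ (k : G)) (𝒞.Ψ θ : ↥(KS S) → ℂ)

/-- The generalized character of the dihedral group belonging to `χ`, extended by zero. -/
noncomputable def F (χ : G → ℂ) : G → ℂ :=
  Cfsg.extendByZero D fun x : D => ∑ θ : IrrCharacter ↥(DS S),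
    mult 𝒞 χ θ * (θ : ↥(DS S) → ℂ) (liftD x)

theorem F_apply (χ : G → ℂ) {x : G} (hx : x ∈ D) :
    F 𝒞 χ x = ∑ θ : IrrCharacter ↥(DS S), mult 𝒞 χ θ * (θ : ↥(DS S) → ℂ) (liftD ⟨x, hx⟩) :=
  Characters.extendByZero_of_mem D _ hx

/-- The function on the dihedral group belonging to a function on the centralizer. -/
noncomputable def FK (φ : ↥(KS S) → ℂ) (w : ↥(DS S)) : ℂ :=
  ∑ θ : IrrCharacter ↥(DS S),
    Cfsg.classInner φ (𝒞.Ψ θ : ↥(KS S) → ℂ) * (θ : ↥(DS S) → ℂ) w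

theorem F_eq_FK (χ : G → ℂ) {x : G} (hx : x ∈ D) :
    F 𝒞 χ x = FK 𝒞 (fun k : ↥(KS S) => χ (k : G)) (liftD ⟨x, hx⟩) :=
  F_apply 𝒞 χ hx

theorem exists_mult_int (χ : IrrCharacter G) (θ : IrrCharacter ↥(DS S)) :
    ∃ m : ℕ, mult 𝒞 (χ : G → ℂ) θ = (m : ℂ) :=
  Characters.classInner_character_irr
    (Characters.isCharacter_restrict (KS S) (Characters.isCharacter_of_isIrr χ.2)) (𝒞.Ψ θ).2

theorem isGen_F (χ : IrrCharacter G) :
    Cfsg.IsGeneralizedCharacter D fun x : D => F 𝒞 (χ : G → ℂ) (x : G) := by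
  choose m hm using exists_mult_int 𝒞 χ
  have h1 : ∀ θ : IrrCharacter ↥(DS S), Cfsg.IsGeneralizedCharacter D fun x : D =>
      ((m θ : ℤ) : ℂ) * (θ : ↥(DS S) → ℂ) (liftD x) := fun θ => by
    exact Characters.isGen_zsmul (Characters.isGen_comp liftD (Characters.isGen_of_isIrr θ.2)) _
  have h2 := Characters.isGen_sum (G := D) Finset.univ _ fun θ _ => h1 θ
  convert h2 using 1
  funext x
  rw [F_apply 𝒞 _ x.2, Finset.sum_apply]
  exact Finset.sum_congr rfl fun θ _ => by rw [hm θ, Int.cast_natCast]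

theorem F_conj (χ : IrrCharacter G) {x y : G} (hx : x ∈ D) (hy : y ∈ D) :
    F 𝒞 (χ : G → ℂ) (y * x * y⁻¹) = F 𝒞 (χ : G → ℂ) x :=
  Characters.isClassFunction_of_isGen (isGen_F 𝒞 χ) ⟨x, hx⟩ ⟨y, hy⟩

theorem F_isIntegral (χ : IrrCharacter G) {x : G} (hx : x ∈ D) :
    IsIntegral ℤ (F 𝒞 (χ : G → ℂ) x) :=
  Characters.gen_isIntegral (isGen_F 𝒞 χ) ⟨x, hx⟩

theorem conj_F (χ : IrrCharacter G) {x : G} (hx : x ∈ D) :
    conj (F 𝒞 (χ : G → ℂ) x) = F 𝒞 (χ : G → ℂ) x⁻¹ :=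
  (Characters.gen_inv (isGen_F 𝒞 χ) ⟨x, hx⟩).symm

/-- The values at rotations are real. -/
theorem F_rot_inv (χ : IrrCharacter G) {x : G} (hx : x ∈ Subgroup.zpowers S.σ) :
    F 𝒞 (χ : G → ℂ) x⁻¹ = F 𝒞 (χ : G → ℂ) x := by
  rw [← S.refl_conj S.τ_mem S.τ_not_mem hx, F_conj 𝒞 χ (S.zpowers_le hx) S.τ_mem]

theorem conj_F_rot (χ : IrrCharacter G) {x : G} (hx : x ∈ Subgroup.zpowers S.σ) :
    conj (F 𝒞 (χ : G → ℂ) x) = F 𝒞 (χ : G → ℂ) x := by
  rw [conj_F 𝒞 χ (S.zpowers_le hx), F_rot_inv 𝒞 χ hx]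

include hM in
/-- All values are congruent. -/
theorem F_sub_mem (χ : IrrCharacter G) {x : G} (hx : x ∈ D) :
    Cfsg.MemLocalIdeal M (F 𝒞 (χ : G → ℂ) x - F 𝒞 (χ : G → ℂ) 1) := by
  obtain ⟨φ, ψ, hφ, hψ, he⟩ := isGen_F 𝒞 χ
  have h1 := congrFun he ⟨x, hx⟩
  have h2 := congrFun he 1
  simp only [Pi.sub_apply, OneMemClass.coe_one] at h1 h2
  obtain ⟨k, hk⟩ := S.isPGroup ⟨x, hx⟩
  obtain ⟨i, -, hi⟩ := (Nat.dvd_prime_pow Nat.prime_two).1 (orderOf_dvd_of_pow_eq_one hk)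
  have key : ∀ {η : D → ℂ}, Cfsg.IsCharacter D η →
      Cfsg.MemLocalIdeal M (η ⟨x, hx⟩ - η 1) := fun {η} hη => by
    obtain ⟨a, ha, hae⟩ := BlocksCharsC.sub_degree_mem hM hη hi
    exact ⟨a, 1, ha, fun h1 => (inferInstance : M.IsPrime).ne_top ((Ideal.eq_top_iff_one M).2 h1),
      by rw [hae]; simp⟩
  rw [h1, h2, show φ ⟨x, hx⟩ - ψ ⟨x, hx⟩ - (φ 1 - ψ 1) =
    (φ ⟨x, hx⟩ - φ 1) - (ψ ⟨x, hx⟩ - ψ 1) by ring]
  exact CfsgLib.Blocks.memLocalIdeal_sub (key hφ) (key hψ)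

include hmax

/-- The block below a rotation comes from the centralizer of the central involution. -/
theorem below_rot {r : G} (hr : r ∈ Subgroup.zpowers S.σ) (h1 : r ≠ 1) :
    below 2 D eP (Subgroup.zpowers r) = emb (KS S).subtype (below 2 (DS S) 𝒞.e
      (Subgroup.zpowers (⟨r, D_le_KS S (S.zpowers_le hr)⟩ : ↥(KS S)))) := by
  set r' : ↥(KS S) := ⟨r, D_le_KS S (S.zpowers_le hr)⟩ with hr'
  have hr'D : r' ∈ DS S := Subgroup.mem_subgroupOf.2 (S.zpowers_le hr)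
  have hinj := (KS S).subtype_injective
  have hQm : (Subgroup.zpowers r').map (KS S).subtype = Subgroup.zpowers r :=
    MonoidHom.map_zpowers _ _
  have hDm : (DS S).map (KS S).subtype = D := Subgroup.map_subgroupOf_eq_of_le (D_le_KS S)
  have htop : (⊤ : Subgroup ↥(KS S)).map (KS S).subtype = KS S := by
    rw [← MonoidHom.range_eq_map, (KS S).range_subtype]
  have hCK : Subgroup.centralizer ({r} : Set G) ≤ KS S := by
    rw [KS_eq]; exact S.centralizer_rot_le hr h1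
  have hN : DS S ≤ Subgroup.normalizer ((Subgroup.zpowers r' : Subgroup ↥(KS S)) : Set ↥(KS S)) := fun y hy => by
    refine mem_normalizer_of_cj_eq ?_
    rw [Star.cj_zpowers]
    rcases S.conj_rot (Subgroup.mem_subgroupOf.1 hy) hr with e | e
    · rw [show y * r' * y⁻¹ = r' from Subtype.ext e]
    · rw [show y * r' * y⁻¹ = r'⁻¹ from Subtype.ext e, Subgroup.zpowers_inv]
  obtain ⟨g, hs, hg⟩ := step_of_le (le_below 𝒞.maxPair hr'D) 𝒞.maxPair.1.1
    (Subgroup.zpowers_le.2 hr'D) le_rfl hN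
  rw [le_unique hg Le.refl'] at hs
  refine below_eq hmax (Le.of_step ⟨?_, hmax.1.1, Subgroup.zpowers_le.2 (S.zpowers_le hr), ?_, ?_, ?_⟩)
  · refine ⟨le_top, (hmax.1.1.2.1).to_le (Subgroup.zpowers_le.2 (S.zpowers_le hr)), ?_⟩
    have hb := (isBlock_map_iff (φ := (KS S).subtype) hinj).2 hs.1.2.2
    rw [map_cent hinj, htop, hQm] at hb
    rwa [show cent (KS S) (Subgroup.zpowers r) = cent ⊤ (Subgroup.zpowers r) from by
      refine le_antisymm (inf_le_inf_right _ le_top) (le_inf ?_ inf_le_right)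
      rw [Star.cent_zpowers]; exact hCK] at hb
  · intro y hy
    refine mem_normalizer_of_cj_eq ?_
    rw [Star.cj_zpowers]
    rcases S.conj_rot hy hr with e | e <;> simp [e]
  · have h := (isFixed_map_iff (φ := (KS S).subtype) hinj).2
      (show IsFixed (DS S) (below 2 (DS S) 𝒞.e (Subgroup.zpowers r')) from hs.2.2.2.2.1)
    rwa [hDm] at h
  · show br D (emb (KS S).subtype _) * eP = eP
    have h : emb (KS S).subtype (br (DS S) (below 2 (DS S) 𝒞.e (Subgroup.zpowers r')) * 𝒞.e) =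
        emb (KS S).subtype 𝒞.e := congrArg _ hs.2.2.2.2.2
    rw [map_mul, ← br_emb hinj, hDm, 𝒞.emb_eq] at h
    exact h

include hM

/-- The trace of a block below at the centralizer of the central involution. -/
theorem TK_F {φ : ↥(KS S) → ℂ} (hφ : Cfsg.IsClassFunction ↥(KS S) φ) (w : ↥(DS S))
    (s : ↥(Subgroup.centralizer ({(w : ↥(KS S))} : Set ↥(KS S)))) (hs : ¬ 2 ∣ orderOf s) :
    T M φ ((w : ↥(KS S)) * (s : ↥(KS S)))
        (below 2 (DS S) 𝒞.e (Subgroup.zpowers (w : ↥(KS S)))) =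
      FK 𝒞 φ w * T M (𝒞.χ₀ : ↥(KS S) → ℂ) ((w : ↥(KS S)) * (s : ↥(KS S)))
        (below 2 (DS S) 𝒞.e (Subgroup.zpowers (w : ↥(KS S)))) := by
  haveI : Fact (Nat.Prime 2) := ⟨Nat.prime_two⟩
  have hjb := mem_blocks.1 (below_mem_blocks 𝒞.maxPair w.2)
  have hfix := hjb.fixed ((w : ↥(KS S)) * (s : ↥(KS S))) (by
    rw [Star.cent_zpowers]
    exact mul_mem (Subgroup.mem_centralizer_singleton_iff.2 rfl) s.2)
  have hexp : φ = fun k => ∑ ξ : IrrCharacter ↥(KS S),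
      Cfsg.classInner φ (ξ : ↥(KS S) → ℂ) * (ξ : ↥(KS S) → ℂ) k := by
    funext k
    have := congrFun (Characters.classFunction_expansion hφ) k
    simpa [Finset.sum_apply] using this
  conv_lhs => rw [hexp]
  rw [T_fun_sum Finset.univ _ (fun ξ : IrrCharacter ↥(KS S) => (ξ : ↥(KS S) → ℂ))
    (fun ξ _ => Characters.isClassFunction_of_isIrr ξ.2) hjb.idem hfix, FK, Finset.sum_mul]
  rw [← Finset.sum_subset (Finset.subset_univ (Finset.univ.image 𝒞.Ψ)) fun ξ _ hξ => ?_,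
    Finset.sum_image fun a _ b _ e => 𝒞.inj e]
  · refine Finset.sum_congr rfl fun θ _ => ?_
    rw [mul_assoc]
    congr 1
    rw [𝒞.eqn, T_star_below hM 𝒞.block 𝒞.maxPair
      (isInvariant_extend 𝒞.block 𝒞.maxPair 𝒞.nilp (Characters.isClassFunction_of_isIrr θ.2))
      (Characters.isClassFunction_of_isIrr 𝒞.χ₀.2) w.2 s hs,
      Characters.extendByZero_of_mem (DS S) _ w.2]
  · refine mul_eq_zero_of_right _ (T_below_eq_zero hM 𝒞.block 𝒞.maxPair (fun hb => hξ ?_)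
      w.2 s hs)
    obtain ⟨θ, rfl⟩ := (𝒞.mem_iff ξ).1 hb
    exact Finset.mem_image.2 ⟨θ, Finset.mem_univ _, rfl⟩

/-- The trace of the block below a rotation. -/
theorem T_F {χ : G → ℂ} (hχ : Cfsg.IsClassFunction G χ) {r : G}
    (hr : r ∈ Subgroup.zpowers S.σ) (h1 : r ≠ 1)
    (s : ↥(Subgroup.centralizer ({(⟨r, D_le_KS S (S.zpowers_le hr)⟩ : ↥(KS S))} : Set ↥(KS S))))
    (hs : ¬ 2 ∣ orderOf s) :
    T M χ (r * ((s : ↥(KS S)) : G)) (below 2 D eP (Subgroup.zpowers r)) =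
      F 𝒞 χ r * T M (𝒞.χ₀ : ↥(KS S) → ℂ)
        ((⟨r, D_le_KS S (S.zpowers_le hr)⟩ : ↥(KS S)) * (s : ↥(KS S)))
        (below 2 (DS S) 𝒞.e (Subgroup.zpowers (⟨r, D_le_KS S (S.zpowers_le hr)⟩ : ↥(KS S)))) := by
  haveI : Fact (Nat.Prime 2) := ⟨Nat.prime_two⟩
  revert s hs
  set r' : ↥(KS S) := ⟨r, D_le_KS S (S.zpowers_le hr)⟩ with hr'
  intro s hs
  have hr'D : r' ∈ DS S := Subgroup.mem_subgroupOf.2 (S.zpowers_le hr)
  have hjb := mem_blocks.1 (below_mem_blocks 𝒞.maxPair hr'D)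
  have hfix := hjb.fixed (r' * (s : ↥(KS S))) (by
    rw [Star.cent_zpowers]
    exact mul_mem (Subgroup.mem_centralizer_singleton_iff.2 rfl) s.2)
  rw [below_rot hmax 𝒞 hr h1,
    show r * ((s : ↥(KS S)) : G) = ((r' * (s : ↥(KS S)) : ↥(KS S)) : G) from rfl,
    T_emb (KS S) hχ hjb.idem hfix, F_eq_FK 𝒞 χ (S.zpowers_le hr)]
  exact TK_F hM hmax 𝒞 (isClassFunction_comap (KS S) hχ) (liftD ⟨r, S.zpowers_le hr⟩) s hs

/-- The contribution of a nontrivial rotation. -/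
theorem sval_eq_F {χ ψ : G → ℂ} (hχ : Cfsg.IsClassFunction G χ) (hψ : Cfsg.IsClassFunction G ψ)
    {r : G} (hr : r ∈ Subgroup.zpowers S.σ) (h1 : r ≠ 1) :
    sval 2 D eP r χ ψ = F 𝒞 χ r * conj (F 𝒞 ψ r) /
      (Nat.card ↥(D ⊓ Subgroup.centralizer ({r} : Set G)) : ℂ) := by
  haveI : Fact (Nat.Prime 2) := ⟨Nat.prime_two⟩
  set r' : ↥(KS S) := ⟨r, D_le_KS S (S.zpowers_le hr)⟩ with hr'
  have hr'D : r' ∈ DS S := Subgroup.mem_subgroupOf.2 (S.zpowers_le hr)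
  have hCK : Subgroup.centralizer ({r} : Set G) ≤ KS S := by
    rw [KS_eq]; exact S.centralizer_rot_le hr h1
  set C := Subgroup.centralizer ({r} : Set G) with hC
  set C' := Subgroup.centralizer ({r'} : Set ↥(KS S)) with hC'
  have hCm : C' = C.subgroupOf (KS S) := by
    ext k
    simp [hC', hC, Subgroup.mem_subgroupOf, Subgroup.mem_centralizer_singleton_iff, hr',
      Subtype.ext_iff]
  let eC : ↥C' ≃* ↥C :=
    (MulEquiv.subgroupCongr hCm).trans (Subgroup.subgroupOfEquivOfLe hCK)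
  have heC : ∀ s : ↥C', ((eC s : ↥C) : G) = ((s : ↥(KS S)) : G) := fun s => rfl
  have ha := aval_eq_one hM 𝒞.block 𝒞.maxPair 𝒞.nilp 𝒞.mem 𝒞.height ⟨r', hr'D⟩
  rw [aval, cval, wt, Star.cent_zpowers, nsum_eq_sum, ← hC'] at ha
  have hinf : Nat.card ↥(DS S ⊓ C') = Nat.card ↥(D ⊓ C) := by
    rw [hCm, DS, ← Subgroup.inf_subgroupOf_right]
    refine Nat.card_congr (Equiv.trans ?_ (Subgroup.subgroupOfEquivOfLe
      (inf_le_left.trans (D_le_KS S) : D ⊓ C ≤ KS S)).toEquiv)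
    refine (MulEquiv.subgroupCongr ?_).toEquiv
    ext k
    simp [Subgroup.mem_subgroupOf]
    exact fun _ hk => (D_le_KS S hk).2
  rw [hinf, ← Nat.card_congr eC.toEquiv.symm] at ha
  rw [sval, Star.cent_zpowers, nsum_eq_sum, ← hC]
  have hterm : ∀ s : ↥C', (if 2 ∣ orderOf (eC s) then 0 else
      T M χ (r * ((eC s : ↥C) : G)) (below 2 D eP (Subgroup.zpowers r)) *
        conj (T M ψ (r * ((eC s : ↥C) : G)) (below 2 D eP (Subgroup.zpowers r)))) =
      F 𝒞 χ r * conj (F 𝒞 ψ r) * (if 2 ∣ orderOf s then 0 else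
        T M (𝒞.χ₀ : ↥(KS S) → ℂ) (r' * (s : ↥(KS S))) (below 2 (DS S) 𝒞.e (Subgroup.zpowers r')) *
          conj (T M (𝒞.χ₀ : ↥(KS S) → ℂ) (r' * (s : ↥(KS S)))
            (below 2 (DS S) 𝒞.e (Subgroup.zpowers r')))) := fun s => by
    rw [MulEquiv.orderOf_eq]
    split_ifs with hs
    · rw [mul_zero]
    · rw [heC, T_F hM hmax 𝒞 hχ hr h1 s hs, T_F hM hmax 𝒞 hψ hr h1 s hs, map_mul]
      ring
  rw [← Fintype.sum_equiv eC.toEquiv _ _ fun s => (hterm s).symm, ← Finset.mul_sum]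
  have hC0 : (Nat.card ↥C : ℂ) ≠ 0 := Nat.cast_ne_zero.2 Nat.card_pos.ne'
  have hD0 : (Nat.card ↥(D ⊓ C) : ℂ) ≠ 0 := Nat.cast_ne_zero.2 Nat.card_pos.ne'
  field_simp at ha ⊢
  linear_combination (F 𝒞 χ r * conj (F 𝒞 ψ r)) * ha

end CfsgLib.TameBlocks
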