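import Cfsg.Agent.Characters.FixedPoints
import Cfsg.Agent.BlocksCharsC.SubsectionUnit
import Cfsg.Agent.TwoClasses.Tools

/-!
# Sums over the generators of a cyclic group

For a real-valued generalized character `g` of a cyclic group of order `2 * h` the sum of
`g` over the odd powers of a generator is `h` times an integer of the parity of `g 1`.
-/

set_option autoImplicit false
set_option linter.unusedSectionVars false

namespace CfsgLib.TameBlocks

open Cfsg
open scoped ComplexConjugate

universe u

variable {C : Type u} [Group C] [Fintype C]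

theorem exists_odd_sum (c : C) (hgen : ∀ x : C, x ∈ Subgroup.zpowers c) {h : ℕ}
    (ho : orderOf c = 2 * h) {g : C → ℂ} (hg : Cfsg.IsGeneralizedCharacter C g)
    (hreal : ∀ x, g x⁻¹ = g x) :
    ∃ N : ℤ, ∑ j ∈ Finset.range h, g (c ^ (2 * j + 1)) = (h : ℂ) * (N : ℂ) ∧
      ∀ f : ℤ, g 1 = (f : ℂ) → Even (N - f) := by
  classical
  obtain ⟨n, hexp, hn⟩ := Characters.exists_int_coeff hg
  have hcomm : ∀ a b : C, a * b = b * a := fun a b => by
    obtain ⟨i, rfl⟩ := hgen a
    obtain ⟨j, rfl⟩ := hgen b
    exact ((Commute.refl c).zpow_zpow i j).eq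
  have hcen : ∀ a : C, a ∈ Subgroup.center C := fun a =>
    Subgroup.mem_center_iff.2 fun b => hcomm b a
  have hdeg : ∀ l : IrrCharacter C, (l : C → ℂ) 1 = 1 := fun l =>
    TwoClasses.irr_degree_one_of_comm hcomm l.2
  have hmul : ∀ (l : IrrCharacter C) (a b : C),
      (l : C → ℂ) (a * b) = (l : C → ℂ) a * (l : C → ℂ) b := fun l a b => by
    have := BlocksCharsC.irr_central_mul l.2 (hcen a) b
    rwa [hdeg, mul_one] at this
  have hpow : ∀ (l : IrrCharacter C) (k : ℕ), (l : C → ℂ) (c ^ k) = (l : C → ℂ) c ^ k := fun l k => by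
    induction k with
    | zero => rw [pow_zero, pow_zero, hdeg]
    | succ k ih => rw [pow_succ, hmul, ih, pow_succ]
  set ε : IrrCharacter C → ℤ := fun l =>
    if (l : C → ℂ) c = 1 then 1 else if (l : C → ℂ) c = -1 then -1 else 0 with hεdef
  have hsum : ∀ l : IrrCharacter C,
      ∑ j ∈ Finset.range h, (l : C → ℂ) (c ^ (2 * j + 1)) = (h : ℂ) * (ε l : ℂ) := fun l => by
    simp only [hpow, hεdef]
    set ω := (l : C → ℂ) c
    by_cases h1 : ω = 1
    · rw [if_pos h1, h1]; simp
    by_cases h2 : ω = -1
    · rw [if_neg h1, if_pos h2, h2]; simp [pow_succ, pow_mul]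
    · rw [if_neg h1, if_neg h2, Int.cast_zero, mul_zero]
      have hne : ω ^ 2 ≠ 1 := fun e => by
        rcases sq_eq_one_iff.1 e with e | e
        · exact h1 e
        · exact h2 e
      rw [Finset.sum_congr rfl fun j _ => show ω ^ (2 * j + 1) = (ω ^ 2) ^ j * ω by
        rw [pow_succ, pow_mul], ← Finset.sum_mul, geom_sum_eq hne, ← pow_mul, ← hpow, ← ho,
        pow_orderOf_eq_one, hdeg, sub_self, zero_div, zero_mul]
  refine ⟨∑ l, n l * ε l, ?_, fun f hf => ?_⟩
  · rw [hexp]
    simp only [Finset.sum_apply, Pi.smul_apply, smul_eq_mul]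
    rw [Finset.sum_comm]
    push_cast
    rw [Finset.mul_sum]
    refine Finset.sum_congr rfl fun l _ => ?_
    rw [← Finset.mul_sum, hsum]
    ring
  · have hf' : f = ∑ l, n l := by
      refine Int.cast_injective (α := ℂ) ?_
      rw [← hf, hexp]
      push_cast
      simp [Finset.sum_apply, hdeg]
    rw [hf', ← Finset.sum_sub_distrib, even_iff_two_dvd,
      show (2 : ℤ) = ((2 : ℕ) : ℤ) from rfl, ← ZMod.intCast_zmod_eq_zero_iff_dvd, Int.cast_sum]
    let σ : IrrCharacter C → IrrCharacter C := fun l => ⟨_, Characters.isIrr_conj l.2⟩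
    have hnσ : ∀ l, n (σ l) = n l := fun l => by
      have hc : ∀ x, conj (g x) = g x := fun x => by
        rw [← Characters.gen_inv hg x, hreal]
      refine Int.cast_injective (α := ℂ) ?_
      rw [← hn, ← hn, show g = fun x => conj (g x) from funext fun x => (hc x).symm,
        show ((σ l : IrrCharacter C) : C → ℂ) = fun x => conj ((l : C → ℂ) x) from rfl,
        Characters.classInner_conj_conj]
      simp only [hc]
      rw [hn, map_intCast]
    refine Finset.sum_involution (fun l _ => σ l) (fun l _ => ?_) (fun l _ hne he => hne ?_)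
      (fun l _ => Finset.mem_univ _) fun l _ => Subtype.ext (funext fun x => by simp [σ])
    · have he : ε (σ l) = ε l := by
        simp only [hεdef]
        show (if conj ((l : C → ℂ) c) = 1 then (1 : ℤ) else if conj ((l : C → ℂ) c) = -1 then -1 else 0) = _
        refine if_congr ?_ rfl (if_congr ?_ rfl rfl)
        · exact ⟨fun e => by simpa using congrArg conj e, fun e => by rw [e]; simp⟩
        · exact ⟨fun e => by simpa using congrArg conj e, fun e => by rw [e]; simp⟩
      rw [he, hnσ]
      exact CharTwo.add_self_eq_zero _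
    · have hω : conj ((l : C → ℂ) c) = (l : C → ℂ) c :=
        congrFun (congrArg (Subtype.val) he) c
      have hnorm : ‖(l : C → ℂ) c‖ = 1 := Complex.norm_eq_one_of_pow_eq_one
        (by rw [← hpow, pow_orderOf_eq_one, hdeg]) (orderOf_pos c).ne'
      have hsq : (l : C → ℂ) c ^ 2 = 1 := by
        have := Complex.mul_conj' ((l : C → ℂ) c)
        rw [hω, hnorm] at this
        simpa [pow_two] using this
      rcases sq_eq_one_iff.1 hsq with e | e
      · simp [hεdef, e]
      · simp only [hεdef, e]
        norm_num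

end CfsgLib.TameBlocks
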