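import Mathlib.Tactic
import Mathlib.NumberTheory.Divisors

/-!
# Weights of sum `2 ^ n`

Positive integers `t i`, divisible by `4 ^ ht i`, odd exactly where `ht i = 0`, with `t i * t j` a
square for `ht j = 0`, at most four of them odd, at least `h + 1` of them, of sum `4 * h`: four are
odd, and either there are `h + 3` of them and `ht ≤ 1`, or `h + 1` and the even ones are `4`.
-/

set_option autoImplicit false

namespace CfsgLib.TameBlocks

theorem sq_emod_eight {a : ℤ} (ha : Odd a) : a * a % 8 = 1 := by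
  obtain ⟨b, rfl⟩ := ha
  obtain ⟨c, hc⟩ := Int.even_mul_succ_self b
  rw [show (2 * b + 1) * (2 * b + 1) = 1 + 8 * c by linear_combination 4 * hc]
  simp

theorem weights {ι : Type*} (s : Finset ι) (t : ι → ℤ) (ht : ι → ℕ) {h : ℕ}
    (heven : Even h) (hpos : ∀ i ∈ s, 0 < t i) (hdvd : ∀ i ∈ s, (4 : ℤ) ^ ht i ∣ t i)
    (hodd : ∀ i ∈ s, ht i = 0 → Odd (t i))
    (hsq : ∀ i ∈ s, ∀ j ∈ s, ht j = 0 → ∃ c, t i * t j = c * c)
    (hsum : ∑ i ∈ s, t i = 4 * h) (hcard : h + 1 ≤ s.card) (h0 : ∃ i ∈ s, ht i = 0)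
    (h4 : (s.filter fun i => ht i = 0).card ≤ 4) :
    (s.filter fun i => ht i = 0).card = 4 ∧
      ((s.card = h + 3 ∧ ∀ i ∈ s, ht i ≤ 1) ∨
        (s.card = h + 1 ∧ 4 ≤ h ∧ ∀ i ∈ s, ht i ≠ 0 → ht i = 1 ∧ t i = 4)) := by
  classical
  obtain ⟨j, hj, hj0⟩ := h0
  set Z := s.filter fun i => ht i = 0 with hZ
  set W := s.filter fun i => ¬ ht i = 0 with hW
  have hsplit : Z.card + W.card = s.card := Finset.card_filter_add_card_filter_not _
  have hjo := hodd j hj hj0
  have hmod : ∀ i ∈ Z, t i % 8 = t j % 8 := by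
    intro i hi
    obtain ⟨hi, hi0⟩ := Finset.mem_filter.1 hi
    obtain ⟨c, hc⟩ := hsq i hi j hj hj0
    have hco : Odd c := (Int.odd_mul.1 (hc ▸ (hodd i hi hi0).mul hjo)).1
    have h1 : t i % 8 = t i * (t j * t j) % 8 := by
      rw [Int.mul_emod, sq_emod_eight hjo, mul_one, Int.emod_emod_of_dvd _ dvd_rfl]
    rw [h1, show t i * (t j * t j) = t i * t j * t j by ring, hc, Int.mul_emod, sq_emod_eight hco,
      one_mul, Int.emod_emod_of_dvd _ dvd_rfl]
  have hfour : ∀ i ∈ W, (4 : ℤ) ∣ t i := fun i hi => by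
    obtain ⟨hi, hi0⟩ := Finset.mem_filter.1 hi
    exact (dvd_pow_self 4 hi0).trans (hdvd i hi)
  have hsum' : ∑ i ∈ Z, t i + ∑ i ∈ W, t i = 4 * h := by
    rw [hZ, hW, Finset.sum_filter_add_sum_filter_not, hsum]
  obtain ⟨uW, huW⟩ := Finset.dvd_sum hfour
  have hZmod : (∑ i ∈ Z, t i) % 8 = (Z.card : ℤ) * t j % 8 := by
    rw [Finset.sum_int_mod, Finset.sum_congr rfl hmod, Finset.sum_const, nsmul_eq_mul]
    simp [Int.mul_emod]
  have hjm : j ∈ Z := Finset.mem_filter.2 ⟨hj, hj0⟩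
  have hZpos : 0 < Z.card := Finset.card_pos.2 ⟨j, hjm⟩
  have hZ4 : Z.card = 4 := by
    obtain ⟨b, hb⟩ := hjo
    have : Z.card = 1 ∨ Z.card = 2 ∨ Z.card = 3 ∨ Z.card = 4 := by omega
    rcases this with e | e | e | e <;> simp only [e] at hZmod <;> push_cast at hZmod <;> omega
  refine ⟨hZ4, ?_⟩
  rw [hZ4] at hsplit hZmod
  push_cast at hZmod
  obtain ⟨b, hb⟩ := hjo
  obtain ⟨k, hk⟩ : ∃ k : ℤ, ∑ i ∈ Z, t i = 8 * k + 4 := ⟨(∑ i ∈ Z, t i) / 8, by omega⟩
  -- the quarters of the even weights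
  choose! u hu using hfour
  have hu1 : ∀ i ∈ W, 1 ≤ u i := fun i hi => by
    have := hpos i (Finset.mem_filter.1 hi).1
    have := hu i hi
    omega
  have hsumu : ∑ i ∈ W, t i = 4 * ∑ i ∈ W, u i := by
    rw [Finset.mul_sum]; exact Finset.sum_congr rfl hu
  have hWle : (W.card : ℤ) ≤ ∑ i ∈ W, u i := by
    simpa using Finset.sum_le_sum hu1
  have hk0 : 0 ≤ k := by
    have := Finset.sum_pos (fun i hi => hpos i (Finset.mem_filter.1 hi).1) ⟨j, hjm⟩ (s := Z)
    omega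
  have hzero : ∀ i ∈ Z, ht i ≤ 1 := fun i hi => by rw [(Finset.mem_filter.1 hi).2]; exact zero_le_one
  have hone : ∀ i ∈ W, u i < 4 → ht i = 1 := fun i hi hlt => by
    obtain ⟨his, hi0⟩ := Finset.mem_filter.1 hi
    by_contra hne
    have h16 : (4 : ℤ) ^ 2 ∣ t i := (pow_dvd_pow 4 (by omega)).trans (hdvd i his)
    have := hu i hi
    have := hu1 i hi
    omega
  rcases (show k = 0 ∨ k = 1 by omega) with rfl | rfl
  · -- the four odd weights are ones
    have hZ1 : ∀ i ∈ Z, t i = 1 := by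
      have hle : ∀ i ∈ Z, (1 : ℤ) ≤ t i := fun i hi => hpos i (Finset.mem_filter.1 hi).1
      intro i hi
      refine ((Finset.sum_eq_sum_iff_of_le hle).1 ?_ i hi).symm
      simp [hZ4, hk]
    have hsqu : ∀ i ∈ W, ∃ c, u i = c * c := fun i hi => by
      obtain ⟨c, hc⟩ := hsq i (Finset.mem_filter.1 hi).1 j hj hj0
      rw [hZ1 j hjm, mul_one, hu i hi] at hc
      rcases Int.even_or_odd c with ⟨d, rfl⟩ | hodd'
      · exact ⟨d, by linarith⟩
      · obtain ⟨d, hd⟩ := hodd'.mul hodd'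
        omega
    have hlt : ∀ i ∈ W, u i = 1 := fun i hi => by
      have h3 : u i - 1 ≤ ∑ x ∈ W, (u x - 1) :=
        Finset.single_le_sum (f := fun x => u x - 1) (fun x hx => by have := hu1 x hx; omega) hi
      rw [Finset.sum_sub_distrib, Finset.sum_const, nsmul_eq_mul, mul_one] at h3
      obtain ⟨c, hc⟩ := hsqu i hi
      have h1 := hu1 i hi
      have h4' : u i < 4 := by omega
      by_contra hne
      have : u i = 2 ∨ u i = 3 := by omega
      have hcb : -2 < c ∧ c < 2 := by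
        constructor <;> nlinarith
      obtain ⟨hc1, hc2⟩ := hcb
      interval_cases c <;> omega
    refine Or.inl ⟨?_, fun i hi => ?_⟩
    · have : ∑ i ∈ W, u i = W.card := by rw [Finset.sum_congr rfl hlt]; simp
      omega
    · by_cases hi0 : ht i = 0
      · omega
      · have hiW : i ∈ W := Finset.mem_filter.2 ⟨hi, hi0⟩
        exact (hone i hiW (by rw [hlt i hiW]; norm_num)).le
  · have hWeq : ∑ i ∈ W, (1 : ℤ) = ∑ i ∈ W, u i := by
      simp only [Finset.sum_const, nsmul_eq_mul, mul_one]; omega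
    have hlt := (Finset.sum_eq_sum_iff_of_le hu1).1 hWeq
    obtain ⟨e, he⟩ := heven
    refine Or.inr ⟨by omega, by omega, fun i hi hi0 => ?_⟩
    have hiW : i ∈ W := Finset.mem_filter.2 ⟨hi, hi0⟩
    have h1 := (hlt i hiW).symm
    exact ⟨hone i hiW (by rw [h1]; norm_num), by rw [hu i hiW, h1]; norm_num⟩

end CfsgLib.TameBlocks
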