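import Cfsg.Agent.TameBlocks.DihedralCentral
import Cfsg.Agent.TameBlocks.OddSum
import Cfsg.Agent.TameBlocks.Weights

/-!
# Counting the characters of a block with dihedral defect group

The odd sums `N χ` of the columns `F · σ ^ a` are odd in height zero and their squares add up to
four; with the weights `F χ z ^ 2` this leaves `h + 3` characters of heights at most one, or `h + 1`.
-/

set_option autoImplicit false
set_option linter.unusedSectionVars false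
set_option linter.style.haveILetI false

namespace CfsgLib.TameBlocks

open Cfsg CfsgLib.BlockPairs CfsgLib.Star
open CfsgLib.Blocks (Res)
open scoped ComplexConjugate Classical

universe u

variable {G : Type u} [Group G] [Fintype G] {M : Ideal AlgInt} [M.IsPrime]
  [CharP (Res M) 2] [IsAlgClosed (Res M)] {D : Subgroup G} {eP : GA (Res M) G} {h : ℕ}
  {S : Shape D h} (𝒞 : CenterData M eP S) (hM : Cfsg.IsPModular 2 M)
  {B : Set (IrrCharacter G)} (hB : Cfsg.IsPBlock M B)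
  (hmax : IsMaxPair 2 (⊤ : Subgroup G) (gblk M B) D eP)

include hM in
/-- Rational values are congruent modulo two. -/
theorem even_sub_of_F (χ : IrrCharacter G) {x : G} (hx : x ∈ D) {a b : ℤ}
    (ha : F 𝒞 (χ : G → ℂ) x = a) (hb : F 𝒞 (χ : G → ℂ) 1 = b) : Even (a - b) := by
  have h := F_sub_mem hM 𝒞 χ hx
  rw [ha, hb, ← Int.cast_sub, MajorSubsection.memLocalIdeal_intCast_iff hM] at h
  exact even_iff_two_dvd.2 (by exact_mod_cast h)

include hM in
/-- The sum over the generators of the rotations. -/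
theorem exists_N (χ : IrrCharacter G) :
    ∃ N : ℤ, ∑ j ∈ Finset.range h, F 𝒞 (χ : G → ℂ) (S.σ ^ (2 * j + 1)) = (h : ℂ) * (N : ℂ) ∧
      ∀ f : ℤ, F 𝒞 (χ : G → ℂ) S.z = (f : ℂ) → Even (N - f) := by
  let c : ↥(Subgroup.zpowers S.σ) := ⟨S.σ, Subgroup.mem_zpowers _⟩
  have hgen : ∀ x : ↥(Subgroup.zpowers S.σ), x ∈ Subgroup.zpowers c := fun x => by
    obtain ⟨k, hk⟩ := x.2
    exact ⟨k, Subtype.ext (by simpa [c] using hk)⟩
  have hg := Characters.isGen_comp (Subgroup.inclusion S.zpowers_le) (isGen_F 𝒞 χ)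
  obtain ⟨N, hN, hpar⟩ := exists_odd_sum c hgen (by rw [Subgroup.orderOf_mk, S.order]) hg
    (fun x => F_rot_inv 𝒞 χ x.2)
  refine ⟨N, hN, fun f hf => ?_⟩
  obtain ⟨f1, hf1⟩ := Characters.gen_one_isInt (isGen_F 𝒞 χ)
  have h1 := hpar f1 hf1
  have h2 := even_sub_of_F 𝒞 hM χ S.z_mem hf hf1
  have := h1.sub h2
  rwa [show N - f1 - (f - f1) = N - f by ring] at this

include hM hB hmax 𝒞

/-- The squares of the odd sums add up to four. -/
theorem sum_N_sq (N : IrrCharacter G → ℤ)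
    (hN : ∀ χ : IrrCharacter G,
      ∑ j ∈ Finset.range h, F 𝒞 (χ : G → ℂ) (S.σ ^ (2 * j + 1)) = (h : ℂ) * (N χ : ℂ)) :
    ∑ χ : IrrCharacter G, (if χ ∈ B then N χ ^ 2 else 0) = 4 := by
  have hh : (h : ℂ) ≠ 0 := Nat.cast_ne_zero.2 S.h_pos.ne'
  refine Int.cast_injective (α := ℂ) (mul_left_cancel₀ (pow_ne_zero 2 hh) ?_)
  push_cast
  rw [Finset.mul_sum, Finset.sum_congr rfl (g := fun χ : IrrCharacter G =>
    ∑ i ∈ Finset.range h, ∑ j ∈ Finset.range h, if χ ∈ B then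
      F 𝒞 (χ : G → ℂ) (S.σ ^ (2 * i + 1)) * F 𝒞 (χ : G → ℂ) (S.σ ^ (2 * j + 1)) else 0)
    (fun χ _ => by
      split_ifs
      · rw [← Finset.sum_mul_sum, hN]; ring
      · simp)]
  have hσ := Subgroup.mem_zpowers S.σ
  have hne : ∀ j < h, S.σ ^ (2 * j + 1) ≠ 1 := fun j hj e => by
    have := sigma_pow_inj S (a := 2 * j + 1) (b := 0) (by omega) (by omega) (by rw [e, pow_zero])
    omega
  have hinv : ∀ i < h, (S.σ ^ (2 * i + 1))⁻¹ = S.σ ^ (2 * (h - 1 - i) + 1) := fun i hi => by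
    rw [inv_eq_iff_mul_eq_one, ← pow_add,
      show 2 * i + 1 + (2 * (h - 1 - i) + 1) = orderOf S.σ by rw [S.order]; omega,
      pow_orderOf_eq_one]
  have hinj : ∀ {i j : ℕ}, i < h → j < h → (S.σ ^ (2 * i + 1) = S.σ ^ (2 * j + 1) ↔ i = j) :=
    fun {i j} hi hj => ⟨fun e => by
      have := sigma_pow_inj S (a := 2 * i + 1) (b := 2 * j + 1) (by omega) (by omega) e
      omega, fun e => e ▸ rfl⟩
  rw [Finset.sum_comm]
  simp only [Finset.sum_comm (s := (Finset.univ : Finset (IrrCharacter G)))]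
  rw [Finset.sum_congr rfl fun i hi => Finset.sum_congr rfl fun j hj =>
      sum_F_mul_rot 𝒞 hM hB hmax (pow_mem hσ _) (hne i (Finset.mem_range.1 hi)) (pow_mem hσ _)
        (hne j (Finset.mem_range.1 hj))]
  rw [Finset.sum_congr rfl (g := fun _ => (2 * h : ℂ) * 2) fun i hi => ?_, Finset.sum_const,
    Finset.card_range, nsmul_eq_mul]
  · ring
  have hi := Finset.mem_range.1 hi
  rw [← Finset.mul_sum, Finset.sum_add_distrib, Finset.sum_eq_single i, Finset.sum_eq_single (h - 1 - i)]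
  · rw [if_pos rfl, hinv (h - 1 - i) (by omega), show h - 1 - (h - 1 - i) = i by omega, if_pos rfl]
    norm_num
  · intro j hj hne'
    have hj := Finset.mem_range.1 hj
    rw [if_neg]
    rw [hinv j hj, hinj hi (by omega)]
    omega
  · exact fun hn => absurd (Finset.mem_range.2 (by omega)) hn
  · intro j hj hne'
    rw [if_neg]
    rw [hinj hi (Finset.mem_range.1 hj)]
    exact hne'.symm
  · exact fun hn => absurd (Finset.mem_range.2 hi) hn

/-- The weight of a member. -/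
theorem count_cases :
    Nat.card {χ : IrrCharacter G // χ ∈ B ∧ Cfsg.blockHeight 2 B (χ : G → ℂ) = 0} = 4 ∧
      (∀ χ ∈ B, ∀ N : ℤ, Cfsg.blockHeight 2 B (χ : G → ℂ) ≠ 0 →
        ∑ j ∈ Finset.range h, F 𝒞 (χ : G → ℂ) (S.σ ^ (2 * j + 1)) = (h : ℂ) * (N : ℂ) → N = 0) ∧
      ((Nat.card B = h + 3 ∧ ∀ χ ∈ B, Cfsg.blockHeight 2 B (χ : G → ℂ) ≤ 1) ∨
        (Nat.card B = h + 1 ∧ 4 ≤ h ∧ ∀ χ ∈ B, Cfsg.blockHeight 2 B (χ : G → ℂ) ≠ 0 →
          F 𝒞 (χ : G → ℂ) S.z ^ 2 = 4)) := by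
  haveI : Fact (Nat.Prime 2) := ⟨Nat.prime_two⟩
  choose f hf using exists_int_F_z 𝒞
  choose N hN hNf using exists_N 𝒞 hM
  set ht := fun χ : IrrCharacter G => Cfsg.blockHeight 2 B (χ : G → ℂ) with hht
  set s := B.toFinset with hs
  set Z := s.filter fun χ => ht χ = 0 with hZ
  have hsB : ∀ {χ}, χ ∈ s ↔ χ ∈ B := fun {χ} => Set.mem_toFinset
  have hNodd : ∀ χ ∈ Z, 1 ≤ N χ ^ 2 := fun χ hχ => by
    obtain ⟨hχB, hχ0⟩ := Finset.mem_filter.1 hχ
    have ho := (fz_spec 𝒞 hM hB hmax (hsB.1 hχB) (hf χ)).2.2 hχ0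
    have hne : N χ ≠ 0 := fun e => by
      have := hNf χ (f χ) (hf χ)
      rw [e, zero_sub, even_neg] at this
      exact (Int.not_even_iff_odd.2 ho) this
    exact (sq_pos_iff.2 hne)
  have hsumN : ∑ χ ∈ s, N χ ^ 2 = 4 := by
    rw [← sum_N_sq 𝒞 hM hB hmax N hN, ← Finset.sum_filter]
    exact Finset.sum_congr (by ext; simp [hs]) fun _ _ => rfl
  have hZ4 : Z.card ≤ 4 := by
    have h1 := Finset.card_nsmul_le_sum Z (fun χ => N χ ^ 2) 1 hNodd
    have h2 := Finset.sum_le_sum_of_subset_of_nonneg (show Z ⊆ s from Finset.filter_subset _ _)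
      (f := fun χ => N χ ^ 2) fun χ _ _ => sq_nonneg _
    rw [nsmul_eq_mul, mul_one] at h1
    omega
  have hk : Nat.card B = s.card := by rw [hs, Set.toFinset_card, Nat.card_eq_fintype_card]
  have hcard : h + 1 ≤ s.card := by
    obtain ⟨l, hl, -⟩ := exists_count 𝒞 hM hB hmax
    have := BlockPairing.one_le_blockRank (p := 2) (CfsgLib.Blocks.isPBlock_nonempty hB)
    omega
  have hsumf : ∑ χ ∈ s, f χ ^ 2 = 4 * (h : ℤ) := by
    refine Int.cast_injective (α := ℂ) ?_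
    have h1 := sum_F_mul_rot 𝒞 hM hB hmax S.z_mem_zpowers S.z_ne_one S.z_mem_zpowers S.z_ne_one
    rw [if_pos rfl, S.z_inv, if_pos rfl] at h1
    push_cast
    rw [show (4 : ℂ) * h = 2 * h * (1 + 1) by ring, ← h1, ← Finset.sum_filter]
    exact Finset.sum_congr (by ext; simp [hs]) fun χ _ => by rw [hf, pow_two]
  obtain ⟨φ, hφ, hφ0⟩ := CfsgLib.Blocks.exists_height_zero hM (p := 2) hB
  obtain ⟨hW4, hWc⟩ := weights s (fun χ => f χ ^ 2) ht (even_iff_two_dvd.2 S.even_h)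
    (fun χ hχ => sq_pos_iff.2 (fz_spec 𝒞 hM hB hmax (hsB.1 hχ) (hf χ)).1)
    (fun χ hχ => by
      have := pow_dvd_pow_of_dvd (fz_spec 𝒞 hM hB hmax (hsB.1 hχ) (hf χ)).2.1 2
      rwa [← pow_mul, mul_comm, pow_mul, show ((2 : ℤ) ^ 2) = 4 by norm_num] at this)
    (fun χ hχ h0 => ((fz_spec 𝒞 hM hB hmax (hsB.1 hχ) (hf χ)).2.2 h0).pow)
    (fun χ _ ψ _ _ => ⟨f χ * f ψ, by ring⟩) hsumf hcard
    ⟨φ, hsB.2 hφ, hφ0⟩ hZ4
  refine ⟨?_, fun χ hχ n hne hn => ?_, hWc.imp (fun ⟨a, b⟩ => ⟨hk ▸ a, fun χ hχ => b χ (hsB.2 hχ)⟩)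
    fun ⟨a, b, c⟩ => ⟨hk ▸ a, b, fun χ hχ h0 => ?_⟩⟩
  · rw [Nat.card_eq_fintype_card, Fintype.card_subtype, ← hW4]
    exact congrArg Finset.card (by ext; simp [hs, hht])
  · have hNeq : n = N χ := by
      have hh : (h : ℂ) ≠ 0 := Nat.cast_ne_zero.2 S.h_pos.ne'
      exact Int.cast_injective (mul_left_cancel₀ hh (hn.symm.trans (hN χ)))
    have hmem : χ ∈ s.filter fun χ => ¬ ht χ = 0 := Finset.mem_filter.2 ⟨hsB.2 hχ, hne⟩
    rw [← Finset.sum_filter_add_sum_filter_not s (fun χ => ht χ = 0)] at hsumN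
    have h1 := Finset.card_nsmul_le_sum Z (fun χ => N χ ^ 2) 1 hNodd
    rw [nsmul_eq_mul, mul_one, hW4] at h1
    have h2 := Finset.single_le_sum (f := fun χ => N χ ^ 2) (fun _ _ => sq_nonneg _) hmem
    rw [hNeq]
    refine sq_eq_zero_iff.1 (le_antisymm ?_ (sq_nonneg _))
    push_cast at h1
    linarith
  · have := (c χ (hsB.2 hχ) h0).2
    rw [hf]
    exact_mod_cast this

end CfsgLib.TameBlocks
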