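import Cfsg.Agent.TameBlocks.DihedralShape
import Cfsg.Agent.ClassPairs.Basic
import Cfsg.Agent.Characters.Generalized

/-!
# Character sums of a dihedral group

For a rotation `r` and a reflection `w` of a dihedral group, `θ w * θ r = θ 1 * θ (w * r)` for every
irreducible `θ`, so the triple sums reduce to column orthogonality.
-/

set_option autoImplicit false
set_option linter.unusedSectionVars false

namespace CfsgLib.TameBlocks.Shape

open Cfsg CfsgLib.Characters
open scoped ComplexConjugate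

universe u

variable {G : Type u} [Group G] [Fintype G] {D : Subgroup G} [Fintype D] {h : ℕ} (S : Shape D h)

/-- The rotation as an element of the group. -/
def sig : D := ⟨S.σ, S.σ_mem⟩

/-- The reflection as an element of the group. -/
def tau : D := ⟨S.τ, S.τ_mem⟩

/-- The central involution as an element of the group. -/
def zed : D := ⟨S.z, S.z_mem⟩

/-- The predicate of being a rotation. -/
def IsRot (x : D) : Prop := (x : G) ∈ Subgroup.zpowers S.σ

include S

theorem isRot_iff {x : D} : S.IsRot x ↔ ∃ k : ℤ, x = S.sig ^ k := by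
  constructor
  · rintro ⟨k, hk⟩
    exact ⟨k, Subtype.ext (by simpa [sig] using hk.symm)⟩
  · rintro ⟨k, rfl⟩
    exact ⟨k, by simp [sig]⟩

theorem isRot_zpow (k : ℤ) : S.IsRot (S.sig ^ k) := S.isRot_iff.2 ⟨k, rfl⟩

theorem isRot_zed : S.IsRot S.zed := S.z_mem_zpowers

theorem zed_mem_center : S.zed ∈ Subgroup.center D :=
  Subgroup.mem_center_iff.2 fun y => Subtype.ext (S.z_central y.2).eq

theorem not_isRot_tau : ¬ S.IsRot S.tau := S.τ_not_mem

theorem not_isRot_mul {w r : D} (hw : ¬ S.IsRot w) (hr : S.IsRot r) : ¬ S.IsRot (w * r) :=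
  fun h' => hw (by
    have := mul_mem h' (inv_mem hr)
    simpa [IsRot] using this)

theorem refl_conj_sub {w r : D} (hw : ¬ S.IsRot w) (hr : S.IsRot r) : w * r * w⁻¹ = r⁻¹ :=
  Subtype.ext (by simpa using S.refl_conj w.2 hw hr)

theorem refl_inv {w : D} (hw : ¬ S.IsRot w) : w⁻¹ = w :=
  inv_eq_of_mul_eq_one_right (Subtype.ext (by simpa using S.refl_sq w.2 hw))

theorem isRot_conj {x a : D} (hx : S.IsRot x) : S.IsRot (a * x * a⁻¹) := by
  rcases S.conj_rot a.2 hx with e | e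
  · show ((a * x * a⁻¹ : D) : G) ∈ _
    simp only [Subgroup.coe_mul, InvMemClass.coe_inv, e]
    exact hx
  · show ((a * x * a⁻¹ : D) : G) ∈ _
    simp only [Subgroup.coe_mul, InvMemClass.coe_inv, e]
    exact inv_mem hx

theorem not_isConj_rot_refl {x w : D} (hx : S.IsRot x) (hw : ¬ S.IsRot w) : ¬ IsConj x w :=
  fun hc => by
    obtain ⟨a, rfl⟩ := isConj_iff.1 hc
    exact hw (S.isRot_conj hx)

theorem conj_irr {x : D} (θ : IrrCharacter D) :
    conj ((θ : D → ℂ) x) = (θ : D → ℂ) x⁻¹ := by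
  obtain ⟨n, ρ, -, hρ⟩ := θ.2
  rw [← hρ, char_inv]

theorem irr_real {x : D} (θ : IrrCharacter D) : conj ((θ : D → ℂ) x) = (θ : D → ℂ) x := by
  rw [S.conj_irr θ]
  by_cases hx : S.IsRot x
  · rw [← S.refl_conj_sub S.not_isRot_tau hx, isClassFunction_of_isIrr θ.2]
  · rw [S.refl_inv hx]

theorem irr_refl_mul_rot {w r : D} (hw : ¬ S.IsRot w) (hr : S.IsRot r) (θ : IrrCharacter D) :
    (θ : D → ℂ) w * (θ : D → ℂ) r = (θ : D → ℂ) 1 * (θ : D → ℂ) (w * r) := by
  have h1 := ClassPairs.sum_conj_mul θ r w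
  have hval : ∀ a : D, (θ : D → ℂ) (a * r * a⁻¹ * w) = (θ : D → ℂ) (w * r) := fun a => by
    have hcl := isClassFunction_of_isIrr θ.2
    have hor : a * r * a⁻¹ = r ∨ a * r * a⁻¹ = r⁻¹ := by
      rcases S.conj_rot a.2 hr with e | e
      · exact Or.inl (Subtype.ext (by simpa using e))
      · exact Or.inr (Subtype.ext (by simpa using e))
    rcases hor with e | e <;> rw [e]
    · have := hcl (w * r) r
      rw [show r * (w * r) * r⁻¹ = r * w by group] at this
      exact this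
    · rw [show r⁻¹ * w = w * r from by rw [← S.refl_conj_sub hw hr]; group]
  rw [Finset.sum_congr rfl fun a _ => hval a, Finset.sum_const, Finset.card_univ, nsmul_eq_mul,
    ← Nat.card_eq_fintype_card, eq_div_iff (irr_one_ne_zero θ.2)] at h1
  have hD : (Nat.card D : ℂ) ≠ 0 := Nat.cast_ne_zero.2 Nat.card_pos.ne'
  refine mul_left_cancel₀ hD ?_
  linear_combination -h1

theorem sum_zed_refl_rot {w r : D} (hw : ¬ S.IsRot w) (hr : S.IsRot r) :
    ∑ θ : IrrCharacter D, (θ : D → ℂ) S.zed * (θ : D → ℂ) w / (θ : D → ℂ) 1 * (θ : D → ℂ) r = 0 := by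
  have hzw : ¬ S.IsRot (w * S.zed) := S.not_isRot_mul hw S.isRot_zed
  rw [← sum_irr_mul_conj_of_not_isConj (g := r) (h := w * S.zed) (S.not_isConj_rot_refl hr hzw)]
  refine Finset.sum_congr rfl fun θ _ => ?_
  have h1 := irr_one_ne_zero θ.2
  rw [S.irr_real θ, mul_comm ((θ : D → ℂ) S.zed), S.irr_refl_mul_rot hw S.isRot_zed,
    mul_div_cancel_left₀ _ h1, mul_comm]

open Classical in
theorem sum_refl_refl_rot {w w' r : D} (hw' : ¬ S.IsRot w') (hr : S.IsRot r) :
    ∑ θ : IrrCharacter D, (θ : D → ℂ) w * (θ : D → ℂ) w' / (θ : D → ℂ) 1 * (θ : D → ℂ) r =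
      if IsConj w (w' * r) then (Nat.card (Subgroup.centralizer ({w} : Set D)) : ℂ) else 0 := by
  rw [Finset.sum_congr rfl (g := fun θ : IrrCharacter D =>
    (θ : D → ℂ) w * conj ((θ : D → ℂ) (w' * r))) fun θ _ => ?_]
  · split_ifs with hc
    · exact sum_irr_mul_conj_of_isConj hc
    · exact sum_irr_mul_conj_of_not_isConj hc
  · rw [S.irr_real θ, div_mul_eq_mul_div, mul_assoc, S.irr_refl_mul_rot hw' hr,
      ← mul_assoc, mul_comm ((θ : D → ℂ) w), mul_assoc, mul_div_cancel_left₀ _ (irr_one_ne_zero θ.2)]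

theorem sum_one_rot {r : D} (hr1 : r ≠ 1) :
    ∑ θ : IrrCharacter D, (θ : D → ℂ) 1 * (θ : D → ℂ) r = 0 := by
  classical
  rw [sum_degree_mul, if_neg hr1]

theorem tau_conj_pow (j : ℕ) : S.sig ^ j * S.tau * (S.sig ^ j)⁻¹ = S.tau * (S.sig ^ (2 * j))⁻¹ := by
  have h1 : S.tau * S.sig ^ j * S.tau⁻¹ = (S.sig ^ j)⁻¹ := by
    simpa using S.refl_conj_sub S.not_isRot_tau (S.isRot_zpow j)
  have h2 : S.sig ^ j * S.tau = S.tau * (S.sig ^ j)⁻¹ := by
    rw [← h1, ← mul_assoc, ← mul_assoc, show S.tau * S.tau = 1 from Subtype.ext S.τ_sq, one_mul,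
      S.refl_inv S.not_isRot_tau]
  rw [h2, mul_assoc, ← mul_inv_rev, ← pow_add, two_mul]

/-- Multiplying by an even power of the rotation keeps the class of a reflection. -/
theorem isConj_mul_even (w : D) (hw : ¬ S.IsRot w) (j : ℤ) : IsConj w (w * S.sig ^ (2 * j)) := by
  refine isConj_iff.2 ⟨S.sig ^ (-j), ?_⟩
  have h1 := S.refl_conj_sub hw (S.isRot_zpow j)
  rw [S.refl_inv hw] at h1
  have h2 : w * S.sig ^ j = (S.sig ^ j)⁻¹ * w := by
    rw [← h1, mul_assoc (w * _), show w * w = 1 from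
      (congrArg (· * w) (S.refl_inv hw)).symm.trans (inv_mul_cancel w), mul_one]
  rw [zpow_neg, inv_inv, ← h2, mul_assoc, ← zpow_add, two_mul]

/-- The classes of the two kinds of reflections are different. -/
theorem not_isConj_tau : ¬ IsConj S.tau (S.tau * S.sig) := by
  intro hc
  obtain ⟨a, ha⟩ := isConj_iff.1 hc
  have hodd : ∀ k : ℤ, S.sig ^ (2 * k) ≠ S.sig := fun k e => by
    have he : S.σ ^ (2 * k - 1) = 1 := by
      have := congrArg Subtype.val e
      simp only [sig, SubgroupClass.coe_zpow] at this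
      rw [zpow_sub, this, zpow_one, mul_inv_cancel]
    have hd := orderOf_dvd_iff_zpow_eq_one.2 he
    rw [S.order] at hd
    have h2 : (2 : ℤ) ∣ 2 * k - 1 := (Dvd.intro (h : ℤ) (by push_cast; rfl)).trans hd
    omega
  by_cases hrot : S.IsRot a
  · obtain ⟨k, rfl⟩ := S.isRot_iff.1 hrot
    have h1 := S.refl_conj_sub S.not_isRot_tau (S.isRot_zpow k)
    apply hodd (-k)
    refine mul_left_cancel (a := S.tau) (Eq.trans ?_ ha)
    calc S.tau * S.sig ^ (2 * -k) = S.tau * (S.sig ^ k)⁻¹ * S.sig ^ (-k) := by group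
      _ = S.tau * (S.tau * S.sig ^ k * S.tau⁻¹) * S.sig ^ (-k) := by rw [h1]
      _ = S.tau * S.tau * (S.sig ^ k * S.tau⁻¹ * S.sig ^ (-k)) := by group
      _ = S.sig ^ k * S.tau * (S.sig ^ k)⁻¹ := by
        rw [show S.tau * S.tau = 1 from Subtype.ext S.τ_sq, S.refl_inv S.not_isRot_tau]; group
  · obtain ⟨k, hk⟩ := S.eq_tau_mul a.2 hrot
    have ha' : a = S.tau * S.sig ^ k := Subtype.ext (by simpa [tau, sig] using hk)
    subst ha'
    have h1 := S.refl_conj_sub S.not_isRot_tau (S.isRot_zpow k)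
    apply hodd k
    refine mul_left_cancel (a := S.tau) (Eq.trans ?_ ha)
    calc S.tau * S.sig ^ (2 * k) = S.tau * S.sig ^ k * (S.sig ^ k) := by group
      _ = S.tau * S.sig ^ k * (S.tau * S.sig ^ k * S.tau⁻¹)⁻¹ := by rw [h1, inv_inv]
      _ = S.tau * S.sig ^ k * S.tau * (S.tau * S.sig ^ k)⁻¹ := by group

end CfsgLib.TameBlocks.Shape
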