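import Cfsg.Agent.ClassPairs.Basic
import Cfsg.Agent.Characters.Generalized

/-!
# Pairs in a conjugation-invariant set of involutions

`pairCount Ω g` counts the pairs in `Ω` with product `g`; it is
`∑ χ, (∑ u ∈ Ω, χ u) ^ 2 / (|G| χ 1) * χ g`.
-/

set_option autoImplicit false

namespace CfsgLib.TameBlocks

open Cfsg CfsgLib.Characters
open scoped ComplexConjugate

universe u

variable {G : Type u} [Group G] [Fintype G]

open Classical in
/-- The number of pairs in `Ω` with product `g`. -/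
noncomputable def pairCount (Ω : Finset G) (g : G) : ℂ :=
  ∑ u ∈ Ω, ∑ v ∈ Ω, if u * v = g then 1 else 0

theorem pairCount_eq [DecidableEq G] (Ω : Finset G) (g : G) :
    pairCount Ω g = ∑ u ∈ Ω, ∑ v ∈ Ω, if u * v = g then 1 else 0 := by
  unfold pairCount
  exact Finset.sum_congr rfl fun u _ => Finset.sum_congr rfl fun v _ => by congr 1

variable {Ω : Finset G} (hinv : ∀ u ∈ Ω, ∀ a : G, a * u * a⁻¹ ∈ Ω)

include hinv in
theorem sum_conj_invariant {A : Type*} [AddCommMonoid A] (f : G → A) (a : G) :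
    ∑ u ∈ Ω, f (a * u * a⁻¹) = ∑ u ∈ Ω, f u := by
  refine Finset.sum_nbij' (fun u => a * u * a⁻¹) (fun u => a⁻¹ * u * a) (fun u hu => hinv u hu a)
    (fun u hu => by simpa using hinv u hu a⁻¹) ?_ ?_ fun u _ => rfl <;>
  · intro u _
    group

include hinv in
theorem isClassFunction_pairCount : Cfsg.IsClassFunction G (pairCount Ω) := by
  classical
  intro g a
  simp only [pairCount]
  rw [← sum_conj_invariant hinv (fun u => ∑ v ∈ Ω, if u * v = a * g * a⁻¹ then (1 : ℂ) else 0) a]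
  refine Finset.sum_congr rfl fun u _ => ?_
  rw [← sum_conj_invariant hinv (fun v => if a * u * a⁻¹ * v = a * g * a⁻¹ then (1 : ℂ) else 0) a]
  refine Finset.sum_congr rfl fun v _ => if_congr ?_ rfl rfl
  constructor
  · intro h
    rw [show a * u * a⁻¹ * (a * v * a⁻¹) = a * (u * v) * a⁻¹ by group] at h
    exact mul_left_cancel (mul_right_cancel h)
  · intro h
    rw [← h]; group

include hinv in
theorem sum_invariant_mul (χ : Cfsg.IrrCharacter G) (y : G) :
    ∑ u ∈ Ω, (χ : G → ℂ) (u * y) = (∑ u ∈ Ω, (χ : G → ℂ) u) * (χ : G → ℂ) y / (χ : G → ℂ) 1 := by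
  have hG : (Nat.card G : ℂ) ≠ 0 := Nat.cast_ne_zero.2 Nat.card_pos.ne'
  refine mul_left_cancel₀ hG ?_
  have h1 : ∑ a : G, ∑ u ∈ Ω, (χ : G → ℂ) (a * u * a⁻¹ * y) =
      (Nat.card G : ℂ) * ∑ u ∈ Ω, (χ : G → ℂ) (u * y) := by
    rw [Finset.sum_congr rfl fun a _ => sum_conj_invariant hinv (fun u => (χ : G → ℂ) (u * y)) a,
      Finset.sum_const, Finset.card_univ, nsmul_eq_mul, Nat.card_eq_fintype_card]
  rw [← h1, Finset.sum_comm, Finset.sum_congr rfl fun u _ => ClassPairs.sum_conj_mul χ u y,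
    Finset.sum_mul, Finset.sum_div, Finset.mul_sum]
  exact Finset.sum_congr rfl fun u _ => by ring

include hinv in
/-- The count through the characters. -/
theorem pairCount_expansion (hsq : ∀ u ∈ Ω, u * u = 1) :
    pairCount Ω = fun g => ∑ χ : Cfsg.IrrCharacter G,
      (∑ u ∈ Ω, (χ : G → ℂ) u) ^ 2 / ((Nat.card G : ℂ) * (χ : G → ℂ) 1) * (χ : G → ℂ) g := by
  classical
  funext g
  have h := congrFun (classFunction_expansion (isClassFunction_pairCount hinv)) g
  rw [h, Finset.sum_apply]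
  refine Finset.sum_congr rfl fun χ _ => ?_
  rw [Pi.smul_apply, smul_eq_mul]
  congr 1
  have hreal : ∀ u ∈ Ω, conj ((χ : G → ℂ) u) = (χ : G → ℂ) u := fun u hu => by
    obtain ⟨n, ρ, -, hρ⟩ := χ.2
    rw [← hρ, ← char_inv ρ u, inv_eq_of_mul_eq_one_right (hsq u hu)]
  have hconj1 : conj ((χ : G → ℂ) 1) = (χ : G → ℂ) 1 := by
    obtain ⟨n, -, hn⟩ := exists_degree_pos χ.2
    rw [hn, map_natCast]
  have h1 : ∑ g : G, pairCount Ω g * conj ((χ : G → ℂ) g) =
      conj (∑ u ∈ Ω, ∑ v ∈ Ω, (χ : G → ℂ) (u * v)) := by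
    simp only [pairCount, Finset.sum_mul, map_sum]
    rw [Finset.sum_comm]
    refine Finset.sum_congr rfl fun u _ => ?_
    rw [Finset.sum_comm]
    exact Finset.sum_congr rfl fun v _ => by simp
  rw [Cfsg.classInner, h1, Finset.sum_comm, Finset.sum_congr rfl fun v _ => sum_invariant_mul hinv χ v,
    ← Finset.sum_div, ← Finset.mul_sum, map_div₀, map_mul, map_sum, Finset.sum_congr rfl hreal,
    hconj1, div_eq_mul_inv, div_eq_mul_inv, mul_inv]
  ring

end CfsgLib.TameBlocks
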