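import Cfsg.Agent.TameBlocks.Param

/-!
# Values of stars at p-elements

In a block with maximal pair `(P, eP)`: the values at central elements of the stars and traces, and,
for a nilpotent block and a member of height zero, the value at an element of `P` of the trace of the
block below is not zero.
-/

set_option autoImplicit false
set_option linter.unusedSectionVars false
set_option linter.style.haveILetI false

namespace CfsgLib.TameBlocks

open Cfsg CfsgLib.BlockPairs CfsgLib.Star
open CfsgLib.Blocks (Res)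
open CfsgLib.BlockPairing (regInner)
open scoped ComplexConjugate

universe u

variable {G : Type u} [Group G] [Fintype G] {M : Ideal AlgInt} [M.IsPrime] {p : ℕ}
  [hp : Fact p.Prime] (hM : Cfsg.IsPModular p M) {P : Subgroup G} {eP : GA (Res M) G}
  [CharP (Res M) p] [IsAlgClosed (Res M)] {B : Set (IrrCharacter G)} (hB : Cfsg.IsPBlock M B)
  (hmax : IsMaxPair p (⊤ : Subgroup G) (gblk M B) P eP)

theorem pPart_self {u : G} (hu : ∃ k, orderOf u = p ^ k) : pPart p u = u :=
  pPart_eq ⟨1, mul_one u, Commute.one_right u, hu, by rw [orderOf_one]; exact hp.out.not_dvd_one⟩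

include hmax in
theorem exists_orderOf_pow {w : G} (hw : w ∈ P) : ∃ k, orderOf w = p ^ k := by
  obtain ⟨k, hk⟩ := hmax.1.1.2.1 ⟨w, hw⟩
  obtain ⟨i, -, hi⟩ := (Nat.dvd_prime_pow hp.out).1
    (orderOf_dvd_of_pow_eq_one (x := w) (n := p ^ k) (congrArg Subtype.val hk))
  exact ⟨i, hi⟩

theorem mem_cent_of_central {w : G} (hc : w ∈ Subgroup.center G) (y : G) :
    y ∈ cent ⊤ (Subgroup.zpowers w) := by
  rw [Star.cent_zpowers, Subgroup.mem_centralizer_singleton_iff]
  exact Subgroup.mem_center_iff.1 hc y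

include hM hB hmax

/-- The star at a central element of the maximal pair. -/
theorem star_central {ζ : G → ℂ} (hζ : IsInvariant p P eP ζ) {χ : IrrCharacter G} (hχ : χ ∈ B)
    {w : G} (hw : w ∈ P) (hc : w ∈ Subgroup.center G) :
    star p P eP ζ (χ : G → ℂ) w = ζ w * (χ : G → ℂ) w := by
  have hpp : pPart p w = w := pPart_self (exists_orderOf_pow hmax hw)
  rw [star_apply, ← sum_T_blocks (p := p) (M := M) (Characters.isClassFunction_of_isIrr χ.2) w,
    Finset.mul_sum]
  refine Finset.sum_congr rfl fun e he => ?_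
  by_cases hT : T M (χ : G → ℂ) w e = 0
  · rw [hT, mul_zero, mul_zero]
  · obtain ⟨y, hy⟩ := exists_conj_of_T_ne_zero hM hB hmax hχ he hT
    rw [zt_eq hζ hy, hpp, show y * w * y⁻¹ = w from
      mul_inv_eq_iff_eq_mul.2 (Subgroup.mem_center_iff.1 hc y)]

/-- The trace of the block below at a central element. -/
theorem T_below_central {χ : IrrCharacter G} (hχ : χ ∈ B) {w : G} (hw : w ∈ P)
    (hc : w ∈ Subgroup.center G) :
    T M (χ : G → ℂ) w (below p P eP (Subgroup.zpowers w)) = (χ : G → ℂ) w := by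
  have hpp : pPart p w = w := pPart_self (exists_orderOf_pow hmax hw)
  refine Eq.trans ?_ (sum_T_blocks (p := p) (M := M) (Characters.isClassFunction_of_isIrr χ.2) w)
  rw [hpp, Finset.sum_eq_single (below p P eP (Subgroup.zpowers w))]
  · intro e he hne
    by_contra hT
    obtain ⟨y, hy⟩ := exists_conj_of_T_ne_zero hM hB hmax hχ (by rw [hpp]; exact he) hT
    rw [hpp, Star.cj_zpowers, show y * w * y⁻¹ = w from
      mul_inv_eq_iff_eq_mul.2 (Subgroup.mem_center_iff.1 hc y),
      (mem_blocks.1 he).fixed y (mem_cent_of_central hc y)] at hy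
    exact hne (below_eq hmax hy).symm
  · exact fun hn => absurd (below_mem_blocks hmax hw) hn

open Classical in
/-- The star of the indicator of a class of `P`. -/
theorem star_classIndic (hn : Nilp p ⊤ (gblk M B)) (x : P) {φ : G → ℂ}
    (hφ : Cfsg.IsClassFunction G φ) {u : G} (hu : ∃ k, orderOf u = p ^ k) :
    ∃ m : ℕ, star p P eP (Cfsg.extendByZero P fun v : P => if IsConj x v then 1 else 0) φ u =
        (m : ℂ) * T M φ (x : G) (below p P eP (Subgroup.zpowers (x : G))) ∧
      (u = (x : G) → 1 ≤ m) := by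
  classical
  set c : G → ℂ := Cfsg.extendByZero P fun v : P => if IsConj x v then 1 else 0 with hcdef
  have hinv : IsInvariant p P eP c := isInvariant_extend hB hmax hn fun v w => by
    refine if_congr ⟨fun h => h.trans (isConj_iff.2 ⟨w⁻¹, by group⟩),
      fun h => h.trans (isConj_iff.2 ⟨w, rfl⟩)⟩ rfl rfl
  have hpp : pPart p u = u := pPart_self hu
  rw [star_apply, hpp]
  set E := (blocks (Res M) (cent ⊤ (Subgroup.zpowers u))).filter
    fun e => zt p P eP c u e ≠ 0 with hE
  have hkey : ∀ e ∈ E, zt p P eP c u e * T M φ u e =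
      T M φ (x : G) (below p P eP (Subgroup.zpowers (x : G))) := fun e he => by
    obtain ⟨heb, hz⟩ := Finset.mem_filter.1 he
    obtain ⟨y, hy⟩ : ∃ y, Le p ⊤ (cj y (Subgroup.zpowers u)) (conjA (Res M) y e) P eP := by
      by_contra hno
      exact hz (zt_eq_zero fun y hy => hno ⟨y, hy⟩)
    have hval := zt_eq hinv hy
    rw [Star.cj_zpowers] at hy
    have hwP : y * u * y⁻¹ ∈ P := hy.subgroup_le (Subgroup.mem_zpowers _)
    rw [hcdef, Characters.extendByZero_of_mem P _ hwP] at hval
    by_cases hconj : IsConj x (⟨y * u * y⁻¹, hwP⟩ : P)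
    · rw [if_pos hconj] at hval
      obtain ⟨d, hd⟩ := isConj_iff.1 hconj
      have hd' : (d : G) * (x : G) * (d : G)⁻¹ = y * u * y⁻¹ := congrArg Subtype.val hd
      have he' : conjA (Res M) y e = conjA (Res M) (d : G) (below p P eP (Subgroup.zpowers (x : G))) := by
        rw [← below_conj hmax d.2 x.2, hd', below_eq hmax hy]
      rw [hval, one_mul]
      have hfe : conjA (Res M) u e = e := (mem_blocks.1 heb).fixed u (by
        rw [Star.cent_zpowers]; exact Subgroup.mem_centralizer_singleton_iff.2 rfl)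
      have hfb : conjA (Res M) (x : G) (below p P eP (Subgroup.zpowers (x : G))) =
          below p P eP (Subgroup.zpowers (x : G)) :=
        (mem_blocks.1 (below_mem_blocks hmax x.2)).fixed (x : G) (by
          rw [Star.cent_zpowers]; exact Subgroup.mem_centralizer_singleton_iff.2 rfl)
      rw [← T_conj hφ (t := y) (mem_blocks.1 heb).idem hfe, he', ← hd',
        T_conj hφ (t := (d : G)) (mem_blocks.1 (below_mem_blocks hmax x.2)).idem hfb]
    · rw [if_neg hconj] at hval
      exact absurd hval hz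
  refine ⟨E.card, ?_, fun e => Finset.card_pos.2 ?_⟩
  · rw [← Finset.sum_subset (Finset.filter_subset (fun e => zt p P eP c u e ≠ 0) _)
      (fun e he hn' => ?_), ← hE, Finset.sum_congr rfl hkey, Finset.sum_const, nsmul_eq_mul]
    rw [Finset.mem_filter, not_and, not_not] at hn'
    rw [hn' he, zero_mul]
  · subst e
    refine ⟨below p P eP (Subgroup.zpowers (x : G)),
      Finset.mem_filter.2 ⟨below_mem_blocks hmax x.2, ?_⟩⟩
    rw [zt_eq hinv (x := 1) (by rw [conjA_one_left, cj_one]; exact le_below hmax x.2), hcdef,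
      one_mul, inv_one, mul_one, Characters.extendByZero_of_mem P _ x.2, if_pos (IsConj.refl _)]
    exact one_ne_zero

omit hB hmax in
/-- At an involution the traces at the blocks of its centralizer are real. -/
theorem T_real {w : G} (hw : w * w = 1) {e : GA (Res M) G}
    (he : IsBlock (Subgroup.centralizer ({w} : Set G)) e) {φ : G → ℂ}
    (hφ : Cfsg.IsCharacter G φ) : conj (T M φ w e) = T M φ w e := by
  classical
  haveI := Fintype.ofFinite ↥(Subgroup.centralizer ({w} : Set G))
  obtain ⟨f, hf, rfl⟩ := exists_eq_sblk (M := M) he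
  set C := Subgroup.centralizer ({w} : Set G)
  choose n hn using fun ξ : IrrCharacter C =>
    Characters.classInner_character_irr (Characters.isCharacter_restrict C hφ) ξ.2
  have htr : (fun c : C => φ (w * (c : G))) = ∑ ξ : IrrCharacter C,
      ((n ξ : ℂ) * BlocksCharsC.secRoot w ξ) • (ξ : C → ℂ) := by
    funext c
    have h := congrFun (Characters.character_expansion (Characters.isCharacter_restrict C hφ))
      (BlocksCharsC.selfCent w ^ 1 * c)
    simp only [Finset.sum_apply, Pi.smul_apply, smul_eq_mul, hn] at h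
    simp only [pow_one] at h
    refine Eq.trans ?_ (h.trans ?_)
    · simp [BlocksCharsC.selfCent]
    · rw [Finset.sum_apply]
      refine Finset.sum_congr rfl fun ξ _ => ?_
      rw [Pi.smul_apply, smul_eq_mul, mul_assoc]
      congr 1
      simpa using Star.irr_pow_mul ξ 1 c
  have hroot : ∀ ξ : IrrCharacter C, conj (BlocksCharsC.secRoot w ξ) = BlocksCharsC.secRoot w ξ := by
    intro ξ
    obtain ⟨d, hd, hξ1⟩ := Characters.exists_degree_pos ξ.2
    have h1 := BlocksCharsC.irr_central_mul ξ.2 (z := BlocksCharsC.selfCent w)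
      BlocksCharsC.selfCent_mem_center (BlocksCharsC.selfCent w)
    rw [show BlocksCharsC.selfCent w * BlocksCharsC.selfCent w = 1 from Subtype.ext hw, hξ1,
      ← pow_two, ← pow_two] at h1
    rw [BlocksCharsC.secRoot, hξ1]
    rcases sq_eq_sq_iff_eq_or_eq_neg.1 h1 with e | e
    · rw [← e]; simp
    · rw [← neg_eq_iff_eq_neg.2 e]; simp
  have h1 := T_sblk hM (CfsgLib.Blocks.isBlockUnion_of_isPBlock hf)
    (Characters.isClassFunction_of_isCharacter hφ) (1 : C)
  rw [OneMemClass.coe_one, mul_one] at h1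
  rw [h1, Cfsg.blockPart, CfsgLib.Blocks.finsum_irr_mem, map_sum,
    show Fintype.ofFinite C = ‹_› from Subsingleton.elim _ _]
  refine Finset.sum_congr rfl fun ξ _ => ?_
  rw [htr, Characters.classInner_irr_coeff]
  obtain ⟨d, hd, hξ1⟩ := Characters.exists_degree_pos ξ.2
  split_ifs
  · simp [hroot, hξ1]
  · simp

/-- The trace of the block below does not vanish at an element of `P`. -/
theorem T_below_ne_zero (hn : Nilp p ⊤ (gblk M B)) {χ : IrrCharacter G} (hχ : χ ∈ B)
    (h0 : Cfsg.blockHeight p B (χ : G → ℂ) = 0) {w : G} (hw : w ∈ P) :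
    T M (χ : G → ℂ) w (below p P eP (Subgroup.zpowers w)) ≠ 0 := by
  classical
  intro hT1
  set C := Subgroup.centralizer ({w} : Set G) with hC
  haveI := Fintype.ofFinite ↥C
  have hb := isBlock_gblk (M := M) hB
  have hle := le_below hmax hw
  have hQf := le_pair hmax.1.1 hle
  have hQC : Subgroup.centralizer ((Subgroup.zpowers w : Subgroup G) : Set G) = C := by
    rw [← cent_top, Star.cent_zpowers]
  set e := below p P eP (Subgroup.zpowers w) with he
  have hdef := defect_centralizer_of_nilp hb hmax hn hle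
  have hnl := Nilp.local_block hb hn ((blockHas_iff_of_le hb hle hQf).2 hmax.1)
  rw [hQC] at hdef hnl
  have heC : IsBlock C e := by
    have h1 := hQf.2.2
    rwa [cent_top, hQC] at h1
  obtain ⟨g, hg⟩ := exists_blockHas heC hdef.1 hdef.2.1 hdef.2.2.1
  obtain ⟨f, g', hf, hfe, -, hmaxC, hnC⟩ := exists_local_nilp heC (isMaxPair_of_defect hdef hg) hnl
  obtain ⟨η, hη, hη0⟩ := CfsgLib.Blocks.exists_height_zero hM (p := p) hf
  obtain ⟨Φ, -, hΦ, hΦreg⟩ := Star.exists_param hM hf hmaxC hnC hη hη0
  have hprop : ∀ ξ ∈ f, ∀ s : C, ¬ p ∣ orderOf s →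
      (ξ : C → ℂ) s * (η : C → ℂ) 1 = (ξ : C → ℂ) 1 * (η : C → ℂ) s := by
    intro ξ hξ s hs
    obtain ⟨θ, rfl⟩ := (hΦ ξ).1 hξ
    rw [hΦreg θ s hs, hΦreg θ 1 (by rw [orderOf_one]; exact hp.out.not_dvd_one)]
    ring
  have hzero : ∀ s : C, ¬ p ∣ orderOf s → T M (χ : G → ℂ) (w * (s : G)) e = 0 := by
    intro s hs
    have hfu := CfsgLib.Blocks.isBlockUnion_of_isPBlock hf
    have hTs : ∀ t : C, T M (χ : G → ℂ) (w * (t : G)) e = Cfsg.blockPart f
        (fun c : C => (χ : G → ℂ) (w * (c : G))) t := fun t => by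
      rw [← hfe]; exact T_sblk hM hfu (Characters.isClassFunction_of_isIrr χ.2) t
    have h1 := hTs 1
    rw [OneMemClass.coe_one, mul_one, hT1] at h1
    refine mul_left_cancel₀ (Characters.irr_one_ne_zero η.2) ?_
    rw [mul_zero, hTs s, ← zero_mul ((η : C → ℂ) s), h1]
    simp only [Cfsg.blockPart, CfsgLib.Blocks.finsum_irr_mem, Finset.mul_sum, Finset.sum_mul]
    refine Finset.sum_congr rfl fun ξ _ => ?_
    split_ifs with hξ
    · linear_combination (@Cfsg.classInner _ _ (Fintype.ofFinite C)
        (fun c : C => (χ : G → ℂ) (w * (c : G))) (ξ : C → ℂ)) * hprop ξ hξ s hs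
    · simp
  have ha := aval_eq_one hM hB hmax hn hχ h0 ⟨w, hw⟩
  rw [aval, cval, Star.cent_zpowers, nsum_eq_sum, Finset.sum_eq_zero fun s _ => ?_, mul_zero] at ha
  · exact zero_ne_one ha
  · split_ifs with hs
    · rfl
    · rw [show below p P eP (Subgroup.zpowers ((⟨w, hw⟩ : P) : G)) = e from rfl, hzero s hs,
        zero_mul]

end CfsgLib.TameBlocks
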