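import Cfsg.Agent.TameBlocks.DihedralChar
import Cfsg.Agent.TameBlocks.DihedralSums
import Cfsg.Agent.TameBlocks.StarValues
import Cfsg.Agent.TameBlocks.PairCount

/-!
# The class sums at the nontrivial rotations

When every reflection is fused to the central involution, the number of pairs of conjugates of it
with product on a rotation gives the columns `F · r` a value that is constant on the rotations of
each parity, nonzero on the even ones.
-/

set_option autoImplicit false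
set_option linter.unusedSectionVars false
set_option linter.style.haveILetI false

namespace CfsgLib.TameBlocks

open Cfsg CfsgLib.BlockPairs CfsgLib.Star
open CfsgLib.Blocks (Res)
open scoped ComplexConjugate Classical

universe u

section Restrict

variable {G : Type u} [Group G] {D K : Subgroup G} {h : ℕ}

/-- A dihedral subgroup seen inside a larger subgroup. -/
def Shape.restrict (S : Shape D h) (hDK : D ≤ K) : Shape (D.subgroupOf K) h where
  σ := ⟨S.σ, hDK S.σ_mem⟩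
  τ := ⟨S.τ, hDK S.τ_mem⟩
  σ_mem := S.σ_mem
  τ_mem := S.τ_mem
  τ_not_mem := fun ⟨k, hk⟩ => S.τ_not_mem ⟨k, by simpa using congrArg Subtype.val hk⟩
  order := by rw [Subgroup.orderOf_mk, S.order]
  «conj» := Subtype.ext (by simpa using S.conj)
  τ_sq := Subtype.ext (by simpa using S.τ_sq)
  gen := fun x hx => by
    rcases S.gen (x : G) hx with ⟨k, hk⟩ | ⟨k, hk⟩
    · exact Or.inl ⟨k, Subtype.ext (by simpa using hk)⟩
    · exact Or.inr ⟨k, Subtype.ext (by simpa using hk)⟩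
  card := by rw [Nat.card_congr (Subgroup.subgroupOfEquivOfLe hDK).toEquiv, S.card]
  two_pow := S.two_pow

end Restrict

variable {G : Type u} [Group G] [Fintype G] {M : Ideal AlgInt} [M.IsPrime]
  [CharP (Res M) 2] [IsAlgClosed (Res M)] {D : Subgroup G} {eP : GA (Res M) G} {h : ℕ}
  {S : Shape D h} (𝒞 : CenterData M eP S) (hM : Cfsg.IsPModular 2 M)
  {B : Set (IrrCharacter G)} (hB : Cfsg.IsPBlock M B)
  (hmax : IsMaxPair 2 (⊤ : Subgroup G) (gblk M B) D eP)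

/-- The dihedral group in the centralizer. -/
abbrev SK (S : Shape D h) : Shape (DS S) h := S.restrict (D_le_KS S)

/-- The conjugates of the central involution. -/
noncomputable def OmG (S : Shape D h) : Finset G := Finset.univ.filter fun g => IsConj S.z g

/-- Those of them in its centralizer. -/
noncomputable def OmK (S : Shape D h) : Finset ↥(KS S) :=
  Finset.univ.filter fun k => IsConj S.z (k : G)

theorem mem_OmG {g : G} : g ∈ OmG S ↔ IsConj S.z g := by simp [OmG]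

theorem mem_OmK {k : ↥(KS S)} : k ∈ OmK S ↔ IsConj S.z (k : G) := by simp [OmK]

theorem OmG_invariant : ∀ u ∈ OmG S, ∀ a : G, a * u * a⁻¹ ∈ OmG S := fun u hu a =>
  mem_OmG.2 ((mem_OmG.1 hu).trans (isConj_iff.2 ⟨a, rfl⟩))

theorem OmK_invariant : ∀ u ∈ OmK S, ∀ a : ↥(KS S), a * u * a⁻¹ ∈ OmK S := fun u hu a =>
  mem_OmK.2 ((mem_OmK.1 hu).trans (isConj_iff.2 ⟨(a : G), by simp⟩))

theorem sq_of_mem_OmG {u : G} (hu : u ∈ OmG S) : u * u = 1 := by
  obtain ⟨a, rfl⟩ := isConj_iff.1 (mem_OmG.1 hu)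
  rw [show a * S.z * a⁻¹ * (a * S.z * a⁻¹) = a * (S.z * S.z) * a⁻¹ by group, S.z_mul_z, mul_one,
    mul_inv_cancel]

theorem sq_of_mem_OmK {u : ↥(KS S)} (hu : u ∈ OmK S) : u * u = 1 :=
  Subtype.ext (sq_of_mem_OmG (S := S) (mem_OmG.2 (mem_OmK.1 hu)))

theorem ne_one_of_mem_OmK {u : ↥(KS S)} (hu : u ∈ OmK S) : u ≠ 1 := fun e => by
  have := mem_OmK.1 hu
  rw [e, OneMemClass.coe_one, isConj_one_left] at this
  exact S.z_ne_one this

/-- A product on the section of a nontrivial rotation is a product in the centralizer. -/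
theorem pairCount_section {r : G} (hr : r ∈ Subgroup.zpowers S.σ) (hr1 : r ≠ 1) {k : ↥(KS S)}
    (hk : pPart 2 (k : G) = r) : pairCount (OmG S) (k : G) = pairCount (OmK S) k := by
  have hmem : ∀ u ∈ OmG S, ∀ v ∈ OmG S, u * v = (k : G) → u ∈ KS S ∧ v ∈ KS S := by
    intro u hu v hv huv
    have hu2 := sq_of_mem_OmG hu
    have hv2 := sq_of_mem_OmG hv
    have hui : u⁻¹ = u := inv_eq_of_mul_eq_one_right hu2
    have hinv : u * (k : G) * u⁻¹ = (k : G)⁻¹ := by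
      rw [← huv, mul_inv_rev, inv_eq_of_mul_eq_one_right hv2, hui, ← mul_assoc u, hu2, one_mul]
    obtain ⟨i, hi⟩ := pPart_mem_zpowers (p := 2) (k : G)
    rw [hk] at hi
    have hur : u * r * u⁻¹ = r⁻¹ := by
      rw [← show (k : G) ^ i = r from hi, ← _root_.conj_zpow, hinv, inv_zpow]
    obtain ⟨j, hj⟩ := S.z_mem_zpowers_rot hr hr1
    have huz : u * S.z * u⁻¹ = S.z := by
      rw [← show r ^ j = S.z from hj, ← _root_.conj_zpow, hur, inv_zpow,
        show r ^ j = S.z from hj, S.z_inv]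
    have huK : u ∈ KS S := by
      rw [KS_eq, Subgroup.mem_centralizer_singleton_iff]
      exact mul_inv_eq_iff_eq_mul.1 huz
    refine ⟨huK, ?_⟩
    rw [show v = u⁻¹ * (k : G) by rw [← huv, inv_mul_cancel_left]]
    exact mul_mem (inv_mem huK) k.2
  set ι : ↥(KS S) ↪ G := ⟨Subtype.val, Subtype.val_injective⟩
  have hmap : (OmK S).map ι = (OmG S).filter fun g => g ∈ KS S := by
    ext g
    simp only [Finset.mem_map, Finset.mem_filter, mem_OmG, mem_OmK, ι, Function.Embedding.coeFn_mk]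
    exact ⟨fun ⟨a, ha, e⟩ => e ▸ ⟨ha, a.2⟩, fun ⟨ha, hg⟩ => ⟨⟨g, hg⟩, ha, rfl⟩⟩
  rw [pairCount_eq, pairCount_eq]
  symm
  calc ∑ u ∈ OmK S, ∑ v ∈ OmK S, (if u * v = k then (1 : ℂ) else 0)
      = ∑ u ∈ (OmK S).map ι, ∑ v ∈ (OmK S).map ι, (if u * v = (k : G) then (1 : ℂ) else 0) := by
        simp only [Finset.sum_map, ι, Function.Embedding.coeFn_mk]
        exact Finset.sum_congr rfl fun u _ => Finset.sum_congr rfl fun v _ =>
          if_congr (by rw [← Subgroup.coe_mul, Subtype.coe_inj]) rfl rfl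
    _ = ∑ u ∈ (OmK S).map ι, ∑ v ∈ OmG S, (if u * v = (k : G) then (1 : ℂ) else 0) := by
        refine Finset.sum_congr rfl fun u hu => ?_
        rw [hmap] at hu ⊢
        refine Finset.sum_filter_of_ne fun v hv hne => ?_
        exact (hmem u (Finset.mem_filter.1 hu).1 v hv (by by_contra e; exact hne (if_neg e))).2
    _ = _ := by
        rw [hmap]
        refine Finset.sum_filter_of_ne fun u hu hne => ?_
        obtain ⟨v, hv, hv0⟩ := Finset.exists_ne_zero_of_sum_ne_zero hne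
        exact (hmem u hu v hv (by by_contra e; exact hv0 (if_neg e))).1

theorem F_sum {ι : Type*} (s : Finset ι) (c : ι → ℂ) (φ : ι → G → ℂ) {x : G} (hx : x ∈ D) :
    F 𝒞 (fun g => ∑ i ∈ s, c i * φ i g) x = ∑ i ∈ s, c i * F 𝒞 (φ i) x := by
  simp only [F_apply 𝒞 _ hx, mult, Cfsg.classInner, Finset.mul_sum, Finset.sum_mul]
  rw [Finset.sum_comm (s := s)]
  refine Finset.sum_congr rfl fun θ _ => ?_
  rw [Finset.sum_comm]
  exact Finset.sum_congr rfl fun i _ => Finset.sum_congr rfl fun k _ => by ring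

/-- The value at the identity of a member of the central block. -/
theorem Psi_one (hM : Cfsg.IsPModular 2 M) (θ : IrrCharacter ↥(DS S)) :
    (𝒞.Ψ θ : ↥(KS S) → ℂ) 1 = (θ : ↥(DS S) → ℂ) 1 * (𝒞.χ₀ : ↥(KS S) → ℂ) 1 := by
  haveI : Fact (Nat.Prime 2) := ⟨Nat.prime_two⟩
  rw [𝒞.eqn, star_regular hM 𝒞.block 𝒞.maxPair
    (isInvariant_extend 𝒞.block 𝒞.maxPair 𝒞.nilp (Characters.isClassFunction_of_isIrr θ.2)) 𝒞.mem
    (by rw [orderOf_one]; exact Nat.prime_two.not_dvd_one)]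
  congr 1
  exact Characters.extendByZero_of_mem (DS S) _ (one_mem _)

/-- The indicator of a class of the dihedral group. -/
noncomputable def cind (x : ↥(DS S)) : ↥(KS S) → ℂ :=
  Cfsg.extendByZero (DS S) fun v : ↥(DS S) =>
    @ite ℂ (IsConj x v) (Classical.propDecidable _) 1 0

theorem cind_apply (x v : ↥(DS S)) [Decidable (IsConj x v)] :
    cind x (v : ↥(KS S)) = if IsConj x v then 1 else 0 := by
  rw [cind, Characters.extendByZero_of_mem (DS S) _ v.2]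
  congr 1

theorem isInvariant_cind (x : ↥(DS S)) : IsInvariant 2 (DS S) 𝒞.e (cind x) := by
  refine isInvariant_extend 𝒞.block 𝒞.maxPair 𝒞.nilp
    (θ := fun v : ↥(DS S) => @ite ℂ (IsConj x v) (Classical.propDecidable _) 1 0) ?_
  intro v w
  exact @if_congr ℂ _ _ (Classical.propDecidable _) (Classical.propDecidable _) _ _ _ _
    ⟨fun h => h.trans (isConj_iff.2 ⟨w⁻¹, by group⟩),
      fun h => h.trans (isConj_iff.2 ⟨w, rfl⟩)⟩ rfl rfl

omit 𝒞 in
theorem z_mem_center : (SK S).z ∈ Subgroup.center ↥(KS S) :=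
  Subgroup.mem_center_iff.2 fun k => Subtype.ext (Star.cent_zpowers_mem.1 k.2)

omit 𝒞 in
/-- Every reflection is conjugate to `τ` or to `τ * σ`. -/
theorem refl_class {K : Type*} [Group K] [Fintype K] {E : Subgroup K} {k : ℕ} (R : Shape E k)
    (w : E) (hw : ¬ R.IsRot w) : IsConj R.tau w ∨ IsConj (R.tau * R.sig) w := by
  obtain ⟨i, hi⟩ := R.eq_tau_mul w.2 hw
  have hw' : w = R.tau * R.sig ^ i := Subtype.ext (by simpa [Shape.tau, Shape.sig] using hi)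
  rcases Int.even_or_odd' i with ⟨j, rfl | rfl⟩
  · exact Or.inl (hw' ▸ R.isConj_mul_even _ R.not_isRot_tau j)
  · refine Or.inr ?_
    rw [hw', show (2 * j + 1 : ℤ) = 1 + 2 * j by ring, zpow_add, zpow_one, ← mul_assoc]
    exact R.isConj_mul_even _ (R.not_isRot_mul R.not_isRot_tau ⟨1, by simp [Shape.sig]⟩) j

/-- The members at the involutions off the centre. -/
theorem Psi_OmK (θ : IrrCharacter ↥(DS S)) {u : ↥(KS S)} (hu : u ∈ (OmK S).erase (SK S).z) :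
    (𝒞.Ψ θ : ↥(KS S) → ℂ) u =
      (θ : ↥(DS S) → ℂ) (SK S).tau *
          star 2 (DS S) 𝒞.e (cind (SK S).tau) (𝒞.χ₀ : ↥(KS S) → ℂ) u +
      (θ : ↥(DS S) → ℂ) ((SK S).tau * (SK S).sig) *
          star 2 (DS S) 𝒞.e (cind ((SK S).tau * (SK S).sig)) (𝒞.χ₀ : ↥(KS S) → ℂ) u := by
  haveI : Fact (Nat.Prime 2) := ⟨Nat.prime_two⟩
  obtain ⟨huz, huΩ⟩ := Finset.mem_erase.1 hu
  have hu2 := sq_of_mem_OmK huΩ
  have hu1 := ne_one_of_mem_OmK huΩ
  have hupp : pPart 2 u = u := pPart_self ⟨1, by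
    rw [pow_one]; exact orderOf_eq_prime (by rwa [pow_two]) hu1⟩
  rw [𝒞.eqn, star_apply, star_apply, star_apply, hupp, Finset.mul_sum, Finset.mul_sum,
    ← Finset.sum_add_distrib]
  refine Finset.sum_congr rfl fun e _ => ?_
  have hθi : IsInvariant 2 (DS S) 𝒞.e (Cfsg.extendByZero (DS S) (θ : ↥(DS S) → ℂ)) :=
    isInvariant_extend 𝒞.block 𝒞.maxPair 𝒞.nilp (Characters.isClassFunction_of_isIrr θ.2)
  by_cases hex : ∃ y, Le 2 ⊤ (cj y (Subgroup.zpowers u)) (conjA (Res M) y e) (DS S) 𝒞.e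
  · obtain ⟨y, hy⟩ := hex
    rw [zt_eq hθi hy, zt_eq (isInvariant_cind 𝒞 _) hy, zt_eq (isInvariant_cind 𝒞 _) hy]
    have hwD : y * u * y⁻¹ ∈ DS S := hy.subgroup_le (mem_cj.2 (by simp [mul_assoc]))
    obtain ⟨w, hw⟩ : ∃ w : ↥(DS S), y * u * y⁻¹ = (w : ↥(KS S)) := ⟨⟨_, hwD⟩, rfl⟩
    have hwn : ¬ (SK S).IsRot w := fun hrot => by
      rcases (SK S).eq_one_or_z hrot (by
        rw [← hw, show y * u * y⁻¹ * (y * u * y⁻¹) = y * (u * u) * y⁻¹ by group, hu2, mul_one,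
          mul_inv_cancel]) with e' | e' <;> rw [← hw] at e'
      · exact hu1 (conj_eq_one_iff.1 e')
      · apply huz
        calc u = y⁻¹ * (y * u * y⁻¹) * y := by group
          _ = y⁻¹ * ((SK S).z * y) := by rw [e', mul_assoc]
          _ = y⁻¹ * (y * (SK S).z) := by rw [Subgroup.mem_center_iff.1 z_mem_center y]
          _ = (SK S).z := inv_mul_cancel_left _ _
    rw [hw, cind_apply, cind_apply, Characters.extendByZero_of_mem (DS S) _ w.2, Subtype.coe_eta]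
    have hne := (SK S).not_isConj_tau
    rcases refl_class (SK S) w hwn with hc | hc
    · rw [if_pos hc, if_neg fun hc' => hne (hc.trans hc'.symm)]
      obtain ⟨a, ha⟩ := isConj_iff.1 hc
      rw [← ha, Characters.isClassFunction_of_isIrr θ.2]
      ring
    · rw [if_pos hc, if_neg fun hc' => hne (hc'.trans hc.symm)]
      obtain ⟨a, ha⟩ := isConj_iff.1 hc
      rw [← ha, Characters.isClassFunction_of_isIrr θ.2]
      ring
  · rw [zt_eq_zero fun y hy => hex ⟨y, hy⟩, zt_eq_zero fun y hy => hex ⟨y, hy⟩,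
      zt_eq_zero fun y hy => hex ⟨y, hy⟩]
    ring

/-- The star of a class indicator over the involutions off the centre. -/
theorem exists_star_cind_sum (hM : Cfsg.IsPModular 2 M) (w : ↥(DS S))
    (hw : (w : ↥(KS S)) * (w : ↥(KS S)) = 1) :
    ∃ a : ℝ, ∑ u ∈ (OmK S).erase (SK S).z,
        star 2 (DS S) 𝒞.e (cind w) (𝒞.χ₀ : ↥(KS S) → ℂ) u = (a : ℂ) ∧
      ((w : ↥(KS S)) ∈ (OmK S).erase (SK S).z → a ≠ 0) := by
  haveI : Fact (Nat.Prime 2) := ⟨Nat.prime_two⟩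
  set t := T M (𝒞.χ₀ : ↥(KS S) → ℂ) (w : ↥(KS S))
    (below 2 (DS S) 𝒞.e (Subgroup.zpowers (w : ↥(KS S)))) with ht
  have htb := mem_blocks.1 (below_mem_blocks 𝒞.maxPair w.2)
  rw [Star.cent_zpowers] at htb
  have htr := T_real hM hw htb (Characters.isCharacter_of_isIrr 𝒞.χ₀.2)
  obtain ⟨t', ht'⟩ : ∃ t' : ℝ, t = (t' : ℂ) := ⟨t.re, (Complex.conj_eq_iff_re.1 htr).symm⟩
  have ht0 : t ≠ 0 := T_below_ne_zero hM 𝒞.block 𝒞.maxPair 𝒞.nilp 𝒞.mem 𝒞.height w.2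
  choose! m hm hm1 using fun u (hu : u ∈ (OmK S).erase (SK S).z) =>
    star_classIndic hM 𝒞.block 𝒞.maxPair 𝒞.nilp w
      (Characters.isClassFunction_of_isIrr 𝒞.χ₀.2) (u := u) ⟨1, by
      rw [pow_one]
      exact orderOf_eq_prime (by rw [pow_two]; exact sq_of_mem_OmK (Finset.mem_of_mem_erase hu))
        (ne_one_of_mem_OmK (Finset.mem_of_mem_erase hu))⟩
  refine ⟨((∑ u ∈ (OmK S).erase (SK S).z, m u : ℕ) : ℝ) * t', ?_, fun hwm => mul_ne_zero ?_ ?_⟩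
  · have hval : ∀ u ∈ (OmK S).erase (SK S).z,
        star 2 (DS S) 𝒞.e (cind w) (𝒞.χ₀ : ↥(KS S) → ℂ) u = (m u : ℂ) * t := fun u hu => by
      refine Eq.trans (congrArg (fun c : ↥(KS S) → ℂ =>
        star 2 (DS S) 𝒞.e c (𝒞.χ₀ : ↥(KS S) → ℂ) u) ?_) (hm u hu)
      refine congrArg (Cfsg.extendByZero (DS S)) (funext fun v => ?_)
      by_cases hc : IsConj w v
      · rw [if_pos hc, if_pos hc]
      · rw [if_neg hc, if_neg hc]
    rw [Finset.sum_congr rfl hval,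
      ← Finset.sum_mul, ht']
    push_cast
    rfl
  · exact Nat.cast_ne_zero.2 (Nat.pos_iff_ne_zero.1 (lt_of_lt_of_le (hm1 _ hwm rfl)
      (Finset.single_le_sum (fun u _ => Nat.zero_le (m u)) hwm)))
  · exact fun e => ht0 (by rw [ht', e, Complex.ofReal_zero])

/-- The sum over the conjugates of a member of the central block. -/
theorem exists_sum_OmK (hM : Cfsg.IsPModular 2 M) (hτ : IsConj S.z S.τ) :
    ∃ A₀ A₁ : ℝ, A₀ ≠ 0 ∧ ∀ θ : IrrCharacter ↥(DS S), ∑ u ∈ OmK S, (𝒞.Ψ θ : ↥(KS S) → ℂ) u =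
      (θ : ↥(DS S) → ℂ) (SK S).zed * (𝒞.χ₀ : ↥(KS S) → ℂ) (SK S).z +
      ((θ : ↥(DS S) → ℂ) (SK S).tau * (A₀ : ℂ) +
        (θ : ↥(DS S) → ℂ) ((SK S).tau * (SK S).sig) * (A₁ : ℂ)) := by
  haveI : Fact (Nat.Prime 2) := ⟨Nat.prime_two⟩
  have hw₁n := (SK S).not_isRot_mul (SK S).not_isRot_tau
    (r := (SK S).sig) ⟨1, by simp [Shape.sig]⟩
  obtain ⟨A₀, hA₀, hA₀ne⟩ := exists_star_cind_sum 𝒞 hM (SK S).tau (SK S).τ_sq
  obtain ⟨A₁, hA₁, -⟩ := exists_star_cind_sum 𝒞 hM ((SK S).tau * (SK S).sig)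
    ((SK S).refl_sq ((SK S).tau * (SK S).sig).2 hw₁n)
  refine ⟨A₀, A₁, hA₀ne (Finset.mem_erase.2 ⟨fun e => (SK S).τ_not_mem ?_, mem_OmK.2 hτ⟩),
    fun θ => ?_⟩
  · rw [show (SK S).τ = (SK S).z from e]
    exact (SK S).z_mem_zpowers
  rw [← Finset.add_sum_erase _ _ (mem_OmK.2 (IsConj.refl S.z) : (SK S).z ∈ OmK S),
    Finset.sum_congr rfl (fun u hu => Psi_OmK 𝒞 θ hu), Finset.sum_add_distrib, ← Finset.mul_sum,
    ← Finset.mul_sum, hA₀, hA₁]
  congr 1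
  rw [𝒞.eqn, star_central hM 𝒞.block 𝒞.maxPair
    (isInvariant_extend 𝒞.block 𝒞.maxPair 𝒞.nilp (Characters.isClassFunction_of_isIrr θ.2)) 𝒞.mem
    (SK S).z_mem z_mem_center, Characters.extendByZero_of_mem (DS S) _ (SK S).z_mem]
  rfl

include hM hB hmax

/-- The columns weighted by the pair count on the rotations of each parity. -/
theorem exists_levels (hτ : IsConj S.z S.τ) :
    ∃ Lodd Leven : ℂ, Leven ≠ 0 ∧ ∀ a : ℕ, 0 < a → a < 2 * h →
      ∑ ψ : IrrCharacter G, (if ψ ∈ B then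
        (∑ u ∈ OmG S, (ψ : G → ℂ) u) ^ 2 / ((Nat.card G : ℂ) * (ψ : G → ℂ) 1) *
          F 𝒞 (ψ : G → ℂ) (S.σ ^ a) else 0) = if Even a then Leven else Lodd := by
  haveI : Fact (Nat.Prime 2) := ⟨Nat.prime_two⟩
  set S' := SK S with hS'
  obtain ⟨A₀, A₁, hA₀, hsum⟩ := exists_sum_OmK 𝒞 hM hτ
  set w₀ : ↥(DS S) := S'.tau
  set w₁ : ↥(DS S) := S'.tau * S'.sig with hw₁def
  set C : ↥(DS S) → ℂ := fun w =>
    (Nat.card (Subgroup.centralizer ({w} : Set ↥(DS S))) : ℂ) with hC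
  set c₀ := (𝒞.χ₀ : ↥(KS S) → ℂ) S'.z
  set d := (Nat.card ↥(KS S) : ℂ) * (𝒞.χ₀ : ↥(KS S) → ℂ) 1 with hd
  have hd0 : d ≠ 0 := mul_ne_zero (Nat.cast_ne_zero.2 Nat.card_pos.ne')
    (Characters.irr_one_ne_zero 𝒞.χ₀.2)
  refine ⟨((A₀ : ℂ) * A₁ * C w₀ + (A₁ : ℂ) * A₀ * C w₁) / d,
    ((A₀ : ℂ) * A₀ * C w₀ + (A₁ : ℂ) * A₁ * C w₁) / d, div_ne_zero ?_ hd0, fun a ha hah => ?_⟩
  · simp only [hC]
    rw [← Complex.ofReal_natCast, ← Complex.ofReal_natCast, ← Complex.ofReal_mul,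
      ← Complex.ofReal_mul, ← Complex.ofReal_mul, ← Complex.ofReal_mul, ← Complex.ofReal_add,
      Complex.ofReal_ne_zero]
    have h1 : (0 : ℝ) < Nat.card (Subgroup.centralizer ({w₀} : Set ↥(DS S))) :=
      Nat.cast_pos.2 Nat.card_pos
    have h2 : (0 : ℝ) ≤ Nat.card (Subgroup.centralizer ({w₁} : Set ↥(DS S))) := Nat.cast_nonneg _
    have h3 : 0 < A₀ * A₀ := mul_self_pos.2 hA₀
    have h4 : 0 ≤ A₁ * A₁ := mul_self_nonneg A₁
    positivity
  have hσm := pow_mem (Subgroup.mem_zpowers S.σ) a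
  have hr1 : S.σ ^ a ≠ 1 := fun e => by
    have := sigma_pow_inj S (a := a) (b := 0) hah (by omega) (by rw [e, pow_zero])
    omega
  have hrD : S.σ ^ a ∈ D := S.zpowers_le hσm
  set r' : ↥(DS S) := liftD ⟨S.σ ^ a, hrD⟩ with hr'
  have hr'eq : r' = S'.sig ^ a := Subtype.ext (Subtype.ext (by
    simp [r', liftD_coe, Shape.sig, hS', Shape.restrict]))
  have hr'rot : S'.IsRot r' := by
    rw [hr'eq]; exact_mod_cast S'.isRot_zpow (a : ℤ)
  have hr'1 : r' ≠ 1 := fun e => hr1 (by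
    have := congrArg (fun x : ↥(DS S) => ((x : ↥(KS S)) : G)) e
    simpa [r', liftD_coe] using this)
  -- the value of the pair count
  have hinvK := OmK_invariant (S := S)
  have hcfK := isClassFunction_pairCount hinvK
  have hcfG := isClassFunction_pairCount (OmG_invariant (S := S))
  have hjb := mem_blocks.1 (below_mem_blocks 𝒞.maxPair r'.2)
  rw [Star.cent_zpowers] at hjb
  have hFeq : F 𝒞 (pairCount (OmG S)) (S.σ ^ a) = FK 𝒞 (pairCount (OmK S)) r' := by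
    rw [F_eq_FK 𝒞 _ hrD, ← hr']
    have hcomap := isClassFunction_comap (KS S) hcfG
    have hone : ¬ 2 ∣ orderOf (1 : ↥(Subgroup.centralizer ({(r' : ↥(KS S))} : Set ↥(KS S)))) := by
      rw [orderOf_one]; exact Nat.prime_two.not_dvd_one
    have hsec : ∀ s : ↥(Subgroup.centralizer ({(r' : ↥(KS S))} : Set ↥(KS S))),
        ¬ 2 ∣ orderOf s →
        pairCount (OmG S) ((((r' : ↥(KS S)) * (s : ↥(KS S)) : ↥(KS S))) : G) =
          pairCount (OmK S) ((r' : ↥(KS S)) * (s : ↥(KS S))) := by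
      intro s hs
      refine pairCount_section hσm hr1 (pPart_eq ?_)
      refine ⟨((s : ↥(KS S)) : G), rfl, ?_, exists_orderOf_pow hmax hrD, ?_⟩
      · exact congrArg Subtype.val (Subgroup.mem_centralizer_singleton_iff.1 s.2).symm
      · rwa [Subgroup.orderOf_coe, Subgroup.orderOf_coe]
    have h1 := TK_F hM hmax 𝒞 hcomap r' 1 hone
    rw [T_congr_section hM hjb hcomap hcfK hsec 1 hone, TK_F hM hmax 𝒞 hcfK r' 1 hone] at h1
    rw [OneMemClass.coe_one, mul_one] at h1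
    exact (mul_right_cancel₀
      (T_below_ne_zero hM 𝒞.block 𝒞.maxPair 𝒞.nilp 𝒞.mem 𝒞.height r'.2) h1).symm
  have hzero : ∀ ψ : IrrCharacter G, ψ ∉ B → F 𝒞 (ψ : G → ℂ) (S.σ ^ a) = 0 := by
    intro ψ hψ
    have hone : ¬ 2 ∣ orderOf (1 : ↥(Subgroup.centralizer
        ({(⟨S.σ ^ a, D_le_KS S (S.zpowers_le hσm)⟩ : ↥(KS S))} : Set ↥(KS S)))) := by
      rw [orderOf_one]; exact Nat.prime_two.not_dvd_one
    have hT := T_F hM hmax 𝒞 (Characters.isClassFunction_of_isIrr ψ.2) hσm hr1 1 hone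
    have h0 := T_below_eq_zero hM hB hmax hψ hrD 1
      (by rw [orderOf_one]; exact Nat.prime_two.not_dvd_one)
    rw [OneMemClass.coe_one, mul_one] at h0
    rw [OneMemClass.coe_one, OneMemClass.coe_one, mul_one, mul_one, h0] at hT
    exact (mul_eq_zero.1 hT.symm).resolve_right
      (T_below_ne_zero hM 𝒞.block 𝒞.maxPair 𝒞.nilp 𝒞.mem 𝒞.height
        (Subgroup.mem_subgroupOf.2 hrD))
  have hlhs : ∑ ψ : IrrCharacter G, (if ψ ∈ B then
      (∑ u ∈ OmG S, (ψ : G → ℂ) u) ^ 2 / ((Nat.card G : ℂ) * (ψ : G → ℂ) 1) *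
        F 𝒞 (ψ : G → ℂ) (S.σ ^ a) else 0) = F 𝒞 (pairCount (OmG S)) (S.σ ^ a) := by
    rw [pairCount_expansion OmG_invariant fun u hu => sq_of_mem_OmG hu,
      F_sum 𝒞 Finset.univ _ (fun χ : IrrCharacter G => (χ : G → ℂ)) hrD]
    refine Finset.sum_congr rfl fun ψ _ => ?_
    by_cases hψ : ψ ∈ B
    · rw [if_pos hψ]
    · rw [if_neg hψ, hzero ψ hψ, mul_zero]
  rw [hlhs, hFeq, FK]
  have hcoef : ∀ θ : IrrCharacter ↥(DS S),
      Cfsg.classInner (pairCount (OmK S)) (𝒞.Ψ θ : ↥(KS S) → ℂ) =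
        (∑ u ∈ OmK S, (𝒞.Ψ θ : ↥(KS S) → ℂ) u) ^ 2 /
          ((Nat.card ↥(KS S) : ℂ) * (𝒞.Ψ θ : ↥(KS S) → ℂ) 1) := fun θ => by
    have hfun : pairCount (OmK S) = ∑ χ : IrrCharacter ↥(KS S),
        ((∑ u ∈ OmK S, (χ : ↥(KS S) → ℂ) u) ^ 2 /
          ((Nat.card ↥(KS S) : ℂ) * (χ : ↥(KS S) → ℂ) 1)) • (χ : ↥(KS S) → ℂ) := by
      rw [pairCount_expansion hinvK fun u hu => sq_of_mem_OmK hu]
      funext k
      simp [Finset.sum_apply]
    rw [hfun, Characters.classInner_irr_coeff]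
  have hw₀n : ¬ S'.IsRot w₀ := S'.not_isRot_tau
  have hw₁n : ¬ S'.IsRot w₁ := S'.not_isRot_mul hw₀n ⟨1, by simp [Shape.sig]⟩
  have hsplit : ∀ θ : IrrCharacter ↥(DS S),
      Cfsg.classInner (pairCount (OmK S)) (𝒞.Ψ θ : ↥(KS S) → ℂ) * (θ : ↥(DS S) → ℂ) r' =
      (c₀ * c₀ * ((θ : ↥(DS S) → ℂ) 1 * (θ : ↥(DS S) → ℂ) r') +
      2 * c₀ * A₀ * ((θ : ↥(DS S) → ℂ) S'.zed * (θ : ↥(DS S) → ℂ) w₀ / (θ : ↥(DS S) → ℂ) 1 * (θ : ↥(DS S) → ℂ) r') +
      2 * c₀ * A₁ * ((θ : ↥(DS S) → ℂ) S'.zed * (θ : ↥(DS S) → ℂ) w₁ / (θ : ↥(DS S) → ℂ) 1 * (θ : ↥(DS S) → ℂ) r') +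
      A₀ * A₀ * ((θ : ↥(DS S) → ℂ) w₀ * (θ : ↥(DS S) → ℂ) w₀ / (θ : ↥(DS S) → ℂ) 1 * (θ : ↥(DS S) → ℂ) r') +
      A₀ * A₁ * ((θ : ↥(DS S) → ℂ) w₀ * (θ : ↥(DS S) → ℂ) w₁ / (θ : ↥(DS S) → ℂ) 1 * (θ : ↥(DS S) → ℂ) r') +
      A₁ * A₀ * ((θ : ↥(DS S) → ℂ) w₁ * (θ : ↥(DS S) → ℂ) w₀ / (θ : ↥(DS S) → ℂ) 1 * (θ : ↥(DS S) → ℂ) r') +
      A₁ * A₁ * ((θ : ↥(DS S) → ℂ) w₁ * (θ : ↥(DS S) → ℂ) w₁ / (θ : ↥(DS S) → ℂ) 1 * (θ : ↥(DS S) → ℂ) r')) / d := by
    intro θ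
    rw [hcoef, hsum, Psi_one 𝒞 hM, hd]
    have h1 := BlocksCharsC.irr_central_mul θ.2 S'.zed_mem_center S'.zed
    rw [show S'.zed * S'.zed = 1 from Subtype.ext S'.z_mul_z] at h1
    have hθ1 := Characters.irr_one_ne_zero θ.2
    have hK : (Nat.card ↥(KS S) : ℂ) ≠ 0 := Nat.cast_ne_zero.2 Nat.card_pos.ne'
    have hχ1 := Characters.irr_one_ne_zero 𝒞.χ₀.2
    field_simp
    linear_combination -(θ : ↥(DS S) → ℂ) r' * c₀ * c₀ * h1
  rw [Finset.sum_congr rfl fun θ _ => hsplit θ, ← Finset.sum_div]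
  simp only [Finset.sum_add_distrib, ← Finset.mul_sum]
  rw [S'.sum_one_rot hr'1, S'.sum_zed_refl_rot hw₀n hr'rot, S'.sum_zed_refl_rot hw₁n hr'rot,
    S'.sum_refl_refl_rot hw₀n hr'rot, S'.sum_refl_refl_rot hw₁n hr'rot,
    S'.sum_refl_refl_rot hw₀n hr'rot, S'.sum_refl_refl_rot hw₁n hr'rot]
  have hne : ¬ IsConj w₀ w₁ := S'.not_isConj_tau
  have hE : ∀ (w : ↥(DS S)), ¬ S'.IsRot w → ∀ j : ℕ, IsConj w (w * S'.sig ^ (2 * j)) :=
    fun w hw j => by
      have := S'.isConj_mul_even w hw (j : ℤ)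
      exact_mod_cast this
  have hw0j := hE w₀ hw₀n
  have hw1j := hE w₁ hw₁n
  rcases Nat.even_or_odd' a with ⟨j, hj | hj⟩
  · have e : r' = S'.sig ^ (2 * j) := hr'eq.trans (by rw [hj])
    rw [if_pos (show Even a from ⟨j, by omega⟩), e, if_pos (hw0j j), if_pos (hw1j j),
      if_neg fun c => hne (c.trans (hw1j j).symm), if_neg fun c => hne ((hw0j j).trans c.symm)]
    ring
  · have e : r' = S'.sig ^ (2 * j + 1) := hr'eq.trans (by rw [hj])
    have e0 : w₀ * r' = w₁ * S'.sig ^ (2 * j) := by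
      rw [e, hw₁def, pow_succ', ← mul_assoc]
    have e1 : w₁ * r' = w₀ * S'.sig ^ (2 * (j + 1)) := by
      rw [e, hw₁def, mul_assoc, ← pow_succ', show 2 * j + 1 + 1 = 2 * (j + 1) by ring]
    rw [if_neg (show ¬ Even a by rintro ⟨i, hi⟩; omega), e0, e1,
      if_pos (hw0j (j + 1)), if_pos (hw1j j),
      if_neg fun c => hne (c.trans (hw1j j).symm),
      if_neg fun c => hne ((hw0j (j + 1)).trans c.symm)]
    ring

end CfsgLib.TameBlocks
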