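import Cfsg.Agent.TameBlocks.DihedralCount
import Cfsg.Agent.TameBlocks.DihedralSection

/-!
# A block with dihedral defect group of order `4 * h` has more than `h + 1` characters

With `h + 1` characters every involution of the defect group is fused to the central one and the
block has rank one; the class sums at the rotations then contradict the congruences of the columns.
-/

set_option autoImplicit false
set_option linter.unusedSectionVars false
set_option linter.style.haveILetI false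

namespace CfsgLib.TameBlocks

open Cfsg CfsgLib.BlockPairs CfsgLib.Star
open CfsgLib.Blocks (Res)
open CfsgLib.BlockPairing (regInner)
open CfsgLib.Contributions (contrib)
open scoped ComplexConjugate Classical

universe u

section Sums

/-- A symmetric sum over a period by half periods. -/
theorem sum_range_symm {A : Type*} [AddCommMonoid A] (h : ℕ) (hh : 0 < h) (g : ℕ → A)
    (hg : ∀ a, 0 < a → a < h → g (2 * h - a) = g a) :
    ∑ a ∈ Finset.range (2 * h), g a = g 0 + g h + 2 • ∑ a ∈ Finset.Ico 1 h, g a := by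
  have hIco : Finset.range h = insert 0 (Finset.Ico 1 h) := by
    ext a; simp [Finset.mem_range]; omega
  have hrefl : ∑ a ∈ Finset.Ico 1 h, g (h + a) = ∑ a ∈ Finset.Ico 1 h, g a := by
    refine Finset.sum_nbij' (fun a => h - a) (fun a => h - a) ?_ ?_ ?_ ?_ ?_ <;>
      intro a ha <;> simp only [Finset.mem_Ico, Finset.mem_coe] at ha ⊢
    · omega
    · omega
    · omega
    · omega
    · rw [← hg (h - a) (by omega) (by omega)]
      congr 1
      omega
  rw [two_mul, Finset.sum_range_add, hIco, Finset.sum_insert (by simp), Finset.sum_insert (by simp),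
    hrefl, Nat.add_zero, two_smul]
  abel

theorem sum_range_parity {A : Type*} [AddCommMonoid A] (g : ℕ → A) :
    ∀ h : ℕ, ∑ a ∈ Finset.range (2 * h), g a =
      ∑ j ∈ Finset.range h, (g (2 * j) + g (2 * j + 1)) := by
  intro h
  induction h with
  | zero => simp
  | succ h ih =>
    rw [show 2 * (h + 1) = 2 * h + 1 + 1 by ring, Finset.sum_range_succ, Finset.sum_range_succ, ih,
      Finset.sum_range_succ, add_assoc]

theorem sum_odd_add_even {A : Type*} [AddCommGroup A] (h : ℕ) (hh : 0 < h) (g : ℕ → A)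
    (hg : ∀ a, 0 < a → a < h → g (2 * h - a) = g a) :
    ∑ j ∈ Finset.range h, g (2 * j + 1) + ∑ j ∈ Finset.Ico 1 h, g (2 * j) =
      g h + 2 • ∑ a ∈ Finset.Ico 1 h, g a := by
  have h1 := sum_range_parity g h
  have hIco : Finset.range h = insert 0 (Finset.Ico 1 h) := by
    ext a; simp [Finset.mem_range]; omega
  rw [sum_range_symm h hh g hg, Finset.sum_add_distrib] at h1
  conv at h1 => rhs; arg 1; rw [hIco, Finset.sum_insert (by simp), mul_zero]
  refine add_left_cancel (a := g 0) ?_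
  rw [← add_assoc, ← add_assoc, h1]
  abel

end Sums

variable {G : Type u} [Group G] [Fintype G] {M : Ideal AlgInt} [M.IsPrime]
  [CharP (Res M) 2] [IsAlgClosed (Res M)] {D : Subgroup G} {eP : GA (Res M) G} {h : ℕ}
  {S : Shape D h} (𝒞 : CenterData M eP S) (hM : Cfsg.IsPModular 2 M)
  {B : Set (IrrCharacter G)} (hB : Cfsg.IsPBlock M B)
  (hmax : IsMaxPair 2 (⊤ : Subgroup G) (gblk M B) D eP)

/-- In a block of rank one the members are proportional on the regular elements. -/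
theorem regular_proportional {B : Set (IrrCharacter G)} (hl : Cfsg.blockRank 2 B = 1)
    {χ ψ : IrrCharacter G} (hχ : χ ∈ B) (hψ : ψ ∈ B) {g : G} (hg : ¬ 2 ∣ orderOf g) :
    (ψ : G → ℂ) g * (χ : G → ℂ) 1 = (ψ : G → ℂ) 1 * (χ : G → ℂ) g := by
  set R := fun θ : IrrCharacter G => Cfsg.pRegularPart 2 (θ : G → ℂ)
  set W := Submodule.span ℂ (R '' B)
  have hx : R χ ∈ W := Submodule.subset_span ⟨χ, hχ, rfl⟩
  have hy : R ψ ∈ W := Submodule.subset_span ⟨ψ, hψ, rfl⟩
  have h1 : ¬ 2 ∣ orderOf (1 : G) := by rw [orderOf_one]; norm_num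
  have hx0 : (⟨R χ, hx⟩ : W) ≠ 0 := fun e => Characters.irr_one_ne_zero χ.2 (by
    have := congrFun (congrArg Subtype.val e) 1
    simpa [R, BlockPairing.pRegularPart_apply, h1] using this)
  obtain ⟨c, hc⟩ := (finrank_eq_one_iff_of_nonzero' _ hx0).1 hl ⟨R ψ, hy⟩
  have hv : ∀ x : G, ¬ 2 ∣ orderOf x → (ψ : G → ℂ) x = c * (χ : G → ℂ) x := fun x hx' => by
    have := congrFun (congrArg Subtype.val hc) x
    simpa [R, BlockPairing.pRegularPart_apply, hx'] using this.symm
  rw [hv g hg, hv 1 h1]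
  ring

theorem contrib_mul_one {B : Set (IrrCharacter G)} (hl : Cfsg.blockRank 2 B = 1)
    {χ ψ : IrrCharacter G} (hχ : χ ∈ B) (hψ : ψ ∈ B) :
    (contrib 2 B ψ χ : ℂ) * (χ : G → ℂ) 1 = (ψ : G → ℂ) 1 * (contrib 2 B χ χ : ℂ) := by
  haveI : Fact (Nat.Prime 2) := ⟨Nat.prime_two⟩
  rw [Contributions.cast_contrib hψ, Contributions.cast_contrib hχ]
  rw [mul_assoc, ← mul_assoc ((ψ : G → ℂ) 1), mul_comm ((ψ : G → ℂ) 1) _, mul_assoc]
  congr 1
  simp only [regInner]
  rw [← mul_assoc ((ψ : G → ℂ) 1), mul_comm ((ψ : G → ℂ) 1) _, mul_assoc, mul_assoc, Finset.mul_sum,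
    Finset.sum_mul]
  congr 1
  refine Finset.sum_congr rfl fun g _ => ?_
  split_ifs with hg
  · simp
  · linear_combination (conj ((χ : G → ℂ) g)) * regular_proportional hl hχ hψ hg

include hM hB hmax S

/-- The weights of a block of rank one. -/
theorem contrib_self_eq_four (hcard : Nat.card B = h + 1) (hl : Cfsg.blockRank 2 B = 1)
    (hk0 : Nat.card {χ : IrrCharacter G // χ ∈ B ∧ Cfsg.blockHeight 2 B (χ : G → ℂ) = 0} = 4)
    {χ : IrrCharacter G} (hχ : χ ∈ B) (hne : Cfsg.blockHeight 2 B (χ : G → ℂ) ≠ 0) :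
    contrib 2 B χ χ = 4 := by
  haveI : Fact (Nat.Prime 2) := ⟨Nat.prime_two⟩
  set t := fun χ : IrrCharacter G => contrib 2 B χ χ
  set ht := fun χ : IrrCharacter G => Cfsg.blockHeight 2 B (χ : G → ℂ)
  set s := B.toFinset
  have hsB : ∀ {χ}, χ ∈ s ↔ χ ∈ B := fun {χ} => Set.mem_toFinset
  have hd : ((2 : ℤ) ^ Cfsg.blockDefect 2 B) = 4 * (h : ℤ) := by
    have hdB : Cfsg.IsDefectGroup 2 M B D :=
      (isDefectGroup_gblk_iff hB D).2 (IsMaxPair.isDefectGrp (isBlock_gblk hB) hmax).1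
    have := CfsgLib.Blocks.card_defectGroup hM hB hdB
    rw [S.card] at this
    exact_mod_cast this.symm
  have hsq : ∀ {a b : IrrCharacter G}, a ∈ B → b ∈ B →
      t a * t b = contrib 2 B a b * contrib 2 B a b := fun {a b} ha hb => by
    refine Int.cast_injective (α := ℂ) ?_
    push_cast
    have e1 := contrib_mul_one hl hb ha
    have e2 := contrib_mul_one hl ha hb
    rw [Contributions.contrib_symm hb ha] at e2
    refine mul_left_cancel₀ (mul_ne_zero (Characters.irr_one_ne_zero a.2)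
      (Characters.irr_one_ne_zero b.2)) ?_
    calc _ = ((a : G → ℂ) 1 * (t b : ℂ)) * ((b : G → ℂ) 1 * (t a : ℂ)) := by ring
      _ = _ := by simp only [t]; rw [← e1, ← e2]; ring
  obtain ⟨φ, hφ, hφ0⟩ := CfsgLib.Blocks.exists_height_zero hM (p := 2) hB
  have hφpos : 0 < t φ := by
    have h1 := Contributions.sum_sq (p := 2) hM hB hφ
    have h2 := Finset.single_le_sum (f := fun ψ => contrib 2 B φ ψ ^ 2)
      (fun _ _ => sq_nonneg _) (Set.mem_toFinset.2 hφ)
    have h3 := sq_pos_iff.2 (Contributions.contrib_ne_zero_of_height_zero (p := 2) hM hB hφ hφ hφ0)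
    rw [h1] at h2
    exact pos_of_mul_pos_right (lt_of_lt_of_le h3 h2) (pow_nonneg (by norm_num) _)
  have hodd : ∀ {a : IrrCharacter G}, a ∈ B → ht a = 0 → Odd (t a) := fun {a} ha h0 => by
    have h1 := Contributions.not_dvd_of_height_zero (p := 2) hM hB ha ha h0
    rw [show Cfsg.blockHeight 2 B (a : G → ℂ) = 0 from h0, zero_add, pow_one] at h1
    rcases Int.even_or_odd (t a) with he | ho
    · exact absurd (even_iff_two_dvd.1 he) h1
    · exact ho
  obtain ⟨-, hcases⟩ := weights s t ht (even_iff_two_dvd.2 S.even_h) (fun a ha => by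
      have h1 := Contributions.contrib_ne_zero_of_height_zero (p := 2) hM hB (hsB.1 ha) hφ hφ0
      have h2 := mul_self_pos.2 h1
      rw [← hsq (hsB.1 ha) hφ] at h2
      exact (mul_pos_iff_of_pos_right hφpos).1 h2)
    (fun a ha => by
      have h1 := pow_dvd_pow_of_dvd (Contributions.height_spec (p := 2) hM (hsB.1 ha) φ).1 2
      rw [pow_two (contrib 2 B a φ), ← hsq (hsB.1 ha) hφ, ← pow_mul, mul_comm _ 2, pow_mul] at h1
      have hcop : IsCoprime ((4 : ℤ) ^ ht a) (t φ) := by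
        refine IsCoprime.pow_left ?_
        obtain ⟨j, hj⟩ := hodd hφ hφ0
        rw [show (4 : ℤ) = 2 * 2 from rfl, hj]
        exact IsCoprime.mul_left ⟨-j, 1, by ring⟩ ⟨-j, 1, by ring⟩
      exact hcop.dvd_of_dvd_mul_right (by exact_mod_cast h1))
    (fun a ha h0 => hodd (hsB.1 ha) h0) (fun a ha b hb _ => ⟨_, hsq (hsB.1 ha) (hsB.1 hb)⟩)
    (by
      refine mul_left_cancel₀ hφpos.ne' ?_
      have hsum := Contributions.sum_sq (p := 2) hM hB hφ
      push_cast at hsum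
      rw [Finset.mul_sum, ← hd, mul_comm (t φ), ← hsum]
      exact Finset.sum_congr rfl fun a ha => by rw [hsq hφ (hsB.1 ha), pow_two])
    (by rw [show s.card = Nat.card B by rw [Set.toFinset_card, Nat.card_eq_fintype_card], hcard])
    ⟨φ, hsB.2 hφ, hφ0⟩ (by
      rw [← hk0, Nat.card_eq_fintype_card, Fintype.card_subtype]
      exact le_of_eq (congrArg Finset.card (by ext; simp [s, ht])))
  rcases hcases with ⟨h3, -⟩ | ⟨-, -, h4⟩
  · rw [Set.toFinset_card, ← Nat.card_eq_fintype_card, hcard] at h3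
    omega
  · exact (h4 χ (hsB.2 hχ) hne).2

include 𝒞

/-- Without representatives outside the rotations every involution is fused to `z`. -/
theorem fused_z (hreps : reps S eP ⊆ rots S) {w : G} (hw : w ∈ D) (hw1 : w ≠ 1) (h2 : w * w = 1) :
    Fused 2 D eP w S.z := by
  obtain ⟨r, ⟨hr, hf⟩, -⟩ := (isReps_reps hB hmax S).2 w hw
  have hσ := mem_zpowers_of_mem_rots S (hreps hr)
  have hord := hf.orderOf_eq
  rw [orderOf_eq_prime (p := 2) (by rwa [pow_two]) hw1] at hord
  rcases S.eq_one_or_z hσ (by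
    have := pow_orderOf_eq_one r
    rwa [hord, pow_two] at this) with e | e
  · rw [e, orderOf_one] at hord
    norm_num at hord
  · exact e ▸ hf

/-- The value of a member at the central involution. -/
theorem apply_z (hreps : reps S eP ⊆ rots S) {ψ : IrrCharacter G} (hψ : ψ ∈ B) :
    (ψ : G → ℂ) S.z = F 𝒞 (ψ : G → ℂ) S.z * (𝒞.χ₀ : ↥(KS S) → ℂ) (SK S).z := by
  haveI : Fact (Nat.Prime 2) := ⟨Nat.prime_two⟩
  have hpp : pPart 2 S.z = S.z := pPart_self (exists_orderOf_pow hmax S.z_mem)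
  have hT : T M (ψ : G → ℂ) S.z (below 2 D eP (Subgroup.zpowers S.z)) = (ψ : G → ℂ) S.z := by
    refine Eq.trans ?_
      (sum_T_blocks (p := 2) (M := M) (Characters.isClassFunction_of_isIrr ψ.2) S.z)
    rw [hpp, Finset.sum_eq_single (below 2 D eP (Subgroup.zpowers S.z))]
    · intro e he hne
      by_contra hT
      obtain ⟨y, hy⟩ := exists_conj_of_T_ne_zero hM hB hmax hψ (by rw [hpp]; exact he) hT
      rw [hpp, Star.cj_zpowers] at hy
      have hyD : y * S.z * y⁻¹ ∈ D := hy.subgroup_le (Subgroup.mem_zpowers _)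
      obtain ⟨g, hg, hgz⟩ := fused_z 𝒞 hM hB hmax hreps hyD
        (fun e => S.z_ne_one (conj_eq_one_iff.1 e))
        (by rw [show y * S.z * y⁻¹ * (y * S.z * y⁻¹) = y * (S.z * S.z) * y⁻¹ by group, S.z_mul_z,
          mul_one, mul_inv_cancel])
      have h1 := (mor_iff hy).1 hg
      rw [Star.cj_zpowers, hgz, conjA_conjA] at h1
      have hgy : g * y ∈ cent ⊤ (Subgroup.zpowers S.z) := by
        rw [Star.cent_zpowers, Subgroup.mem_centralizer_singleton_iff]
        calc g * y * S.z = g * (y * S.z * y⁻¹) * g⁻¹ * (g * y) := by group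
          _ = S.z * (g * y) := by rw [hgz]
      rw [(mem_blocks.1 he).fixed (g * y) hgy] at h1
      exact hne (below_eq hmax h1).symm
    · exact fun hn => absurd (below_mem_blocks hmax S.z_mem) hn
  have h := T_F hM hmax 𝒞 (Characters.isClassFunction_of_isIrr ψ.2) S.z_mem_zpowers S.z_ne_one 1
    (by rw [orderOf_one]; exact Nat.prime_two.not_dvd_one)
  rw [OneMemClass.coe_one, OneMemClass.coe_one, mul_one, mul_one, hT] at h
  rw [h]
  exact congrArg _ (T_below_central hM 𝒞.block 𝒞.maxPair 𝒞.mem (SK S).z_mem z_mem_center)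

/-- The sum over the nontrivial rotations of the products of two columns. -/
theorem sum_rot_products (hreps : reps S eP ⊆ rots S) {χ ψ : IrrCharacter G} (hχ : χ ∈ B)
    (hψ : ψ ∈ B) :
    ∑ j ∈ Finset.range h, F 𝒞 (ψ : G → ℂ) (S.σ ^ (2 * j + 1)) * F 𝒞 (χ : G → ℂ) (S.σ ^ (2 * j + 1)) +
      ∑ j ∈ Finset.Ico 1 h, F 𝒞 (ψ : G → ℂ) (S.σ ^ (2 * j)) * F 𝒞 (χ : G → ℂ) (S.σ ^ (2 * j)) =
      (4 * h : ℂ) * (if ψ = χ then 1 else 0) - (contrib 2 B ψ χ : ℂ) := by
  haveI : Fact (Nat.Prime 2) := ⟨Nat.prime_two⟩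
  have hσ := Subgroup.mem_zpowers S.σ
  have hfc := fun θ : IrrCharacter G => Characters.isClassFunction_of_isIrr θ.2
  set g : ℕ → ℂ := fun a => F 𝒞 (ψ : G → ℂ) (S.σ ^ a) * F 𝒞 (χ : G → ℂ) (S.σ ^ a) with hg
  show ∑ j ∈ Finset.range h, g (2 * j + 1) + ∑ j ∈ Finset.Ico 1 h, g (2 * j) = _
  rw [sum_odd_add_even h S.h_pos g fun a _ ha => by
    have e : S.σ ^ (2 * h - a) = (S.σ ^ a)⁻¹ := eq_inv_of_mul_eq_one_left (by
      rw [← pow_add, Nat.sub_add_cancel (by omega), ← S.order, pow_orderOf_eq_one])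
    simp only [g]
    rw [e, F_rot_inv 𝒞 ψ (pow_mem hσ a), F_rot_inv 𝒞 χ (pow_mem hσ a)]]
  have hR : reps S eP = rots S := Finset.Subset.antisymm hreps (rots_subset_reps hB hmax S)
  have hsum := sum_sval hM hB hmax (isReps_reps hB hmax S) hψ hχ
  have hIco : Finset.range (h + 1) = insert 0 (insert h (Finset.Ico 1 h)) := by
    ext a; simp [Finset.mem_range]; omega
  have := S.h_two_le
  rw [hR, rots, Finset.sum_image (fun a ha b hb e => sigma_pow_inj S
      (by have := Finset.mem_range.1 ha; omega) (by have := Finset.mem_range.1 hb; omega) e),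
    hIco, Finset.sum_insert (by simp; omega), Finset.sum_insert (by simp), pow_zero,
    sval_one hM hB hmax hψ hχ] at hsum
  have hne : ∀ a, 0 < a → a ≤ h → S.σ ^ a ≠ 1 := fun a ha hah e => by
    have := sigma_pow_inj S (a := a) (b := 0) (by omega) (by omega) (by rw [e, pow_zero])
    omega
  rw [sval_eq_F hM hmax 𝒞 (hfc ψ) (hfc χ) (pow_mem hσ h) (hne h S.h_pos le_rfl),
    card_inf_centralizer_rot (pow_mem hσ h) (hne h S.h_pos le_rfl),
    if_pos (show S.σ ^ h = S.z from rfl), conj_F_rot 𝒞 χ (pow_mem hσ h),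
    Finset.sum_congr rfl (g := fun a => g a / (2 * h : ℂ)) (fun a ha => by
      obtain ⟨ha1, ha2⟩ := Finset.mem_Ico.1 ha
      have hne' : S.σ ^ a ≠ S.z := fun e => by
        have := sigma_pow_inj S (a := a) (b := h) (by omega) (by omega) e
        omega
      rw [sval_eq_F hM hmax 𝒞 (hfc ψ) (hfc χ) (pow_mem hσ a) (hne a ha1 ha2.le),
        card_inf_centralizer_rot (pow_mem hσ a) (hne a ha1 ha2.le), if_neg hne',
        conj_F_rot 𝒞 χ (pow_mem hσ a)]
      simp [g]), ← Finset.sum_div] at hsum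
  have hdB : Cfsg.IsDefectGroup 2 M B D :=
    (isDefectGroup_gblk_iff hB D).2 (IsMaxPair.isDefectGrp (isBlock_gblk hB) hmax).1
  rw [Contributions.cast_contrib hψ, ← CfsgLib.Blocks.card_defectGroup hM hB hdB, S.card, ← hsum]
  have hh : (h : ℂ) ≠ 0 := Nat.cast_ne_zero.2 S.h_pos.ne'
  simp only [g, nsmul_eq_mul]
  push_cast
  field_simp
  ring

/-- The case of `h + 1` characters does not occur. -/
theorem not_card_add_one (hcard : Nat.card B = h + 1) (h4 : 4 ≤ h)
    (hk0 : Nat.card {χ : IrrCharacter G // χ ∈ B ∧ Cfsg.blockHeight 2 B (χ : G → ℂ) = 0} = 4)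
    (hN : ∀ χ ∈ B, ∀ N : ℤ, Cfsg.blockHeight 2 B (χ : G → ℂ) ≠ 0 →
      ∑ j ∈ Finset.range h, F 𝒞 (χ : G → ℂ) (S.σ ^ (2 * j + 1)) = (h : ℂ) * (N : ℂ) → N = 0)
    (hF : ∀ χ ∈ B, Cfsg.blockHeight 2 B (χ : G → ℂ) ≠ 0 → F 𝒞 (χ : G → ℂ) S.z ^ 2 = 4) :
    False := by
  haveI : Fact (Nat.Prime 2) := ⟨Nat.prime_two⟩
  obtain ⟨l, hl, hl1⟩ := exists_count 𝒞 hM hB hmax
  have hrk := BlockPairing.one_le_blockRank (p := 2) (CfsgLib.Blocks.isPBlock_nonempty hB)
  have hreps : reps S eP ⊆ rots S := by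
    rw [← Finset.sdiff_eq_empty_iff_subset, Finset.eq_empty_iff_forall_notMem]
    intro r hr
    have := Finset.single_le_sum (f := l) (fun _ _ => Nat.zero_le _) hr
    have := hl1 r hr
    omega
  have hrank : Cfsg.blockRank 2 B = 1 := by omega
  obtain ⟨χ, hχ, hχne⟩ : ∃ χ ∈ B, Cfsg.blockHeight 2 B (χ : G → ℂ) ≠ 0 := by
    by_contra hc
    push Not at hc
    have : Nat.card {χ : IrrCharacter G // χ ∈ B ∧ Cfsg.blockHeight 2 B (χ : G → ℂ) = 0} =
        Nat.card B := Nat.card_congr (Equiv.subtypeEquivRight fun χ => ⟨fun h => h.1, fun h => ⟨h, hc χ h⟩⟩)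
    omega
  have hcχ := contrib_self_eq_four (S := S) hM hB hmax hcard hrank hk0 hχ hχne
  have hFχ := hF χ hχ hχne
  obtain ⟨N, hNeq, -⟩ := exists_N 𝒞 hM χ
  have hN0 := hN χ hχ N hχne hNeq
  have hodd0 : ∑ j ∈ Finset.range h, F 𝒞 (χ : G → ℂ) (S.σ ^ (2 * j + 1)) = 0 := by
    rw [hNeq, hN0, Int.cast_zero, mul_zero]
  have hτz : IsConj S.z S.τ := by
    obtain ⟨g, -, hg⟩ := fused_z 𝒞 hM hB hmax hreps S.τ_mem
      (fun e => S.τ_not_mem (e ▸ one_mem _)) S.τ_sq
    exact IsConj.symm (isConj_iff.2 ⟨g, hg⟩)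
  obtain ⟨Lodd, Leven, hL, hlev⟩ := exists_levels 𝒞 hM hB hmax hτz
  set c : IrrCharacter G → ℂ := fun ψ =>
    (∑ u ∈ OmG S, (ψ : G → ℂ) u) ^ 2 / ((Nat.card G : ℂ) * (ψ : G → ℂ) 1) with hcdef
  set c₀ := (𝒞.χ₀ : ↥(KS S) → ℂ) (SK S).z
  set A := ((OmG S).card : ℂ) ^ 2 * c₀ ^ 2 / (Nat.card G : ℂ) with hA
  have hcψ : ∀ ψ ∈ B, c ψ = A * F 𝒞 (ψ : G → ℂ) S.z ^ 2 / (ψ : G → ℂ) 1 := fun ψ hψ => by
    have : ∀ u ∈ OmG S, (ψ : G → ℂ) u = (ψ : G → ℂ) S.z := fun u hu => by
      obtain ⟨a, rfl⟩ := isConj_iff.1 (mem_OmG.1 hu)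
      exact Characters.isClassFunction_of_isIrr ψ.2 S.z a
    rw [hcdef]
    simp only
    rw [Finset.sum_congr rfl this, Finset.sum_const, nsmul_eq_mul, apply_z 𝒞 hM hB hmax hreps hψ, hA]
    ring
  -- both ways of summing
  have hzero : ∑ ψ : IrrCharacter G, (if ψ ∈ B then c ψ *
      ((4 * h : ℂ) * (if ψ = χ then 1 else 0) - (contrib 2 B ψ χ : ℂ)) else 0) = 0 := by
    have h1 := sum_F_mul_rot 𝒞 hM hB hmax S.z_mem_zpowers S.z_ne_one S.z_mem_zpowers S.z_ne_one
    rw [if_pos rfl, S.z_inv, if_pos rfl] at h1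
    have hχ1 := Characters.irr_one_ne_zero χ.2
    rw [Finset.sum_congr rfl (g := fun ψ : IrrCharacter G =>
      (if ψ = χ then (4 * h : ℂ) * c χ else 0) - (4 * A / (χ : G → ℂ) 1) *
        (if ψ ∈ B then F 𝒞 (ψ : G → ℂ) S.z * F 𝒞 (ψ : G → ℂ) S.z else 0)) fun ψ _ => ?_,
      Finset.sum_sub_distrib, Finset.sum_ite_eq', if_pos (Finset.mem_univ _), ← Finset.mul_sum, h1,
      hcψ χ hχ, hFχ]
    · field_simp
      ring
    · by_cases hψ : ψ ∈ B
      · have e := contrib_mul_one hrank hχ hψ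
        rw [hcχ] at e
        push_cast at e
        have hψ1 := Characters.irr_one_ne_zero ψ.2
        have ec : (contrib 2 B ψ χ : ℂ) = 4 * (ψ : G → ℂ) 1 / (χ : G → ℂ) 1 := by
          rw [eq_div_iff hχ1, e]; ring
        rw [if_pos hψ, if_pos hψ]
        by_cases hψχ : ψ = χ
        · subst hψχ
          rw [if_pos rfl, if_pos rfl, ec, hcψ ψ hψ]
          field_simp
        · rw [if_neg hψχ, if_neg hψχ, ec, hcψ ψ hψ]
          field_simp
          ring
      · rw [if_neg hψ, if_neg hψ, if_neg fun (e : ψ = χ) => hψ (e ▸ hχ)]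
        ring
  rw [Finset.sum_congr rfl (g := fun ψ : IrrCharacter G =>
      ∑ j ∈ Finset.range h, F 𝒞 (χ : G → ℂ) (S.σ ^ (2 * j + 1)) *
        (if ψ ∈ B then c ψ * F 𝒞 (ψ : G → ℂ) (S.σ ^ (2 * j + 1)) else 0) +
      ∑ j ∈ Finset.Ico 1 h, F 𝒞 (χ : G → ℂ) (S.σ ^ (2 * j)) *
        (if ψ ∈ B then c ψ * F 𝒞 (ψ : G → ℂ) (S.σ ^ (2 * j)) else 0))
    (fun ψ _ => by
      by_cases hψ : ψ ∈ B
      · simp only [if_pos hψ]
        rw [← sum_rot_products 𝒞 hM hB hmax hreps hχ hψ, mul_add, Finset.mul_sum, Finset.mul_sum]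
        congr 1 <;> exact Finset.sum_congr rfl fun j _ => by ring
      · simp [if_neg hψ]),
    Finset.sum_add_distrib, Finset.sum_comm,
    Finset.sum_congr rfl (g := fun j => F 𝒞 (χ : G → ℂ) (S.σ ^ (2 * j + 1)) * Lodd) (fun j hj => by
      rw [← Finset.mul_sum, hlev _ (by omega) (by have := Finset.mem_range.1 hj; omega),
        if_neg (show ¬ Even (2 * j + 1) by rintro ⟨i, hi⟩; omega)]),
    ← Finset.sum_mul, hodd0, zero_mul, zero_add, Finset.sum_comm,
    Finset.sum_congr rfl (g := fun j => F 𝒞 (χ : G → ℂ) (S.σ ^ (2 * j)) * Leven) (fun j hj => by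
      obtain ⟨hj1, hj2⟩ := Finset.mem_Ico.1 hj
      rw [← Finset.mul_sum, hlev _ (by omega) (by omega), if_pos (even_two_mul j)]),
    ← Finset.sum_mul, mul_eq_zero, or_iff_left hL] at hzero
  -- the congruence
  have hσ := Subgroup.mem_zpowers S.σ
  obtain ⟨f, hf⟩ := exists_int_F_z 𝒞 χ
  obtain ⟨m, hm⟩ := S.even_h
  have hIm : Finset.Ico 1 h = Finset.Ico 1 (2 * m) := by rw [hm]
  set q : ℕ → ℂ := fun j => if j = 0 then 0 else F 𝒞 (χ : G → ℂ) (S.σ ^ (2 * j)) with hq
  have hsym := sum_range_symm m (by omega) q fun a ha ham => by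
    have e : S.σ ^ (2 * (2 * m - a)) = (S.σ ^ (2 * a))⁻¹ := eq_inv_of_mul_eq_one_left (by
      rw [← pow_add, show 2 * (2 * m - a) + 2 * a = orderOf S.σ by rw [S.order]; omega,
        pow_orderOf_eq_one])
    simp only [q]
    rw [if_neg (by omega), if_neg (by omega), e, F_rot_inv 𝒞 χ (pow_mem hσ _)]
  have hrange : Finset.range (2 * m) = insert 0 (Finset.Ico 1 (2 * m)) := by
    ext a; simp [Finset.mem_range]; omega
  rw [hrange, Finset.sum_insert (by simp)] at hsym
  have hqz : q m = (f : ℂ) := by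
    simp only [q]
    rw [if_neg (by omega), show 2 * m = h from hm.symm]
    exact hf
  have hq0 : q 0 = 0 := by simp [q]
  have hzero' : ∑ j ∈ Finset.Ico 1 (2 * m), q j = 0 := by
    rw [← hzero, hIm]
    exact Finset.sum_congr rfl fun j hj => by
      simp only [q]; rw [if_neg (by have := (Finset.mem_Ico.1 hj).1; omega)]
  rw [hzero', hq0, zero_add, zero_add, hqz, nsmul_eq_mul, eq_comm, Nat.cast_ofNat] at hsym
  obtain ⟨f1, hf1⟩ := Characters.gen_one_isInt (isGen_F 𝒞 χ)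
  have hf2 : f = 2 ∨ f = -2 := by
    have : ((f ^ 2 : ℤ) : ℂ) = ((4 : ℤ) : ℂ) := by push_cast; rw [← hf]; exact hFχ
    have h' := Int.cast_injective this
    rcases sq_eq_sq_iff_eq_or_eq_neg.1 (h'.trans (by norm_num : (4 : ℤ) = 2 ^ 2)) with e | e
    · exact Or.inl e
    · exact Or.inr e
  have heven1 : Even f1 := by
    have := even_sub_of_F 𝒞 hM χ S.z_mem hf hf1
    rcases hf2 with rfl | rfl <;> (rw [Int.even_sub] at this; exact this.1 (by decide))
  have hI : ∀ j ∈ Finset.Ico 1 m, Cfsg.MemLocalIdeal M (q j) := fun j hj => by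
    have h1 := F_sub_mem hM 𝒞 χ (x := S.σ ^ (2 * j)) (pow_mem S.σ_mem _)
    have h2 : Cfsg.MemLocalIdeal M (F 𝒞 (χ : G → ℂ) 1) := by
      rw [show F 𝒞 (χ : G → ℂ) 1 = (f1 : ℂ) from hf1, MajorSubsection.memLocalIdeal_intCast_iff hM]
      exact_mod_cast even_iff_two_dvd.1 heven1
    simp only [q]
    rw [if_neg (by have := (Finset.mem_Ico.1 hj).1; omega)]
    simpa using CfsgLib.Blocks.memLocalIdeal_add h1 h2
  have hsumI := CfsgLib.Blocks.memLocalIdeal_sum (M := M) (Finset.Ico 1 m) hI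
  rcases hf2 with rfl | rfl
  · rw [show ∑ j ∈ Finset.Ico 1 m, q j = ((-1 : ℤ) : ℂ) from by push_cast at hsym ⊢; linear_combination hsym / 2,
      MajorSubsection.memLocalIdeal_intCast_iff hM] at hsumI
    norm_num at hsumI
  · rw [show ∑ j ∈ Finset.Ico 1 m, q j = ((1 : ℤ) : ℂ) from by push_cast at hsym ⊢; linear_combination hsym / 2,
      MajorSubsection.memLocalIdeal_intCast_iff hM] at hsumI
    norm_num at hsumI

end CfsgLib.TameBlocks
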