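import Cfsg.Agent.Star.Contr
import Cfsg.Agent.BlockPairing.DefectOne

/-!
# The subsections below a maximal pair

For a set `R` of representatives of the classes of `P` under the fusion of the maximal pair
`(P, eP)` the inner product of two stars is a sum over `R` of the contributions `sval`, which
therefore form orthogonal projections adding up to the identity on the block.
-/

set_option autoImplicit false
set_option linter.unusedSectionVars false
set_option linter.style.haveILetI false

namespace CfsgLib.TameBlocks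

open Cfsg CfsgLib.BlockPairs CfsgLib.Star
open CfsgLib.Blocks (Res)
open CfsgLib.BlockPairing (regInner)
open scoped ComplexConjugate

universe u

variable {G : Type u} [Group G] [Fintype G] {M : Ideal AlgInt} [M.IsPrime] {p : ℕ}
  [hp : Fact p.Prime] {P : Subgroup G} {eP : GA (Res M) G}

/-- Conjugation of `w` to `w'` by a map below the maximal pair. -/
def Fused (p : ℕ) (P : Subgroup G) (eP : GA (Res M) G) (w w' : G) : Prop :=
  ∃ g, Mor p P eP (Subgroup.zpowers w) g ∧ g * w * g⁻¹ = w'

/-- `R` contains exactly one member of each class of `P`. -/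
def IsReps (p : ℕ) (P : Subgroup G) (eP : GA (Res M) G) (R : Finset G) : Prop :=
  (∀ r ∈ R, r ∈ P) ∧ ∀ w ∈ P, ∃! r, r ∈ R ∧ Fused p P eP w r

/-- The contribution of the subsection at `r` of two functions. -/
noncomputable def sval (p : ℕ) [Fact p.Prime] (P : Subgroup G) (eP : GA (Res M) G) (r : G)
    (χ ψ : G → ℂ) : ℂ :=
  nsum p χ ψ (cent ⊤ (Subgroup.zpowers r)) r (below p P eP (Subgroup.zpowers r)) /
    (Nat.card ↥(cent ⊤ (Subgroup.zpowers r)) : ℂ)

theorem sval_conj (r : G) (χ ψ : G → ℂ) :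
    conj (sval p P eP r χ ψ) = sval p P eP r ψ χ := by
  simp [sval, nsum, map_sum, mul_comm]

section Pair

variable [CharP (Res M) p] (hPe : IsPair p ⊤ P eP)

include hPe

theorem Fused.of_mem {w g : G} (hw : w ∈ P) (hg : g ∈ P) : Fused p P eP w (g * w * g⁻¹) :=
  ⟨g, Mor.of_mem hPe (Subgroup.zpowers_le.2 hw) hg, rfl⟩

theorem Fused.refl {w : G} (hw : w ∈ P) : Fused p P eP w w :=
  ⟨1, Mor.of_mem hPe (Subgroup.zpowers_le.2 hw) P.one_mem, by simp⟩

omit hPe in
theorem Fused.symm {w w' : G} (h : Fused p P eP w w') : Fused p P eP w' w := by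
  obtain ⟨g, hg, rfl⟩ := h
  refine ⟨g⁻¹, ?_, by group⟩
  have := hg.inv
  rwa [Star.cj_zpowers] at this

theorem Fused.trans {w w' w'' : G} (h : Fused p P eP w w') (h' : Fused p P eP w' w'') :
    Fused p P eP w w'' := by
  obtain ⟨g, hg, rfl⟩ := h
  obtain ⟨g', hg', rfl⟩ := h'
  exact ⟨g' * g, hg.comp hPe hg' (Star.cj_zpowers g w).le, by group⟩

omit hPe in
theorem Fused.mem_left {w w' : G} (h : Fused p P eP w w') : w ∈ P :=
  h.choose_spec.1.source_le (Subgroup.mem_zpowers w)

omit hPe in
theorem Fused.mem_right {w w' : G} (h : Fused p P eP w w') : w' ∈ P :=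
  h.choose_spec.2 ▸ h.choose_spec.1.target_le (mem_cj.2 (by simp [mul_assoc]))

omit hPe in
theorem Fused.orderOf_eq {w w' : G} (h : Fused p P eP w w') : orderOf w' = orderOf w := by
  obtain ⟨g, -, rfl⟩ := h
  exact (MulAut.conj g).orderOf_eq w

open Classical in
/-- The indicator of the class of `r`. -/
noncomputable def indic (p : ℕ) (P : Subgroup G) (eP : GA (Res M) G) (r w : G) : ℂ :=
  if Fused p P eP w r then 1 else 0

theorem isInvariant_indic (r : G) : IsInvariant p P eP (indic p P eP r) := by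
  intro w g hm
  have h : Fused p P eP w (g * w * g⁻¹) := ⟨g, hm, rfl⟩
  have : Fused p P eP (g * w * g⁻¹) r ↔ Fused p P eP w r :=
    ⟨fun h' => h.trans hPe h', fun h' => h.symm.trans hPe h'⟩
  classical
  unfold indic
  exact if_congr this rfl rfl

theorem IsReps.eq_of_fused {R : Finset G} (hR : IsReps p P eP R) {r r' : G} (hr : r ∈ R)
    (hr' : r' ∈ R) (h : Fused p P eP r r') : r = r' :=
  (hR.2 r (hR.1 r hr)).unique ⟨hr, Fused.refl hPe (hR.1 r hr)⟩ ⟨hr', h⟩

theorem indic_apply {R : Finset G} (hR : IsReps p P eP R) {r r' : G} (hr : r ∈ R) (hr' : r' ∈ R)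
    [Decidable (r = r')] :
    indic p P eP r r' = if r = r' then 1 else 0 := by
  classical
  by_cases h : r = r'
  · subst h
    rw [if_pos rfl, indic, if_pos (Fused.refl hPe (hR.1 r hr))]
  · rw [if_neg h, indic, if_neg fun h' => h (hR.eq_of_fused hPe hr' hr h').symm]

end Pair

variable [CharP (Res M) p] [IsAlgClosed (Res M)] (hM : Cfsg.IsPModular p M)
  {B : Set (IrrCharacter G)} (hB : Cfsg.IsPBlock M B)
  (hmax : IsMaxPair p (⊤ : Subgroup G) (gblk M B) P eP) {R : Finset G}
  (hR : IsReps p P eP R)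

include hM hB hmax hR

open Classical in
/-- The inner product of two stars as a sum over the representatives. -/
theorem classInner_star_reps {χ ψ : G → ℂ} (hf : Cfsg.IsClassFunction G χ)
    (hf' : Cfsg.IsClassFunction G ψ) {ζ ζ' : G → ℂ} (hζ : IsInvariant p P eP ζ)
    (hζ' : IsInvariant p P eP ζ') :
    Cfsg.classInner (star p P eP ζ χ) (star p P eP ζ' ψ) =
      ∑ r ∈ R, ζ r * conj (ζ' r) * sval p P eP r χ ψ := by
  let F : (Σ _ : G, GA (Res M) G) → ℂ := fun σ =>
    zt p P eP ζ σ.1 σ.2 * conj (zt p P eP ζ' σ.1 σ.2) *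
      nsum p χ ψ (cent ⊤ (Subgroup.zpowers σ.1)) σ.1 σ.2
  let S : Finset (Σ _ : G, GA (Res M) G) :=
    (Finset.univ.filter fun x : G => ∃ k, orderOf x = p ^ k).sigma
      fun x => blocks (Res M) (cent ⊤ (Subgroup.zpowers x))
  have hL : Cfsg.classInner (star p P eP ζ χ) (star p P eP ζ' ψ) =
      (Nat.card G : ℂ)⁻¹ * ∑ σ ∈ S, F σ := by
    simp only [Cfsg.classInner]
    congr 1
    rw [Finset.sum_sigma, Finset.sum_filter]
    refine (sum_eq_sum_sections' (p := p) _).trans (Finset.sum_congr rfl fun x _ => ?_)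
    split_ifs with hx
    · rw [sum_section_star hM hx hf hf', Star.cent_zpowers]
      exact Finset.sum_congr rfl fun e _ => by
        simp only [F]; rw [Star.cent_zpowers, nsum_eq_sum]
    · rfl
  let Φ : G × R → (Σ _ : G, GA (Res M) G) := fun a =>
    ⟨a.1 * (a.2 : G) * a.1⁻¹, conjA (Res M) a.1 (below p P eP (Subgroup.zpowers (a.2 : G)))⟩
  have hΦ : ∀ a, Φ a ∈ S := by
    rintro ⟨g, w⟩
    refine Finset.mem_sigma.2 ⟨Finset.mem_filter.2 ⟨Finset.mem_univ _, ?_⟩, ?_⟩
    · obtain ⟨k, hk⟩ := hmax.1.1.2.1 ⟨w, hR.1 _ w.2⟩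
      obtain ⟨i, -, hi⟩ := (Nat.dvd_prime_pow hp.out).1
        (orderOf_dvd_of_pow_eq_one (x := (w : G)) (n := p ^ k) (congrArg Subtype.val hk))
      exact ⟨i, ((MulAut.conj g).orderOf_eq (w : G)).trans hi⟩
    · have h := (mem_blocks.1 (below_mem_blocks hmax (hR.1 _ w.2))).conjA g
      rw [Star.cj_cent_top, Star.cj_zpowers] at h
      exact mem_blocks.2 h
  have hFΦ : ∀ a : G × R, F (Φ a) = ζ (a.2 : G) * conj (ζ' (a.2 : G)) *
      nsum p χ ψ (cent ⊤ (Subgroup.zpowers (a.2 : G))) (a.2 : G)
        (below p P eP (Subgroup.zpowers (a.2 : G))) := by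
    rintro ⟨g, w⟩
    have hle := Star.le_below hmax (hR.1 _ w.2)
    simp only [F, Φ]
    rw [zt_conj hζ, zt_conj hζ',
      nsum_conj hf hf' g (w : G) (mem_blocks.1 (below_mem_blocks hmax (hR.1 _ w.2))),
      zt_eq hζ (x := 1) (by rwa [conjA_one_left, cj_one]),
      zt_eq hζ' (x := 1) (by rwa [conjA_one_left, cj_one])]
    simp
  let c : R → ℂ := fun r => ((Nat.card ↥(cent ⊤ (Subgroup.zpowers (r : G))) : ℂ))⁻¹
  have hA : ∑ a : G × R, c a.2 * F (Φ a) =
      (Nat.card G : ℂ) * ∑ r ∈ R, ζ r * conj (ζ' r) * sval p P eP r χ ψ := by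
    simp only [hFΦ]
    rw [Fintype.sum_prod_type]
    dsimp only
    rw [Finset.sum_const, Finset.card_univ, ← Nat.card_eq_fintype_card, nsmul_eq_mul,
      ← Finset.sum_coe_sort R (fun r => ζ r * conj (ζ' r) * sval p P eP r χ ψ)]
    refine congrArg _ (Finset.sum_congr rfl fun r _ => ?_)
    simp only [c, sval, div_eq_mul_inv]
    ring
  have hB' : ∑ a : G × R, c a.2 * F (Φ a) = ∑ σ ∈ S, F σ := by
    rw [← Finset.sum_fiberwise_of_maps_to (g := Φ) (fun a _ => hΦ a)]
    refine Finset.sum_congr rfl ?_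
    rintro ⟨x, e⟩ hσ
    rw [Finset.sum_congr rfl fun a ha => by rw [(Finset.mem_filter.1 ha).2], ← Finset.sum_mul]
    by_cases hF : F ⟨x, e⟩ = 0
    · rw [hF, mul_zero]
    obtain ⟨y, hy⟩ : ∃ y, Le p ⊤ (cj y (Subgroup.zpowers x)) (conjA (Res M) y e) P eP := by
      by_contra h
      apply hF
      simp only [F]
      rw [zt_eq_zero fun y hy => h ⟨y, hy⟩, zero_mul, zero_mul]
    rw [Star.cj_zpowers] at hy
    set u₀ := y * x * y⁻¹ with hu₀
    have hu₀P : u₀ ∈ P := hy.subgroup_le (Subgroup.mem_zpowers _)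
    obtain ⟨r, ⟨hrR, g₀, hg₀, hgr⟩, huniq⟩ := hR.2 u₀ hu₀P
    set t := g₀ * y with ht
    have htx : t * x * t⁻¹ = r := by rw [← hgr, ht, hu₀]; group
    have hte : below p P eP (Subgroup.zpowers r) = conjA (Res M) t e := by
      refine below_eq hmax ?_
      have h := (mor_iff hy).1 hg₀
      rwa [Star.cj_zpowers, hgr, conjA_conjA] at h
    set C := cent ⊤ (Subgroup.zpowers r) with hC
    have hCmem : ∀ g, g ∈ C ↔ g * r = r * g := fun g => by
      rw [hC, Star.cent_zpowers, Subgroup.mem_centralizer_singleton_iff]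
    have hfib : Finset.univ.filter (fun a : G × R => Φ a = ⟨x, e⟩) =
        (Finset.univ.filter fun g => g ∈ C).image fun g => (t⁻¹ * g, (⟨r, hrR⟩ : R)) := by
      ext ⟨g, w⟩
      simp only [Finset.mem_filter, Finset.mem_univ, true_and, Finset.mem_image]
      constructor
      · intro hb
        have hb' := Sigma.mk.inj_iff.1 hb
        have hgw : g * (w : G) * g⁻¹ = x := hb'.1
        have hge : conjA (Res M) g (below p P eP (Subgroup.zpowers (w : G))) = e :=
          eq_of_heq hb'.2
        have hwP := hR.1 _ w.2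
        have hwu : (y * g) * (w : G) * (y * g)⁻¹ = u₀ := by rw [hu₀, ← hgw]; group
        have hm : Fused p P eP (w : G) u₀ := by
          refine ⟨y * g, (mor_iff (Star.le_below hmax hwP)).2 ?_, hwu⟩
          rw [Star.cj_zpowers, hwu, ← conjA_conjA, hge]
          exact hy
        have hwr : (w : G) = r := huniq _ ⟨w.2, hm.symm⟩
        refine ⟨t * g, (hCmem _).2 ?_, Prod.ext (by simp) (Subtype.ext hwr.symm)⟩
        calc t * g * r = t * (g * (w : G) * g⁻¹) * g := by rw [hwr]; group
          _ = t * x * t⁻¹ * (t * g) := by rw [hgw]; group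
          _ = r * (t * g) := by rw [htx]
      · rintro ⟨c', hc, hcw⟩
        obtain ⟨rfl, rfl⟩ := Prod.ext_iff.1 hcw
        refine Sigma.ext ?_ (heq_of_eq ?_)
        · show t⁻¹ * c' * r * (t⁻¹ * c')⁻¹ = x
          calc t⁻¹ * c' * r * (t⁻¹ * c')⁻¹ = t⁻¹ * (c' * r * c'⁻¹) * t := by group
            _ = x := by rw [(hCmem _).1 hc, mul_inv_cancel_right, ← htx]; group
        · show conjA (Res M) (t⁻¹ * c') (below p P eP (Subgroup.zpowers r)) = e
          rw [← conjA_conjA, (mem_blocks.1 (below_mem_blocks hmax (hR.1 r hrR))).fixed c' hc, hte,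
            conjA_inv]
    have hsum : ∑ a ∈ Finset.univ.filter (fun a : G × R => Φ a = ⟨x, e⟩), c a.2 = 1 := by
      rw [hfib, Finset.sum_image fun a _ b _ h => mul_left_cancel (congrArg Prod.fst h)]
      simp only [c]
      rw [Finset.sum_const, nsmul_eq_mul, ← Fintype.card_subtype, ← Nat.card_eq_fintype_card,
        show (Nat.card {g // g ∈ C} : ℕ) = Nat.card ↥C from rfl,
        mul_inv_cancel₀ (Nat.cast_ne_zero.2 Nat.card_pos.ne')]
    rw [hsum, one_mul]
  rw [hL, ← hB', hA, ← mul_assoc, inv_mul_cancel₀ (Nat.cast_ne_zero.2 Nat.card_pos.ne'), one_mul]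

/-- The contributions add up to the identity on the block. -/
theorem sum_sval [DecidableEq (IrrCharacter G)] {χ ψ : IrrCharacter G} (hχ : χ ∈ B)
    (hψ : ψ ∈ B) :
    ∑ r ∈ R, sval p P eP r (χ : G → ℂ) ψ = if χ = ψ then 1 else 0 := by
  have h := classInner_star_reps hM hB hmax hR (Characters.isClassFunction_of_isIrr χ.2)
    (Characters.isClassFunction_of_isIrr ψ.2) (ζ := (1 : G → ℂ)) (ζ' := (1 : G → ℂ))
    isInvariant_one isInvariant_one
  rw [star_of_eq_one hM hB hmax (ζ := (1 : G → ℂ)) (fun _ _ => rfl) isInvariant_one hχ,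
    star_of_eq_one hM hB hmax (ζ := (1 : G → ℂ)) (fun _ _ => rfl) isInvariant_one hψ,
    Characters.classInner_irr] at h
  simpa using h.symm

/-- The pairing of a star with a member. -/
theorem classInner_star_member {ζ : G → ℂ} (hζ : IsInvariant p P eP ζ) {χ : G → ℂ}
    (hχ : Cfsg.IsClassFunction G χ) {ψ : IrrCharacter G} (hψ : ψ ∈ B) :
    Cfsg.classInner (star p P eP ζ χ) (ψ : G → ℂ) = ∑ r ∈ R, ζ r * sval p P eP r χ ψ := by
  have h := classInner_star_reps hM hB hmax hR hχ
    (Characters.isClassFunction_of_isIrr ψ.2) (ζ' := (1 : G → ℂ)) hζ isInvariant_one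
  rw [star_of_eq_one hM hB hmax (ζ := (1 : G → ℂ)) (fun _ _ => rfl) isInvariant_one hψ] at h
  simpa using h

omit hR in
/-- The star of a member has no constituent outside the block. -/
theorem classInner_star_out {ζ : G → ℂ} (hζ : IsInvariant p P eP ζ) {χ : IrrCharacter G}
    (hχ : χ ∈ B) {ψ : IrrCharacter G} (hψ : ψ ∉ B) :
    Cfsg.classInner (star p P eP ζ (χ : G → ℂ)) (ψ : G → ℂ) = 0 := by
  classical
  have hf := Characters.isClassFunction_of_isIrr χ.2
  have hg := Characters.isClassFunction_of_isIrr ψ.2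
  have hB' := CfsgLib.Blocks.isPBlock_blockOf (M := M) ψ
  set B' := Cfsg.blockOf M (ψ : G → ℂ) with hB'def
  have hψ' : ψ ∈ B' := CfsgLib.Blocks.mem_blockOf_self ψ
  have hne : B' ≠ B := fun h => hψ (h ▸ hψ')
  have hprod : gblk M B' * gblk M B = (0 : GA (Res M) G) :=
    ((isBlock_gblk hB').eq_or_mul_eq_zero (isBlock_gblk hB)).resolve_left
      fun h => hne (gblk_inj hB' hB h)
  simp only [Cfsg.classInner]
  rw [mul_eq_zero]
  refine Or.inr ((sum_eq_sum_sections' (p := p) _).trans (Finset.sum_eq_zero fun x _ => ?_))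
  split_ifs with hx
  swap
  · rfl
  calc _ = ∑ s : ↥(Subgroup.centralizer ({x} : Set G)),
        ∑ e ∈ blocks (Res M) (Subgroup.centralizer ({x} : Set G)),
        ∑ e' ∈ blocks (Res M) (Subgroup.centralizer ({x} : Set G)),
          zt p P eP ζ x e * (if p ∣ orderOf s then 0 else
            T M (χ : G → ℂ) (x * (s : G)) e * conj (T M (ψ : G → ℂ) (x * (s : G)) e')) := by
        refine Finset.sum_congr rfl fun s _ => ?_
        split_ifs with hs
        · simp
        · rw [star_section hM hx _ hs, ← sum_T_blocks (p := p) (M := M) hg (x * (s : G)),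
            pPart_mul_regular hx hs, Star.cent_zpowers, map_sum, Finset.sum_mul_sum]
          exact Finset.sum_congr rfl fun e _ => Finset.sum_congr rfl fun e' _ => by ring
    _ = 0 := by
        rw [Finset.sum_comm]
        refine Finset.sum_eq_zero fun e he => ?_
        rw [Finset.sum_comm]
        refine Finset.sum_eq_zero fun e' he' => ?_
        rw [← Finset.mul_sum]
        refine mul_eq_zero_of_right _ ?_
        by_cases hee : e = e'
        · subst hee
          refine Finset.sum_eq_zero fun s _ => ?_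
          split_ifs with hs
          · rfl
          have hpp := pPart_mul_regular hx hs
          have he2 : e ∈ blocks (Res M) (cent ⊤ (Subgroup.zpowers (pPart p (x * (s : G))))) := by
            rwa [hpp, Star.cent_zpowers]
          have heb := mem_blocks.1 he2
          have hP := isPGroup_zpowers_pPart (p := p) (x * (s : G))
          by_cases h1 : br (Subgroup.zpowers (pPart p (x * (s : G)))) (gblk M B) * e = 0
          · rw [T_eq_zero_of_not_under hM hB hχ he2 h1, zero_mul]
          have h3 : br (Subgroup.zpowers (pPart p (x * (s : G)))) (gblk M B) * e = e :=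
            (heb.dichotomy (br_mem_cent_block (isBlock_gblk hB).mem)
              (br_idem hP ((isBlock_gblk hB).fixed.mono le_top) (isBlock_gblk hB).idem)).resolve_left h1
          have h2 : br (Subgroup.zpowers (pPart p (x * (s : G)))) (gblk M B') * e = 0 := by
            rw [← h3, ← mul_assoc, ← br_mul hP ((isBlock_gblk hB').fixed.mono le_top)
              ((isBlock_gblk hB).fixed.mono le_top), hprod, br_zero, zero_mul]
          rw [T_eq_zero_of_not_under hM hB' hψ' he2 h2, map_zero, mul_zero]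
        · obtain ⟨f, hf1, rfl⟩ := exists_eq_sblk (M := M) (mem_blocks.1 he)
          obtain ⟨f', hf1', rfl⟩ := exists_eq_sblk (M := M) (mem_blocks.1 he')
          have hff : f ≠ f' := fun h => hee (by rw [h])
          have h0 := regInner_blockPart_eq_zero (p := p) hM hf1 hf1' hff
            (fun c : ↥(Subgroup.centralizer ({x} : Set G)) => (χ : G → ℂ) (x * (c : G)))
            (fun c : ↥(Subgroup.centralizer ({x} : Set G)) => (ψ : G → ℂ) (x * (c : G)))
          rw [regInner, mul_eq_zero, inv_eq_zero, Nat.cast_eq_zero] at h0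
          refine Eq.trans ?_ (h0.resolve_left Nat.card_pos.ne')
          refine Finset.sum_congr rfl fun s _ => ?_
          split_ifs
          · rfl
          · rw [T_sblk hM (CfsgLib.Blocks.isBlockUnion_of_isPBlock hf1) hf,
              T_sblk hM (CfsgLib.Blocks.isBlockUnion_of_isPBlock hf1') hg]

open Classical in
/-- The contributions of different representatives are orthogonal projections on the block. -/
theorem sum_sval_mul {χ φ : IrrCharacter G} (hχ : χ ∈ B) (hφ : φ ∈ B) {r r' : G} (hr : r ∈ R)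
    (hr' : r' ∈ R) :
    ∑ ψ : IrrCharacter G, (if ψ ∈ B then
        sval p P eP r (χ : G → ℂ) ψ * sval p P eP r' (ψ : G → ℂ) φ else 0) =
      if r = r' then sval p P eP r (χ : G → ℂ) φ else 0 := by
  have hPe := hmax.1.1
  have hi := fun r => isInvariant_indic (r := r) hPe
  set f := star p P eP (indic p P eP r) (χ : G → ℂ) with hf
  set g := star p P eP (indic p P eP r') (φ : G → ℂ) with hg
  have hfc : Cfsg.IsClassFunction G f :=
    isClassFunction_star hM (hi r) (Characters.isClassFunction_of_isIrr χ.2)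
  have hval : ∀ (a : G), a ∈ R → ∀ θ : IrrCharacter G, ∀ ψ ∈ B,
      Cfsg.classInner (star p P eP (indic p P eP a) (θ : G → ℂ)) (ψ : G → ℂ) =
        sval p P eP a (θ : G → ℂ) ψ := fun a ha θ ψ hψ => by
    rw [classInner_star_member hM hB hmax hR (hi a) (Characters.isClassFunction_of_isIrr θ.2) hψ,
      Finset.sum_eq_single a]
    · rw [indic_apply hPe hR ha ha, if_pos rfl, one_mul]
    · intro b hb hne
      rw [indic_apply hPe hR ha hb, if_neg (Ne.symm hne), zero_mul]
    · exact fun h => absurd ha h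
  have h := classInner_star_reps hM hB hmax hR (Characters.isClassFunction_of_isIrr χ.2)
    (Characters.isClassFunction_of_isIrr φ.2) (hi r) (hi r')
  rw [← hf, ← hg, Characters.classInner_eq_sum hfc g] at h
  rw [Finset.sum_eq_single r (fun b hb hne => by
      rw [indic_apply hPe hR hr hb, if_neg (Ne.symm hne), zero_mul, zero_mul])
    (fun hn => absurd hr hn), indic_apply hPe hR hr hr, indic_apply hPe hR hr' hr] at h
  refine (Finset.sum_congr rfl fun ψ _ => ?_).trans (h.trans ?_)
  · by_cases hψ : ψ ∈ B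
    · rw [if_pos hψ, hf, hval r hr χ ψ hψ, ← sval_conj r' (φ : G → ℂ) (ψ : G → ℂ),
        ← hval r' hr' φ ψ hψ, ← hg, Characters.classInner_conj_symm]
    · rw [if_neg hψ, hf, classInner_star_out hM hB hmax (hi r) hχ hψ, zero_mul]
  · by_cases hrr : r = r'
    · rw [if_pos hrr, if_pos rfl, if_pos hrr.symm]; simp
    · rw [if_neg hrr, if_pos rfl, if_neg (Ne.symm hrr)]; simp

variable {r : G}

omit hR in
/-- The contribution is the form of the block below. -/
theorem sval_eq_secInner [Fintype ↥(Subgroup.centralizer ({r} : Set G))]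
    {f : Set (IrrCharacter ↥(Subgroup.centralizer ({r} : Set G)))} (hf : Cfsg.IsPBlock M f)
    (hbel : below p P eP (Subgroup.zpowers r) = sblk M (Subgroup.centralizer ({r} : Set G)) f)
    {χ ψ : G → ℂ} (hχ : Cfsg.IsClassFunction G χ) (hψ : Cfsg.IsClassFunction G ψ) :
    sval p P eP r χ ψ = BlocksCharsC.secInner p r f χ ψ := by
  classical
  have hfu := CfsgLib.Blocks.isBlockUnion_of_isPBlock hf
  have hsec : ∀ {θ : G → ℂ}, Cfsg.IsClassFunction G θ → BlocksCharsC.secVal r f θ =
      fun s : ↥(Subgroup.centralizer ({r} : Set G)) =>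
        T M θ (r * (s : G)) (sblk M (Subgroup.centralizer ({r} : Set G)) f) := fun {θ} hθ => by
    funext s
    rw [T_sblk hM hfu hθ, BlocksCharsC.secVal, Cfsg.blockPart, CfsgLib.Blocks.finsum_irr_mem,
      show Fintype.ofFinite ↥(Subgroup.centralizer ({r} : Set G)) = ‹_› from Subsingleton.elim _ _,
      ← Finset.sum_filter]
    exact Finset.sum_congr (by ext; simp) fun ξ _ => rfl
  rw [sval, hbel, Star.cent_zpowers, nsum_eq_sum, BlocksCharsC.secInner, hsec hχ, hsec hψ, regInner,
    div_eq_inv_mul]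

omit hR in
open Classical in
/-- The trace of the contributions of a subsection is the rank of the block below. -/
theorem sum_sval_self (hr : r ∈ P) [Fintype ↥(Subgroup.centralizer ({r} : Set G))]
    {f : Set (IrrCharacter ↥(Subgroup.centralizer ({r} : Set G)))} (hf : Cfsg.IsPBlock M f)
    (hbel : below p P eP (Subgroup.zpowers r) = sblk M (Subgroup.centralizer ({r} : Set G)) f) :
    ∑ χ : IrrCharacter G, (if χ ∈ B then sval p P eP r (χ : G → ℂ) χ else 0) = (Cfsg.blockRank p f : ℂ) := by
  classical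
  have hc := fun χ : IrrCharacter G => Characters.isClassFunction_of_isIrr χ.2
  obtain ⟨k, hk⟩ := hmax.1.1.2.1 ⟨r, hr⟩
  obtain ⟨i, -, hi⟩ := (Nat.dvd_prime_pow hp.out).1
    (orderOf_dvd_of_pow_eq_one (x := r) (n := p ^ k) (congrArg Subtype.val hk))
  rw [← BlocksCharsC.sum_secInner_self hM (CfsgLib.Blocks.isBlockUnion_of_isPBlock hf) ⟨i, hi⟩]
  simp only [← sval_eq_secInner hM hB hmax hf hbel (hc _) (hc _)]
  refine Finset.sum_congr rfl fun χ _ => ?_
  by_cases hχ : χ ∈ B
  · rw [if_pos hχ]
  rw [if_neg hχ, eq_comm, sval, nsum, Finset.sum_eq_zero, zero_div]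
  intro s hs'
  obtain ⟨hs, hs'⟩ := (Finset.mem_filter.1 hs').2
  refine mul_eq_zero_of_left ?_ _
  by_contra hT
  refine hχ ?_
  have hB' := CfsgLib.Blocks.isPBlock_blockOf (M := M) χ
  set B' := Cfsg.blockOf M (χ : G → ℂ) with hB'def
  have hχ' : χ ∈ B' := CfsgLib.Blocks.mem_blockOf_self χ
  by_contra hne'
  have hne : B' ≠ B := fun h => hne' (h ▸ hχ')
  have hprod : gblk M B' * gblk M B = (0 : GA (Res M) G) :=
    ((isBlock_gblk hB').eq_or_mul_eq_zero (isBlock_gblk hB)).resolve_left
      fun h => hne (gblk_inj hB' hB h)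
  have hPz := (hmax.1.1.2.1).to_le (Subgroup.zpowers_le.2 hr)
  have h3 := ((blockHas_iff_of_le (isBlock_gblk hB) (le_below hmax hr)
    (le_pair hmax.1.1 (le_below hmax hr))).2 hmax.1).2
  have h2 : br (Subgroup.zpowers r) (gblk M B') * below p P eP (Subgroup.zpowers r) = 0 := by
    rw [← h3, ← mul_assoc, ← br_mul hPz ((isBlock_gblk hB').fixed.mono le_top)
      ((isBlock_gblk hB).fixed.mono le_top), hprod, br_zero, zero_mul]
  have hpp : pPart p (r * s) = r := by
    have := pPart_mul_regular ⟨i, hi⟩ (s := (⟨s, by rwa [Star.cent_zpowers] at hs⟩ :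
      ↥(Subgroup.centralizer ({r} : Set G)))) (by rwa [Subgroup.orderOf_mk])
    simpa using this
  exact hT (T_eq_zero_of_not_under hM hB' hχ' (by rw [hpp]; exact below_mem_blocks hmax hr)
    (by rw [hpp]; exact h2))

omit hR in
open Classical in
/-- The contributions of a subsection have a positive integral trace. -/
theorem exists_rank (hr : r ∈ P) :
    ∃ l : ℕ, 1 ≤ l ∧ ∑ χ : IrrCharacter G, (if χ ∈ B then sval p P eP r (χ : G → ℂ) χ else 0) = (l : ℂ) := by
  classical
  haveI := Fintype.ofFinite ↥(Subgroup.centralizer ({r} : Set G))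
  have hb := mem_blocks.1 (below_mem_blocks hmax hr)
  rw [Star.cent_zpowers] at hb
  obtain ⟨f, hf, hfe⟩ := exists_eq_sblk (M := M) hb
  exact ⟨_, BlockPairing.one_le_blockRank (CfsgLib.Blocks.isPBlock_nonempty hf),
    sum_sval_self hM hB hmax hr hf hfe⟩

omit hR in
/-- At the identity the contribution is the regular inner product. -/
theorem sval_one {χ ψ : IrrCharacter G} (hχ : χ ∈ B) (hψ : ψ ∈ B) :
    sval p P eP 1 (χ : G → ℂ) ψ = regInner p (χ : G → ℂ) ψ := by
  classical
  have hcent : cent ⊤ (Subgroup.zpowers (1 : G)) = ⊤ := by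
    rw [Star.cent_zpowers]; exact eq_top_iff.2 fun g _ => by
      simp [Subgroup.mem_centralizer_singleton_iff]
  have hT : ∀ θ : IrrCharacter G, θ ∈ B → ∀ s : G, ¬ p ∣ orderOf s →
      T M (θ : G → ℂ) s (below p P eP (Subgroup.zpowers (1 : G))) = (θ : G → ℂ) s := by
    intro θ hθ s hs
    have h1 : pPart p s = 1 :=
      pPart_eq ⟨s, one_mul s, Commute.one_left s, ⟨0, by simp⟩, hs⟩
    refine Eq.trans ?_ (sum_T_blocks (p := p) (M := M) (Characters.isClassFunction_of_isIrr θ.2) s)
    rw [h1, Finset.sum_eq_single (below p P eP (Subgroup.zpowers (1 : G)))]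
    · intro e he hne
      by_contra hT
      obtain ⟨x, hx⟩ := exists_conj_of_T_ne_zero hM hB hmax hθ (by rw [h1]; exact he) hT
      rw [h1, Star.cj_zpowers, mul_one, mul_inv_cancel] at hx
      have hfix := (mem_blocks.1 (below_mem_blocks hmax P.one_mem)).fixed x⁻¹
        (by rw [hcent]; exact Subgroup.mem_top _)
      rw [below_eq hmax hx, conjA_inv] at hfix
      rw [below_eq hmax hx] at hne
      exact hne hfix
    · intro hn
      exact absurd (below_mem_blocks hmax P.one_mem) hn
  rw [sval, nsum_eq_sum, regInner, div_eq_inv_mul, hcent, Subgroup.card_top]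
  congr 1
  refine Fintype.sum_equiv Subgroup.topEquiv.toEquiv _ _ fun s => ?_
  show _ = if p ∣ orderOf (s : G) then 0 else (χ : G → ℂ) (s : G) * conj ((ψ : G → ℂ) (s : G))
  rw [Subgroup.orderOf_coe, one_mul]
  split_ifs with hs
  · rfl
  · rw [hT χ hχ _ (by rwa [Subgroup.orderOf_coe]), hT ψ hψ _ (by rwa [Subgroup.orderOf_coe])]

open Classical in
/-- A block is counted by the ranks of the blocks below. -/
theorem card_eq_sum_rank {l : G → ℕ}
    (hl : ∀ r ∈ R, ∑ χ : IrrCharacter G, (if χ ∈ B then sval p P eP r (χ : G → ℂ) χ else 0) = l r) :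
    Nat.card B = ∑ r ∈ R, l r := by
  apply Nat.cast_injective (R := ℂ)
  rw [Nat.cast_sum, ← Finset.sum_congr rfl hl, Finset.sum_comm, Nat.card_eq_fintype_card,
    Fintype.card_subtype, ← Finset.sum_boole]
  refine Finset.sum_congr rfl fun χ _ => ?_
  by_cases hχ : χ ∈ B
  · simp only [if_pos hχ, sum_sval hM hB hmax hR hχ hχ, if_true]
  · simp only [if_neg hχ, Finset.sum_const_zero]

omit hR in
open Classical in
/-- At the identity the trace is the rank of the block. -/
theorem sum_sval_one :
    ∑ χ : IrrCharacter G, (if χ ∈ B then sval p P eP 1 (χ : G → ℂ) χ else 0) =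
      (Cfsg.blockRank p B : ℂ) := by
  rw [BlockPairing.blockRank_eq_sum hM (CfsgLib.Blocks.isBlockUnion_of_isPBlock hB)]
  refine Finset.sum_congr rfl fun χ _ => ?_
  by_cases hχ : χ ∈ B
  · rw [if_pos hχ, if_pos hχ, sval_one hM hB hmax hχ hχ]
  · rw [if_neg hχ, if_neg hχ]

end CfsgLib.TameBlocks
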