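import Cfsg.Agent.TameBlocks.DihedralShape
import Cfsg.Agent.TameBlocks.Sections
import Cfsg.Agent.Star.Major

/-!
# The fusion of a maximal pair with dihedral group

Two rotations fused below the maximal pair are equal or inverse; `reps S` holds `σ ^ a`, `a ≤ h`,
and one member of each remaining class; the block at the central involution is nilpotent.
-/

set_option autoImplicit false
set_option linter.unusedSectionVars false
set_option linter.style.haveILetI false

namespace CfsgLib.TameBlocks

open Cfsg CfsgLib.BlockPairs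
open CfsgLib.Blocks (Res)

universe u

/-- In a finite cyclic group, a subgroup is determined by its order. -/
theorem subgroup_eq_of_card_cyclic {A : Type*} [Group A] [Finite A] [IsCyclic A] (H K : Subgroup A)
    (h : Nat.card H = Nat.card K) : H = K := by
  classical
  haveI := Fintype.ofFinite A
  have sub : ∀ L : Subgroup A, Finset.univ.filter (fun x => x ∈ L) ⊆
      Finset.univ.filter (fun x => x ^ Nat.card L = 1) := by
    intro L x hx
    simp only [Finset.mem_filter, Finset.mem_univ, true_and] at hx ⊢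
    exact orderOf_dvd_iff_pow_eq_one.mp (L.orderOf_dvd_natCard hx)
  have card : ∀ L : Subgroup A, (Finset.univ.filter (fun x => x ∈ L)).card = Nat.card L := by
    intro L
    rw [Nat.card_eq_fintype_card, Fintype.card_subtype]
  have eqs : ∀ L : Subgroup A, Finset.univ.filter (fun x => x ∈ L) =
      Finset.univ.filter (fun x => x ^ Nat.card L = 1) := fun L =>
    Finset.eq_of_subset_of_card_le (sub L) (by
      rw [card L]; exact IsCyclic.card_pow_eq_one_le Nat.card_pos)
  ext x
  have hH := Finset.ext_iff.mp (eqs H) x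
  have hK := Finset.ext_iff.mp (eqs K) x
  simp only [Finset.mem_filter, Finset.mem_univ, true_and] at hH hK
  rw [hH, hK, h]

/-- A cyclic subgroup contains only one subgroup of each order. -/
theorem eq_of_le_cyclic {A : Type*} [Group A] [Finite A] {P H K : Subgroup A} [IsCyclic P]
    (hH : H ≤ P) (hK : K ≤ P) (h : Nat.card H = Nat.card K) : H = K := by
  have e : H.subgroupOf P = K.subgroupOf P := subgroup_eq_of_card_cyclic _ _ (by
    rw [Nat.card_congr (Subgroup.subgroupOfEquivOfLe hH).toEquiv,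
      Nat.card_congr (Subgroup.subgroupOfEquivOfLe hK).toEquiv, h])
  rwa [Subgroup.subgroupOf_inj, inf_eq_left.mpr hH, inf_eq_left.mpr hK] at e


variable {G : Type u} [Group G] [Fintype G] {M : Ideal AlgInt} [M.IsPrime]
  [CharP (Res M) 2] [IsAlgClosed (Res M)] {B : Set (IrrCharacter G)} (hB : Cfsg.IsPBlock M B)
  {D : Subgroup G} {eP : GA (Res M) G} (hmax : IsMaxPair 2 (⊤ : Subgroup G) (gblk M B) D eP)
  {h : ℕ} (S : Shape D h)

/-- The rotations `σ ^ a`, `a ≤ h`. -/
noncomputable def rots : Finset G :=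
  letI := Classical.decEq G
  (Finset.range (h + 1)).image fun a => S.σ ^ a

open Classical in
/-- The elements whose class holds none of the rotations. -/
noncomputable def others (p : ℕ) (eP : GA (Res M) G) : Finset G :=
  Finset.univ.filter fun w => w ∈ D ∧ ∀ r ∈ rots S, ¬ Fused p D eP w r

open Classical in
/-- A member of a set. -/
noncomputable def pick (C : Set G) : G := if hh : C.Nonempty then hh.some else 1

/-- One representative for the class of `w`. -/
noncomputable def classRep (p : ℕ) (P : Subgroup G) (eP : GA (Res M) G) (w : G) : G :=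
  pick {x : G | Fused p P eP w x}

/-- The representatives. -/
noncomputable def reps (eP : GA (Res M) G) : Finset G :=
  letI := Classical.decEq G
  rots S ∪ (others S 2 eP).image (classRep 2 D eP)

theorem mem_rots {r : G} : r ∈ rots S ↔ ∃ a, a ≤ h ∧ r = S.σ ^ a := by
  classical
  simp [rots, Nat.lt_succ_iff, eq_comm]

theorem mem_zpowers_of_mem_rots {r : G} (hr : r ∈ rots S) : r ∈ Subgroup.zpowers S.σ := by
  obtain ⟨a, -, rfl⟩ := (mem_rots S).1 hr
  exact pow_mem (Subgroup.mem_zpowers _) a

theorem one_mem_rots : (1 : G) ∈ rots S := (mem_rots S).2 ⟨0, Nat.zero_le _, (pow_zero _).symm⟩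

theorem z_mem_rots : S.z ∈ rots S := (mem_rots S).2 ⟨h, le_rfl, rfl⟩

include S in
theorem sigma_pow_inj {a b : ℕ} (ha : a < 2 * h) (hb : b < 2 * h) (he : S.σ ^ a = S.σ ^ b) :
    a = b :=
  pow_injOn_Iio_orderOf (by rw [Set.mem_Iio, S.order]; exact ha)
    (by rw [Set.mem_Iio, S.order]; exact hb) he

theorem card_rots : (rots S).card = h + 1 := by
  classical
  rw [rots, Finset.card_image_of_injOn, Finset.card_range]
  intro a ha b hb he
  simp only [Finset.coe_range, Set.mem_Iio] at ha hb
  have := S.h_two_le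
  exact sigma_pow_inj S (by omega) (by omega) he

theorem exists_rot_eq_or_inv {u : G} (hu : u ∈ Subgroup.zpowers S.σ) :
    ∃ r ∈ rots S, u = r ∨ u = r⁻¹ := by
  obtain ⟨k, hk⟩ := (mem_powers_iff_mem_zpowers (x := S.σ)).2 hu
  replace hk : u = S.σ ^ k := hk.symm
  obtain ⟨k, hk2, rfl⟩ : ∃ j : ℕ, j < 2 * h ∧ u = S.σ ^ j :=
    ⟨k % (2 * h), Nat.mod_lt _ (by have := S.h_two_le; omega),
      by rw [hk, ← S.order, pow_mod_orderOf]⟩
  by_cases hkh : k ≤ h
  · exact ⟨_, (mem_rots S).2 ⟨k, hkh, rfl⟩, Or.inl rfl⟩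
  · refine ⟨_, (mem_rots S).2 ⟨2 * h - k, by omega, rfl⟩, Or.inr ?_⟩
    refine eq_inv_of_mul_eq_one_left ?_
    rw [← pow_add, show k + (2 * h - k) = orderOf S.σ by rw [S.order]; omega, pow_orderOf_eq_one]

include hmax

theorem fused_inv {u : G} (hu : u ∈ Subgroup.zpowers S.σ) : Fused 2 D eP u u⁻¹ := by
  have := Fused.of_mem (p := 2) hmax.1.1 (S.zpowers_le hu) S.τ_mem
  rwa [S.refl_conj S.τ_mem S.τ_not_mem hu] at this

include hB

/-- Fused rotations are equal or inverse. -/
theorem rot_fused {u v : G} (hu : u ∈ Subgroup.zpowers S.σ) (hv : v ∈ Subgroup.zpowers S.σ)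
    (hf : Fused 2 D eP u v) : v = u ∨ v = u⁻¹ := by
  by_cases hu1 : u = 1
  · obtain ⟨g, -, rfl⟩ := hf
    left; rw [hu1]; group
  have hord := hf.orderOf_eq
  obtain ⟨g, hg, hgu⟩ := hf
  set Q := Subgroup.zpowers u with hQ
  obtain ⟨f, hle, -⟩ := id hg
  have hQD : Q ≤ D := Subgroup.zpowers_le.2 (S.zpowers_le hu)
  have hQσ : Q ≤ Subgroup.zpowers S.σ := Subgroup.zpowers_le.2 hu
  have hDN : D ≤ Subgroup.normalizer (Q : Set G) := fun y hy => by
    refine mem_normalizer_of_cj_eq ?_
    rw [Star.cj_zpowers]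
    rcases S.conj_rot hy hu with e | e <;> simp [e, hQ]
  -- the subgroup is determined by the order
  have hvQ : Subgroup.zpowers v = Q := by
    have hcard : Nat.card (Subgroup.zpowers v) = Nat.card Q := by
      rw [hQ, Nat.card_zpowers, Nat.card_zpowers, hord]
    exact eq_of_le_cyclic (P := Subgroup.zpowers S.σ) (Subgroup.zpowers_le.2 hv) hQσ hcard
  have hgN : g ∈ Subgroup.normalizer (Q : Set G) := by
    refine mem_normalizer_of_cj_eq ?_
    rw [Star.cj_zpowers, hgu, hvQ]
  have hzQ : S.z ∈ Q := S.z_mem_zpowers_rot hu hu1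
  -- the automorphisms of the pair form a 2-group
  have hp2 : IsPGroup 2 ((blockSystem hmax.1.1).autGroup Q) := by
    rintro ⟨α, hα⟩
    obtain ⟨x, hx, hxα⟩ := exists_stab_of_mem_autGroup hle hα
    obtain ⟨c, m, hm, hxn⟩ := Nat.exists_eq_pow_mul_and_not_dvd (orderOf_pos x).ne' 2 (by norm_num)
    refine ⟨c, Subtype.ext (MulEquiv.ext fun q => Subtype.ext ?_)⟩
    have hreg : Cfsg.IsPRegular 2 (x ^ 2 ^ c) := fun hdvd => hm <| hdvd.trans (by
      rw [orderOf_pow' x (pow_ne_zero _ two_ne_zero), hxn,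
        Nat.gcd_eq_right (Dvd.intro m rfl), Nat.mul_div_cancel_left _ (pow_pos two_pos c)])
    have hxN := stab_le_normalizer (pow_mem hx (2 ^ c))
    have hxz : Commute (x ^ 2 ^ c) S.z := by
      have hmem : x ^ 2 ^ c * S.z * (x ^ 2 ^ c)⁻¹ ∈ Q :=
        (Subgroup.mem_normalizer_iff.1 hxN _).1 hzQ
      rcases S.eq_one_or_z (hQσ hmem) (by
        rw [show ∀ y : G, y * S.z * y⁻¹ * (y * S.z * y⁻¹) = y * (S.z * S.z) * y⁻¹ from
          fun y => by group, S.z_mul_z, mul_one, mul_inv_cancel]) with e | e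
      · exact absurd (mul_left_cancel (a := x ^ 2 ^ c) (by
          rw [mul_one]; exact mul_inv_eq_one.1 e)) S.z_ne_one
      · exact mul_inv_eq_iff_eq_mul.1 e
    have hc := S.centralizes hQD hxN hzQ hxz hreg
    have key : ∀ n : ℕ, (((α ^ n : MulAut Q) q : Q) : G) = x ^ n * (q : G) * (x ^ n)⁻¹ := by
      intro n
      induction n with
      | zero => simp
      | succ n ih =>
        rw [pow_succ', MulAut.mul_apply, hxα, ih, pow_succ']
        group
    show (((α ^ 2 ^ c : MulAut Q) q : Q) : G) = q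
    rw [key, ← Subgroup.mem_centralizer_iff.1 hc q q.2]
    group
  have hD2 := hmax.1.1.2.1
  have hFN : (blockSystem hmax.1.1).IsFullyNormalized Q := by
    refine ⟨hQD, fun R _ => ?_⟩
    refine (Subgroup.card_le_of_le (K := D) inf_le_left).trans ?_
    exact le_of_eq (congrArg (fun H : Subgroup G => Nat.card H) (inf_eq_left.2 hDN).symm)
  have hA := (CfsgLib.Fusion.automized_receptive hD2
    (isSaturated_blockSystem (isBlock_gblk hB) hmax) hFN).1
  have heq := CfsgLib.Fusion.eq_autInducedBy_of_le hA le_rfl hp2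
    (CfsgLib.Fusion.autInducedBy_le_autGroup hQD)
  have hmem := mem_autGroup_of_stab (hPe := hmax.1.1) hle ((mor_self_iff hle hgN).1 hg)
  rw [heq] at hmem
  obtain ⟨y, hy, -, hyu⟩ := CfsgLib.Fusion.mem_autInducedBy_iff.1 hmem
  have := hyu ⟨u, Subgroup.mem_zpowers u⟩
  rw [show ((Q.normalizerMonoidHom ⟨g, hgN⟩ ⟨u, Subgroup.mem_zpowers u⟩ : Q) : G) =
    g * u * g⁻¹ from rfl, hgu] at this
  rcases S.conj_rot hy hu with e | e <;> [left; right] <;> exact this.trans e

/-- The representatives hold one member of each class. -/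
theorem isReps_reps : IsReps 2 D eP (reps S eP) := by
  classical
  have hPe := hmax.1.1
  have hne : ∀ w ∈ D, ({x : G | Fused 2 D eP w x}).Nonempty := fun w hw => ⟨w, Fused.refl hPe hw⟩
  have hrep : ∀ w ∈ D, Fused 2 D eP w (classRep 2 D eP w) := fun w hw => by
    rw [classRep, pick, dif_pos (hne w hw)]
    exact (hne w hw).some_mem
  have hcong : ∀ w w', Fused 2 D eP w w' → classRep 2 D eP w = classRep 2 D eP w' := fun w w' hf => by
    rw [classRep, classRep]
    congr 1
    ext x
    exact ⟨fun hx => hf.symm.trans hPe hx, fun hx => hf.trans hPe hx⟩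
  have hoth : ∀ {w}, w ∈ others S 2 eP ↔ w ∈ D ∧ ∀ r ∈ rots S, ¬ Fused 2 D eP w r :=
    fun {w} => by simp [others]
  constructor
  · intro r hr
    simp only [reps, Finset.mem_union, Finset.mem_image] at hr
    rcases hr with hr | ⟨w, hw, rfl⟩
    · exact S.zpowers_le (mem_zpowers_of_mem_rots S hr)
    · exact (hrep w (hoth.1 hw).1).mem_right
  intro w hw
  by_cases hrot : ∃ r ∈ rots S, Fused 2 D eP w r
  · obtain ⟨r, hr, hf⟩ := hrot
    refine ⟨r, ⟨Finset.mem_union_left _ hr, hf⟩, fun x hx => ?_⟩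
    obtain ⟨hx1, hx2⟩ := hx
    simp only [reps, Finset.mem_union, Finset.mem_image] at hx1
    rcases hx1 with hx1 | ⟨v, hv, rfl⟩
    · have hrx := hf.symm.trans hPe hx2
      obtain ⟨a, ha, rfl⟩ := (mem_rots S).1 hr
      obtain ⟨b, hb, rfl⟩ := (mem_rots S).1 hx1
      have hσ := Subgroup.mem_zpowers S.σ
      have := S.h_two_le
      rcases rot_fused hB hmax S (pow_mem hσ a) (pow_mem hσ b) hrx with e | e
      · exact e
      · rcases Nat.eq_zero_or_pos a with ha0 | ha0
        · simpa [ha0] using e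
        · have e' : S.σ ^ b = S.σ ^ (2 * h - a) := by
            rw [e, inv_eq_iff_mul_eq_one, ← pow_add,
              show a + (2 * h - a) = orderOf S.σ by rw [S.order]; omega, pow_orderOf_eq_one]
          have := sigma_pow_inj S (by omega) (by omega) e'
          rw [show b = a by omega]
    · exact absurd ((hrep v (hoth.1 hv).1).trans hPe (hx2.symm.trans hPe hf))
        ((hoth.1 hv).2 r hr)
  · push Not at hrot
    have hwo : w ∈ others S 2 eP := hoth.2 ⟨hw, hrot⟩
    refine ⟨classRep 2 D eP w, ⟨Finset.mem_union_right _ (Finset.mem_image.2 ⟨w, hwo, rfl⟩),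
      hrep w hw⟩, fun x hx => ?_⟩
    obtain ⟨hx1, hx2⟩ := hx
    simp only [reps, Finset.mem_union, Finset.mem_image] at hx1
    rcases hx1 with hx1 | ⟨v, hv, rfl⟩
    · exact absurd hx2 (hrot x hx1)
    · exact (hcong _ _ (hx2.trans hPe (hrep v (hoth.1 hv).1).symm)).symm

theorem rots_subset_reps : rots S ⊆ reps S eP := by
  classical
  exact Finset.subset_union_left

/-- A representative outside the rotations is a reflection not fused to a rotation. -/
theorem not_mem_zpowers_of_reps {r : G} (hr : r ∈ reps S eP) (hn : r ∉ rots S) :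
    r ∉ Subgroup.zpowers S.σ := by
  intro hσ
  obtain ⟨s, hs, e⟩ := exists_rot_eq_or_inv S hσ
  have hR := isReps_reps hB hmax S
  rcases e with e | e
  · exact hn (e ▸ hs)
  · refine hn ?_
    have hsr : Fused 2 D eP s r := e ▸ fused_inv hmax S (mem_zpowers_of_mem_rots S hs)
    rw [← hR.eq_of_fused hmax.1.1 (rots_subset_reps hB hmax S hs) hr hsr]
    exact hs

/-- The block at the central involution is nilpotent. -/
theorem nilp_below_z :
    Nilp 2 (cent ⊤ (Subgroup.zpowers S.z)) (Star.below 2 D eP (Subgroup.zpowers S.z)) := by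
  have hK := Star.isMaxPair_central hB hmax S.z_mem S.z_mem_centralizer
  have hblk := mem_blocks.1 (Star.below_mem_blocks hmax S.z_mem)
  intro Q f hQ x hx hreg
  obtain ⟨k, hk, hle⟩ := exists_conj_le hblk hK hQ
  refine mem_centralizer_cj (z := k) ?_
  have hQD : cj k Q ≤ D := hle.subgroup_le
  have hxN : k * x * k⁻¹ ∈ Subgroup.normalizer ((cj k Q : Subgroup G) : Set G) := by
    refine mem_normalizer_of_cj_eq ?_
    rw [cj_cj, inv_mul_cancel_right, ← cj_cj, cj_eq_self (stab_le_normalizer hx)]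
  have hxz : Commute (k * x * k⁻¹) S.z :=
    Star.cent_zpowers_mem.1 (mul_mem (mul_mem hk (stab_le hx)) (inv_mem hk))
  have hQz : cj (k * x * k⁻¹) (cj k Q ⊔ Subgroup.zpowers S.z) = cj k Q ⊔ Subgroup.zpowers S.z := by
    rw [cj, Subgroup.map_sup]
    refine congrArg₂ (· ⊔ ·) (cj_eq_self hxN) ?_
    show cj _ _ = _
    rw [Star.cj_zpowers, hxz.eq, mul_inv_cancel_right]
  exact Subgroup.centralizer_le (SetLike.coe_subset_coe.2 le_sup_left)
    (S.centralizes (sup_le hQD (Subgroup.zpowers_le.2 S.z_mem)) (mem_normalizer_of_cj_eq hQz)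
      (Subgroup.mem_sup_right (Subgroup.mem_zpowers _)) hxz (isPRegular_conj.2 hreg))

end CfsgLib.TameBlocks
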