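import Cfsg.Agent.TameBlocks.DihedralChar

/-!
# The orthogonality relations of a block with dihedral defect group

At every nontrivial rotation the block below has rank one, the columns `F · r` are orthogonal with
norm `|C_D(r)|`, and the block has `l + h` characters plus the ranks at the remaining classes.
-/

set_option autoImplicit false
set_option linter.unusedSectionVars false
set_option linter.style.haveILetI false

namespace CfsgLib.TameBlocks

open Cfsg CfsgLib.BlockPairs CfsgLib.Star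
open CfsgLib.Blocks (Res)
open scoped ComplexConjugate Classical

universe u

variable {G : Type u} [Group G] [Fintype G] {M : Ideal AlgInt} [M.IsPrime]
  [CharP (Res M) 2] [IsAlgClosed (Res M)] {D : Subgroup G} {eP : GA (Res M) G} {h : ℕ}
  {S : Shape D h} (𝒞 : CenterData M eP S) (hM : Cfsg.IsPModular 2 M)
  {B : Set (IrrCharacter G)} (hB : Cfsg.IsPBlock M B)
  (hmax : IsMaxPair 2 (⊤ : Subgroup G) (gblk M B) D eP)

include S in
theorem card_inf_centralizer_rot {r : G} (hr : r ∈ Subgroup.zpowers S.σ) (h1 : r ≠ 1) :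
    Nat.card ↥(D ⊓ Subgroup.centralizer ({r} : Set G)) = if r = S.z then 4 * h else 2 * h := by
  split_ifs with hz
  · subst hz
    rw [inf_eq_left.2 S.D_le_centralizer, S.card]
  · rw [S.inf_centralizer hr h1 hz, Nat.card_zpowers, S.order]

include hM hB hmax 𝒞

theorem exists_F_ne_zero {r : G} (hr : r ∈ Subgroup.zpowers S.σ) (h1 : r ≠ 1) :
    ∃ χ : IrrCharacter G, χ ∈ B ∧ F 𝒞 (χ : G → ℂ) r ≠ 0 := by
  by_contra hc
  push Not at hc
  obtain ⟨l, hl, he⟩ := exists_rank hM hB hmax (S.zpowers_le hr)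
  rw [Finset.sum_eq_zero fun χ _ => ?_, eq_comm, Nat.cast_eq_zero] at he
  · omega
  split_ifs with hχ
  · rw [sval_eq_F hM hmax 𝒞 (Characters.isClassFunction_of_isIrr χ.2)
      (Characters.isClassFunction_of_isIrr χ.2) hr h1, hc χ hχ]
    simp
  · rfl

/-- The columns at the rotations are orthogonal. -/
theorem sum_F_mul_conj {r r' : G} (hr : r ∈ rots S) (h1 : r ≠ 1) (hr' : r' ∈ rots S) (h1' : r' ≠ 1) :
    ∑ χ : IrrCharacter G, (if χ ∈ B then F 𝒞 (χ : G → ℂ) r * conj (F 𝒞 (χ : G → ℂ) r') else 0) =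
      if r = r' then (Nat.card ↥(D ⊓ Subgroup.centralizer ({r} : Set G)) : ℂ) else 0 := by
  have hσ := mem_zpowers_of_mem_rots S hr
  have hσ' := mem_zpowers_of_mem_rots S hr'
  have hR := isReps_reps hB hmax S
  have hf := fun χ : IrrCharacter G => Characters.isClassFunction_of_isIrr χ.2
  obtain ⟨a, haB, ha⟩ := exists_F_ne_zero 𝒞 hM hB hmax hσ' h1'
  obtain ⟨b, hbB, hb⟩ := exists_F_ne_zero 𝒞 hM hB hmax hσ h1
  have h := sum_sval_mul hM hB hmax hR haB hbB (rots_subset_reps hB hmax S hr')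
    (rots_subset_reps hB hmax S hr)
  simp only [sval_eq_F hM hmax 𝒞 (hf _) (hf _) hσ' h1',
    sval_eq_F hM hmax 𝒞 (hf _) (hf _) hσ h1] at h
  set N := (Nat.card ↥(D ⊓ Subgroup.centralizer ({r} : Set G)) : ℂ) with hN
  set N' := (Nat.card ↥(D ⊓ Subgroup.centralizer ({r'} : Set G)) : ℂ) with hN'
  have hN0 : N ≠ 0 := Nat.cast_ne_zero.2 Nat.card_pos.ne'
  have hN0' : N' ≠ 0 := Nat.cast_ne_zero.2 Nat.card_pos.ne'
  have hcb : conj (F 𝒞 (b : G → ℂ) r) ≠ 0 := by
    rwa [conj_F_rot 𝒞 b hσ]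
  rw [Finset.sum_congr rfl (g := fun χ : IrrCharacter G =>
    F 𝒞 (a : G → ℂ) r' * conj (F 𝒞 (b : G → ℂ) r) / (N' * N) *
      if χ ∈ B then F 𝒞 (χ : G → ℂ) r * conj (F 𝒞 (χ : G → ℂ) r') else 0)
    (fun χ _ => by split_ifs <;> ring), ← Finset.mul_sum] at h
  set T := ∑ χ : IrrCharacter G,
    if χ ∈ B then F 𝒞 (χ : G → ℂ) r * conj (F 𝒞 (χ : G → ℂ) r') else 0
  refine mul_left_cancel₀ (mul_ne_zero ha hcb) (?_ : _ * T = _ * _)
  split_ifs with e
  · subst e
    rw [if_pos rfl] at h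
    rw [show N' = N from rfl] at h
    field_simp at h
    rw [h]
  · rw [if_neg (fun he => e he.symm), div_mul_eq_mul_div, div_eq_zero_iff] at h
    rw [h.resolve_right (mul_ne_zero hN0' hN0), mul_zero]

/-- The block below a nontrivial rotation has rank one. -/
theorem trace_rot {r : G} (hr : r ∈ rots S) (h1 : r ≠ 1) :
    ∑ χ : IrrCharacter G, (if χ ∈ B then sval 2 D eP r (χ : G → ℂ) χ else 0) = 1 := by
  have hσ := mem_zpowers_of_mem_rots S hr
  have h := sum_F_mul_conj 𝒞 hM hB hmax hr h1 hr h1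
  rw [if_pos rfl] at h
  rw [Finset.sum_congr rfl (g := fun χ : IrrCharacter G =>
    (Nat.card ↥(D ⊓ Subgroup.centralizer ({r} : Set G)) : ℂ)⁻¹ *
      if χ ∈ B then F 𝒞 (χ : G → ℂ) r * conj (F 𝒞 (χ : G → ℂ) r) else 0) (fun χ _ => by
        split_ifs
        · rw [sval_eq_F hM hmax 𝒞 (Characters.isClassFunction_of_isIrr χ.2)
            (Characters.isClassFunction_of_isIrr χ.2) hσ h1]
          ring
        · rw [mul_zero]), ← Finset.mul_sum, h,
    inv_mul_cancel₀ (Nat.cast_ne_zero.2 Nat.card_pos.ne')]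

/-- The count of the block. -/
theorem exists_count :
    ∃ l : G → ℕ, Nat.card B = Cfsg.blockRank 2 B + h + ∑ r ∈ reps S eP \ rots S, l r ∧
      ∀ r ∈ reps S eP \ rots S, 1 ≤ l r := by
  have hR := isReps_reps hB hmax S
  choose lr hlr hlre using fun r (hr : r ∈ reps S eP) => exists_rank hM hB hmax (hR.1 r hr)
  let l : G → ℕ := fun r => if r = 1 then Cfsg.blockRank 2 B else if r ∈ rots S then 1 else
    if hr : r ∈ reps S eP then lr r hr else 0
  refine ⟨l, ?_, fun r hr => ?_⟩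
  · rw [card_eq_sum_rank hM hB hmax hR (l := l) fun r hr => ?_,
      ← Finset.sum_sdiff (rots_subset_reps hB hmax S), add_comm]
    · congr 1
      rw [← Finset.add_sum_erase _ _ (one_mem_rots S),
        Finset.sum_congr rfl (g := fun _ => 1) (fun r hr => ?_), Finset.sum_const, smul_eq_mul,
        mul_one, Finset.card_erase_of_mem (one_mem_rots S), card_rots, Nat.add_sub_cancel]
      · simp [l]
      · obtain ⟨hne, hr⟩ := Finset.mem_erase.1 hr
        simp [l, hne, hr]
    · by_cases h1 : r = 1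
      · subst h1
        simp only [l, if_true]
        exact sum_sval_one hM hB hmax
      · by_cases hrot : r ∈ rots S
        · simp only [l, if_neg h1, if_pos hrot, Nat.cast_one]
          exact trace_rot 𝒞 hM hB hmax hrot h1
        · simp only [l, if_neg h1, if_neg hrot, dif_pos hr]
          exact hlre r hr
  · obtain ⟨hr, hn⟩ := Finset.mem_sdiff.1 hr
    have h1 : r ≠ 1 := fun e => hn (e ▸ one_mem_rots S)
    simp only [l, if_neg h1, if_neg hn, dif_pos hr]
    exact hlr r hr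

/-- The relations at all nontrivial rotations. -/
theorem sum_F_mul_rot {x y : G} (hx : x ∈ Subgroup.zpowers S.σ) (hx1 : x ≠ 1)
    (hy : y ∈ Subgroup.zpowers S.σ) (hy1 : y ≠ 1) :
    ∑ χ : IrrCharacter G, (if χ ∈ B then F 𝒞 (χ : G → ℂ) x * F 𝒞 (χ : G → ℂ) y else 0) =
      (2 * h : ℂ) * ((if x = y then 1 else 0) + if x = y⁻¹ then 1 else 0) := by
  obtain ⟨r, hr, hxr⟩ := exists_rot_eq_or_inv S hx
  obtain ⟨r', hr', hyr⟩ := exists_rot_eq_or_inv S hy
  have hσ := mem_zpowers_of_mem_rots S hr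
  have hσ' := mem_zpowers_of_mem_rots S hr'
  have h1 : r ≠ 1 := fun e => hx1 (by rcases hxr with h | h <;> simp [h, e])
  have h1' : r' ≠ 1 := fun e => hy1 (by rcases hyr with h | h <;> simp [h, e])
  have hFx : ∀ χ : IrrCharacter G, F 𝒞 (χ : G → ℂ) x = F 𝒞 (χ : G → ℂ) r := fun χ => by
    rcases hxr with h | h <;> rw [h]
    exact F_rot_inv 𝒞 χ hσ
  have hFy : ∀ χ : IrrCharacter G, F 𝒞 (χ : G → ℂ) y = conj (F 𝒞 (χ : G → ℂ) r') := fun χ => by
    rw [conj_F_rot 𝒞 χ hσ']
    rcases hyr with h | h <;> rw [h]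
    exact F_rot_inv 𝒞 χ hσ'
  simp only [hFx, hFy]
  rw [sum_F_mul_conj 𝒞 hM hB hmax hr h1 hr' h1', card_inf_centralizer_rot hσ h1]
  have hmeet : ∀ u ∈ rots S, ∀ v ∈ rots S, u = v⁻¹ → u = v ∧ (v = 1 ∨ v = S.z) := by
    intro u hu v hv e
    have hf : Fused 2 D eP v u := e ▸ fused_inv hmax S (mem_zpowers_of_mem_rots S hv)
    have he := (isReps_reps hB hmax S).eq_of_fused hmax.1.1 (rots_subset_reps hB hmax S hv)
      (rots_subset_reps hB hmax S hu) hf
    refine ⟨he.symm, S.eq_one_or_z (mem_zpowers_of_mem_rots S hv) ?_⟩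
    nth_rewrite 1 [he]
    rw [e, inv_mul_cancel]
  -- the equalities between the rotations and between their representatives
  by_cases e : r = r'
  · subst e
    rw [if_pos rfl]
    by_cases hz : r = S.z
    · subst hz
      rw [if_pos rfl]
      have hxz : x = S.z := by rcases hxr with h | h <;> simp [h, S.z_inv]
      have hyz : y = S.z := by rcases hyr with h | h <;> simp [h, S.z_inv]
      rw [hxz, hyz, S.z_inv, if_pos rfl]
      push_cast
      ring
    · have hne : r ≠ r⁻¹ := fun e => (hmeet r hr r hr e).2.elim h1 hz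
      rw [if_neg hz]
      rcases hxr with rfl | rfl <;> rcases hyr with rfl | rfl <;>
        simp [hne, hne.symm]
  · rw [if_neg e]
    have e' : r ≠ r'⁻¹ := fun h => e (hmeet r hr r' hr' h).1
    have e'' : r⁻¹ ≠ r' := fun h => e' (by rw [← h, inv_inv])
    have e3 : r⁻¹ ≠ r'⁻¹ := fun h => e (inv_injective h)
    rcases hxr with rfl | rfl <;> rcases hyr with rfl | rfl <;> simp [e, e', e'', e3]

end CfsgLib.TameBlocks
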