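import Cfsg.Agent.BlockPairs.Nilpotent
import Mathlib.GroupTheory.SpecificGroups.Dihedral

/-!
# Dihedral subgroups and their automorphisms of odd order

`Shape D h`: `D` is dihedral of order `4 * h` with `h = 2 ^ e`, `1 ≤ e`, on the rotation `σ`, with
central involution `z = σ ^ h`.  An element of odd order normalizing a subgroup `Q` of `D` and fixing
`z`, where `z ∈ Q`, centralizes `Q`.
-/

set_option autoImplicit false
set_option linter.unusedSectionVars false

namespace CfsgLib.TameBlocks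

universe u

variable {G : Type u} [Group G]

/-- A dihedral subgroup of order `4 * h`, `h` a power of two greater than one. -/
structure Shape (D : Subgroup G) (h : ℕ) where
  σ : G
  τ : G
  σ_mem : σ ∈ D
  τ_mem : τ ∈ D
  τ_not_mem : τ ∉ Subgroup.zpowers σ
  order : orderOf σ = 2 * h
  conj : τ * σ * τ⁻¹ = σ⁻¹
  τ_sq : τ * τ = 1
  gen : ∀ x ∈ D, x ∈ Subgroup.zpowers σ ∨ τ * x ∈ Subgroup.zpowers σ
  card : Nat.card D = 4 * h
  two_pow : ∃ e, 1 ≤ e ∧ h = 2 ^ e

theorem exists_shape (D : Subgroup G) (n : ℕ) (hn : 3 ≤ n)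
    (hdih : Nonempty (D ≃* DihedralGroup (2 ^ (n - 1)))) : Nonempty (Shape D (2 ^ (n - 2))) := by
  obtain ⟨f⟩ := hdih
  have hN : 2 ^ (n - 1) = 2 * 2 ^ (n - 2) := by rw [← pow_succ']; congr 1; omega
  set s : D := f.symm (DihedralGroup.r 1) with hs
  set t : D := f.symm (DihedralGroup.sr 0) with ht
  have hz : ∀ k : ℤ, f (s ^ k) = DihedralGroup.r (k : ZMod (2 ^ (n - 1))) := fun k => by
    simp [hs]
  have hmem : ∀ x : D, ((x : G) ∈ Subgroup.zpowers (s : G) ↔ ∃ k : ℤ, x = s ^ k) := fun x => by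
    constructor
    · rintro ⟨k, hk⟩
      exact ⟨k, Subtype.ext (by simpa using hk.symm)⟩
    · rintro ⟨k, rfl⟩
      exact ⟨k, by simp⟩
  refine ⟨⟨(s : G), (t : G), s.2, t.2, fun h => ?_, ?_, ?_, ?_, fun x hx => ?_, ?_,
    n - 2, by omega, rfl⟩⟩
  · obtain ⟨k, hk⟩ := (hmem t).1 h
    have := congrArg f hk
    rw [hz, ht, f.apply_symm_apply] at this
    simp at this
  · rw [Subgroup.orderOf_coe, ← MulEquiv.orderOf_eq f, hs, f.apply_symm_apply,
      DihedralGroup.orderOf_r_one, hN]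
  · have : t * s * t⁻¹ = s⁻¹ := f.injective (by simp [hs, ht])
    simpa using congrArg Subtype.val this
  · have : t * t = 1 := f.injective (by simp [ht])
    simpa using congrArg Subtype.val this
  · rcases hv : f ⟨x, hx⟩ with a | a
    · obtain ⟨k, rfl⟩ := ZMod.intCast_surjective a
      refine Or.inl ((hmem ⟨x, hx⟩).2 ⟨k, f.injective ?_⟩)
      rw [hv, hz]
    · obtain ⟨k, rfl⟩ := ZMod.intCast_surjective a
      refine Or.inr ((hmem (t * ⟨x, hx⟩)).2 ⟨k, f.injective ?_⟩)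
      rw [hz, map_mul, hv, ht, f.apply_symm_apply, DihedralGroup.sr_mul_sr, sub_zero]
  · rw [Nat.card_congr f.toEquiv, DihedralGroup.nat_card, hN]
    ring

namespace Shape

variable {D : Subgroup G} {h : ℕ} (S : Shape D h)

include S

/-- The central involution. -/
def z : G := S.σ ^ h

theorem h_two_le : 2 ≤ h := by
  obtain ⟨e, he, rfl⟩ := S.two_pow
  calc 2 = 2 ^ 1 := (pow_one 2).symm
    _ ≤ 2 ^ e := Nat.pow_le_pow_right (by norm_num) he

theorem h_pos : 0 < h := lt_of_lt_of_le two_pos S.h_two_le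

theorem even_h : 2 ∣ h := by
  obtain ⟨e, he, rfl⟩ := S.two_pow
  exact dvd_pow_self 2 (by omega)

theorem zpowers_le : Subgroup.zpowers S.σ ≤ D := Subgroup.zpowers_le.2 S.σ_mem

theorem z_mem_zpowers : S.z ∈ Subgroup.zpowers S.σ := ⟨(h : ℤ), by simp [z]⟩

theorem z_mem : S.z ∈ D := S.zpowers_le S.z_mem_zpowers

theorem orderOf_z : orderOf S.z = 2 := by
  rw [z, orderOf_pow' _ S.h_pos.ne', S.order, Nat.gcd_eq_right (Dvd.intro_left 2 rfl),
    Nat.mul_div_left _ S.h_pos]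

theorem z_ne_one : S.z ≠ 1 := fun h1 => by
  have := S.orderOf_z
  rw [h1, orderOf_one] at this
  norm_num at this

theorem z_mul_z : S.z * S.z = 1 := by
  have := pow_orderOf_eq_one S.z
  rwa [S.orderOf_z, sq] at this

theorem z_inv : S.z⁻¹ = S.z := inv_eq_of_mul_eq_one_right S.z_mul_z

theorem tau_inv : S.τ⁻¹ = S.τ := inv_eq_of_mul_eq_one_right S.τ_sq

theorem tau_conj_zpow (k : ℤ) : S.τ * S.σ ^ k * S.τ⁻¹ = S.σ ^ (-k) := by
  rw [← _root_.conj_zpow, S.conj, inv_zpow']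

theorem eq_tau_mul {x : G} (hx : x ∈ D) (hn : x ∉ Subgroup.zpowers S.σ) :
    ∃ k : ℤ, x = S.τ * S.σ ^ k := by
  obtain ⟨k, hk⟩ := (S.gen x hx).resolve_left hn
  exact ⟨k, by rw [show S.σ ^ k = S.τ * x from hk, ← mul_assoc, S.τ_sq, one_mul]⟩

theorem refl_sq {x : G} (hx : x ∈ D) (hn : x ∉ Subgroup.zpowers S.σ) : x * x = 1 := by
  obtain ⟨k, rfl⟩ := S.eq_tau_mul hx hn
  have h1 := S.tau_conj_zpow k
  rw [S.tau_inv] at h1
  rw [← mul_assoc, h1, zpow_neg, inv_mul_cancel]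

theorem refl_conj {x : G} (hx : x ∈ D) (hn : x ∉ Subgroup.zpowers S.σ) {v : G}
    (hv : v ∈ Subgroup.zpowers S.σ) : x * v * x⁻¹ = v⁻¹ := by
  obtain ⟨k, rfl⟩ := S.eq_tau_mul hx hn
  obtain ⟨m, rfl⟩ := hv
  calc S.τ * S.σ ^ k * S.σ ^ m * (S.τ * S.σ ^ k)⁻¹
      = S.τ * S.σ ^ m * S.τ⁻¹ := by group
    _ = (S.σ ^ m)⁻¹ := by rw [S.tau_conj_zpow, zpow_neg]

theorem rot_comm {u v : G} (hu : u ∈ Subgroup.zpowers S.σ) (hv : v ∈ Subgroup.zpowers S.σ) :
    Commute u v := by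
  obtain ⟨a, rfl⟩ := hu
  obtain ⟨b, rfl⟩ := hv
  exact (Commute.refl S.σ).zpow_zpow a b

theorem conj_rot {y : G} (hy : y ∈ D) {v : G} (hv : v ∈ Subgroup.zpowers S.σ) :
    y * v * y⁻¹ = v ∨ y * v * y⁻¹ = v⁻¹ := by
  by_cases hn : y ∈ Subgroup.zpowers S.σ
  · exact Or.inl (by rw [(S.rot_comm hn hv).eq, mul_inv_cancel_right])
  · exact Or.inr (S.refl_conj hy hn hv)

theorem z_central {x : G} (hx : x ∈ D) : Commute x S.z := by
  show x * S.z = S.z * x
  rcases S.conj_rot hx S.z_mem_zpowers with h1 | h1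
  · exact mul_inv_eq_iff_eq_mul.1 h1
  · rw [S.z_inv] at h1
    exact mul_inv_eq_iff_eq_mul.1 h1

theorem D_le_centralizer : D ≤ Subgroup.centralizer ({S.z} : Set G) := fun _ hx =>
  Subgroup.mem_centralizer_singleton_iff.2 (S.z_central hx).eq

theorem z_mem_centralizer : S.z ∈ Subgroup.centralizer (D : Set G) :=
  Subgroup.mem_centralizer_iff.2 fun _ hx => (S.z_central hx).eq

/-- The rotations of square one. -/
theorem eq_one_or_z {v : G} (hv : v ∈ Subgroup.zpowers S.σ) (h2 : v * v = 1) :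
    v = 1 ∨ v = S.z := by
  obtain ⟨k, rfl⟩ := hv
  have hd : ((2 * h : ℕ) : ℤ) ∣ k + k := by
    rw [← S.order, orderOf_dvd_iff_zpow_eq_one, zpow_add]
    exact h2
  push_cast at hd
  obtain ⟨m, hm⟩ := hd
  have hk : k = (h : ℤ) * m := by linarith
  rcases Int.even_or_odd' m with ⟨j, rfl | rfl⟩
  · left
    show S.σ ^ k = 1
    rw [hk, show (h : ℤ) * (2 * j) = ((2 * h : ℕ) : ℤ) * j by push_cast; ring, zpow_mul,
      zpow_natCast, ← S.order, pow_orderOf_eq_one, one_zpow]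
  · right
    show S.σ ^ k = S.z
    rw [hk, show (h : ℤ) * (2 * j + 1) = ((2 * h : ℕ) : ℤ) * j + h by push_cast; ring, zpow_add,
      zpow_mul, zpow_natCast, zpow_natCast, ← S.order, pow_orderOf_eq_one, one_zpow, one_mul, z]

theorem inv_ne_self {v : G} (hv : v ∈ Subgroup.zpowers S.σ) (h1 : v ≠ 1) (hz : v ≠ S.z) :
    v⁻¹ ≠ v := fun he => by
  rcases S.eq_one_or_z hv (by nth_rewrite 1 [← he]; exact inv_mul_cancel v) with e | e
  · exact h1 e
  · exact hz e

/-- The centralizer in `D` of a rotation of order more than two. -/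
theorem mem_of_commute {v : G} (hv : v ∈ Subgroup.zpowers S.σ) (h1 : v ≠ 1) (hz : v ≠ S.z)
    {x : G} (hx : x ∈ D) (hc : Commute x v) : x ∈ Subgroup.zpowers S.σ := by
  by_contra hn
  have := S.refl_conj hx hn hv
  rw [hc.eq, mul_inv_cancel_right] at this
  exact S.inv_ne_self hv h1 hz this.symm

theorem inf_centralizer {v : G} (hv : v ∈ Subgroup.zpowers S.σ) (h1 : v ≠ 1) (hz : v ≠ S.z) :
    D ⊓ Subgroup.centralizer ({v} : Set G) = Subgroup.zpowers S.σ :=
  le_antisymm (fun _ hx => S.mem_of_commute hv h1 hz hx.1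
      (Subgroup.mem_centralizer_singleton_iff.1 hx.2)) fun _ hx =>
    ⟨S.zpowers_le hx, Subgroup.mem_centralizer_singleton_iff.2 (S.rot_comm hx hv).eq⟩

theorem isPGroup [Finite G] : IsPGroup 2 D := by
  obtain ⟨e, -, he⟩ := S.two_pow
  exact IsPGroup.of_card (n := e + 2) (by rw [S.card, he, pow_add]; ring)

/-- The central involution lies in every nontrivial subgroup of rotations. -/
theorem z_mem_zpowers_rot [Finite G] {u : G} (hu : u ∈ Subgroup.zpowers S.σ) (hu1 : u ≠ 1) :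
    S.z ∈ Subgroup.zpowers u := by
  obtain ⟨k, hk⟩ := S.isPGroup ⟨u, S.zpowers_le hu⟩
  obtain ⟨i, -, hi⟩ := (Nat.dvd_prime_pow Nat.prime_two).1
    (orderOf_dvd_of_pow_eq_one (x := u) (n := 2 ^ k) (congrArg Subtype.val hk))
  have hi0 : i ≠ 0 := fun h0 => hu1 (by rwa [h0, pow_zero, orderOf_eq_one_iff] at hi)
  obtain ⟨j, rfl⟩ := Nat.exists_eq_succ_of_ne_zero hi0
  have hw2 : orderOf (u ^ 2 ^ j) = 2 := by
    rw [orderOf_pow' u (pow_ne_zero j two_ne_zero), hi,
      Nat.gcd_eq_right (pow_dvd_pow 2 (Nat.le_succ j)), Nat.pow_succ,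
      Nat.mul_div_cancel_left _ (pow_pos two_pos j)]
  have hw : u ^ 2 ^ j * u ^ 2 ^ j = 1 := by
    have := pow_orderOf_eq_one (u ^ 2 ^ j)
    rwa [hw2, pow_two] at this
  rcases S.eq_one_or_z (pow_mem hu _) hw with e | e
  · rw [e, orderOf_one] at hw2; norm_num at hw2
  · exact e ▸ pow_mem (Subgroup.mem_zpowers u) _

/-- The centralizer of a nontrivial rotation centralizes the central involution. -/
theorem centralizer_rot_le [Finite G] {u : G} (hu : u ∈ Subgroup.zpowers S.σ) (hu1 : u ≠ 1) :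
    Subgroup.centralizer ({u} : Set G) ≤ Subgroup.centralizer ({S.z} : Set G) := fun g hg => by
  obtain ⟨k, hk⟩ := S.z_mem_zpowers_rot hu hu1
  rw [Subgroup.mem_centralizer_singleton_iff] at hg ⊢
  rw [← hk]
  exact (Commute.zpow_right hg k).eq

section Aut

variable [Finite G] {Q : Subgroup G} {x : G}

omit S in
theorem conj_pow_right {q c : G} (h1 : x * q * x⁻¹ = q * c) (hc : x * c * x⁻¹ = c) (N : ℕ) :
    x ^ N * q * (x ^ N)⁻¹ = q * c ^ N := by
  induction N with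
  | zero => simp
  | succ N ih =>
    have hcN : x * c ^ N * x⁻¹ = c ^ N := by rw [← _root_.conj_pow, hc]
    calc x ^ (N + 1) * q * (x ^ (N + 1))⁻¹ = x * (x ^ N * q * (x ^ N)⁻¹) * x⁻¹ := by
          rw [pow_succ']; group
      _ = (x * q * x⁻¹) * (x * c ^ N * x⁻¹) := by rw [ih]; group
      _ = q * c ^ (N + 1) := by rw [h1, hcN, pow_succ', mul_assoc]

/-- A translation commuting with an element of odd order is trivial. -/
theorem translation_eq_one {q c : G} (hx : Cfsg.IsPRegular 2 x) (hcD : c ∈ D)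
    (h1 : x * q * x⁻¹ = q * c) (hc : x * c * x⁻¹ = c) : c = 1 := by
  refine BlockPairs.isPGroup_centralizes (hp := ⟨Nat.prime_two⟩) S.isPGroup hcD hx fun N hN => ?_
  have h2 := conj_pow_right h1 hc N
  rw [hN, one_mul, inv_one, mul_one] at h2
  exact mul_left_cancel (a := q) (by rw [mul_one]; exact h2.symm)

/-- The automorphism of odd order fixes the rotations. -/
theorem rot_fixed (hQ : Q ≤ D) (hN : ∀ q ∈ Q, x * q * x⁻¹ ∈ Q) (_hz : S.z ∈ Q)
    (hxz : Commute x S.z) (hx : Cfsg.IsPRegular 2 x) :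
    ∀ m, ∀ u ∈ Q, u ∈ Subgroup.zpowers S.σ → orderOf u = m → x * u * x⁻¹ = u := by
  intro m
  induction m using Nat.strong_induction_on with
  | _ m ih =>
    intro u huQ huσ hm
    by_cases h2 : u * u = 1
    · rcases S.eq_one_or_z huσ h2 with rfl | rfl
      · simp
      · exact mul_inv_eq_iff_eq_mul.2 hxz.eq
    have hu'σ : x * u * x⁻¹ ∈ Subgroup.zpowers S.σ := by
      by_contra hn
      have := S.refl_sq (hQ (hN u huQ)) hn
      apply h2
      rw [show x * u * x⁻¹ * (x * u * x⁻¹) = x * (u * u) * x⁻¹ by group,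
        mul_inv_eq_one, mul_eq_left] at this
      exact this
    have hlt : orderOf (u ^ 2) < m := by
      obtain ⟨k, hk⟩ := S.isPGroup ⟨u, hQ huQ⟩
      obtain ⟨i, -, hi⟩ := (Nat.dvd_prime_pow Nat.prime_two).1
        (orderOf_dvd_of_pow_eq_one (x := u) (n := 2 ^ k) (congrArg Subtype.val hk))
      have hi0 : i ≠ 0 := fun h0 => h2 (by
        rw [h0, pow_zero, orderOf_eq_one_iff] at hi; rw [hi, one_mul])
      rw [orderOf_pow' u two_ne_zero, ← hm, hi, Nat.gcd_eq_right (dvd_pow_self 2 hi0)]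
      exact Nat.div_lt_self (pow_pos two_pos i) one_lt_two
    have hfix := ih _ hlt (u ^ 2) (pow_mem huQ 2) (pow_mem huσ 2) rfl
    set d := u⁻¹ * (x * u * x⁻¹) with hd
    have hdσ : d ∈ Subgroup.zpowers S.σ := mul_mem (inv_mem huσ) hu'σ
    have hd2 : d * d = 1 := by
      have hcm := S.rot_comm (inv_mem huσ) hu'σ
      rw [hd, hcm.symm.mul_mul_mul_comm, show x * u * x⁻¹ * (x * u * x⁻¹) = x * u ^ 2 * x⁻¹ by rw [pow_two]; group,
        hfix]
      group
    have hdfix : x * d * x⁻¹ = d := by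
      rcases S.eq_one_or_z hdσ hd2 with e | e <;> rw [e]
      · simp
      · exact mul_inv_eq_iff_eq_mul.2 hxz.eq
    have h1 : x * u * x⁻¹ = u * d := by rw [hd, mul_inv_cancel_left]
    rw [h1, S.translation_eq_one hx (S.zpowers_le hdσ) h1 hdfix, mul_one]

/-- An element of odd order normalizing `Q` and fixing `z` centralizes `Q`. -/
theorem centralizes (hQ : Q ≤ D) (hN : x ∈ Subgroup.normalizer (Q : Set G)) (hz : S.z ∈ Q)
    (hxz : Commute x S.z) (hx : Cfsg.IsPRegular 2 x) :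
    x ∈ Subgroup.centralizer (Q : Set G) := by
  have hN' : ∀ q ∈ Q, x * q * x⁻¹ ∈ Q := fun q hq => (Subgroup.mem_normalizer_iff.1 hN q).1 hq
  have hrot := fun u hu hu' => S.rot_fixed hQ hN' hz hxz hx _ u hu hu' rfl
  refine Subgroup.mem_centralizer_iff.2 fun q hq => ?_
  have key : x * q * x⁻¹ = q := by
    by_cases hqσ : q ∈ Subgroup.zpowers S.σ
    · exact hrot q hq hqσ
    have hq'σ : x * q * x⁻¹ ∉ Subgroup.zpowers S.σ := fun hmem => by
      have h1 := hrot _ (hN' q hq) hmem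
      rw [mul_inv_eq_iff_eq_mul] at h1
      have h2 : x * q * x⁻¹ = q := mul_left_cancel (a := x) (by
        calc x * (x * q * x⁻¹) = x * q * x⁻¹ * x := h1
          _ = x * q := by group)
      exact hqσ (h2 ▸ hmem)
    obtain ⟨a, ha⟩ := S.eq_tau_mul (hQ (hN' q hq)) hq'σ
    obtain ⟨b, hb⟩ := S.eq_tau_mul (hQ hq) hqσ
    set c := q⁻¹ * (x * q * x⁻¹) with hc
    have hcσ : c ∈ Subgroup.zpowers S.σ := by
      refine ⟨-b + a, ?_⟩
      show S.σ ^ (-b + a) = c
      rw [hc, ha, hb]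
      group
    have hcQ : c ∈ Q := mul_mem (inv_mem hq) (hN' q hq)
    have h1 : x * q * x⁻¹ = q * c := by rw [hc, mul_inv_cancel_left]
    rw [h1, S.translation_eq_one hx (hQ hcQ) h1 (hrot c hcQ hcσ), mul_one]
  exact (mul_inv_eq_iff_eq_mul.1 key).symm

end Aut

end Shape

end CfsgLib.TameBlocks
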