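import Cfsg.Agent.TameBlocks.Sections
import Cfsg.Agent.InertialQuotient.RankTransport

/-!
# Transport of the traces and of nilpotent blocks to a subgroup

The trace at a point of a subgroup `K` is that of the restriction; the trace of a block of `C(r)`
depends only on the values at the elements `r * s` with `s` regular in `C(r)`; a nilpotent block of a
subgroup with its maximal pair gives one of the subgroup as a group.
-/

set_option autoImplicit false
set_option linter.unusedSectionVars false
set_option linter.style.haveILetI false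

namespace CfsgLib.TameBlocks

open Cfsg MonoidAlgebra CfsgLib.BlockPairs CfsgLib.Star
open CfsgLib.Blocks (localRing red Res extRing)
open CfsgLib.BlockPairing (regInner)
open scoped ComplexConjugate

universe u

variable {G : Type u} [Group G] [Fintype G] {M : Ideal AlgInt} [M.IsPrime]

theorem isClassFunction_comap (K : Subgroup G) {f : G → ℂ} (hf : Cfsg.IsClassFunction G f) :
    Cfsg.IsClassFunction K fun k : K => f (k : G) := fun g h => by
  simpa using hf (g : G) (h : G)

theorem rho_extRing (K : Subgroup G) (w : MonoidAlgebra (localRing M) K) :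
    rho M G (extRing K w) = emb K.subtype (rho M K w) := by
  rw [rho, CfsgLib.Blocks.map_extRing]
  rfl

/-- The trace at a point of a subgroup is that of the restriction. -/
theorem T_emb (K : Subgroup G) [Fintype K] {f : G → ℂ} (hf : Cfsg.IsClassFunction G f) {z : K}
    {j : GA (Res M) K} (hj : j * j = j) (hz : conjA (Res M) z j = j) :
    T M f (z : G) (emb K.subtype j) = T M (fun k : K => f (k : G)) z j := by
  classical
  obtain ⟨E, hE, hEz⟩ := exists_lift (M := M) j hj
  obtain ⟨hzE, hrE⟩ := hEz z hz
  rw [T_eq (isClassFunction_comap K hf) hE ⟨hzE, hrE⟩,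
    T_eq hf (E := extRing K E) (z := (z : G)) (by rw [← map_mul, hE])
      ⟨by rw [← CfsgLib.Blocks.extRing_single K z (1 : localRing M)]; exact hzE.map _,
        by rw [rho_extRing, hrE]⟩]
  rw [tau_single_mul, tau_single_mul]
  rw [← Finset.sum_subset (Finset.subset_univ
      (Finset.univ.map ⟨((↑) : K → G), Subtype.val_injective⟩)) fun g _ hg => ?_, Finset.sum_map]
  · refine Finset.sum_congr rfl fun k _ => ?_
    rw [Function.Embedding.coeFn_mk, CfsgLib.Blocks.coeff_extRing_coe]
    simp
  · rw [CfsgLib.Blocks.coeff_extRing_notMem _ _ fun hgK =>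
      hg (Finset.mem_map.2 ⟨⟨g, hgK⟩, Finset.mem_univ _, rfl⟩)]
    simp

/-- The trace is linear in the function. -/
theorem T_fun_sum {ι : Type*} (s : Finset ι) (c : ι → ℂ) (φ : ι → G → ℂ)
    (hφ : ∀ i ∈ s, Cfsg.IsClassFunction G (φ i)) {z : G} {j : GA (Res M) G} (hj : j * j = j)
    (hz : conjA (Res M) z j = j) :
    T M (fun g => ∑ i ∈ s, c i * φ i g) z j = ∑ i ∈ s, c i * T M (φ i) z j := by
  classical
  obtain ⟨E, hE, hEz⟩ := exists_lift (M := M) j hj
  have h := hEz z hz
  have hsum : Cfsg.IsClassFunction G fun g => ∑ i ∈ s, c i * φ i g := fun g x =>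
    Finset.sum_congr rfl fun i hi => by rw [hφ i hi g x]
  rw [T_eq hsum hE h, Finset.sum_congr rfl fun i hi => by rw [T_eq (hφ i hi) hE h]]
  simp only [tau_single_mul, Finset.mul_sum]
  rw [Finset.sum_comm]
  exact Finset.sum_congr rfl fun i _ => Finset.sum_congr rfl fun g _ => by ring

variable {p : ℕ} [hp : Fact p.Prime]

/-- The trace of a block of `C(r)` at a point of the section of `r` only sees that section. -/
theorem T_congr_section (hM : Cfsg.IsPModular p M) {r : G} {e : GA (Res M) G}
    (he : IsBlock (Subgroup.centralizer ({r} : Set G)) e) {f f' : G → ℂ}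
    (hf : Cfsg.IsClassFunction G f) (hf' : Cfsg.IsClassFunction G f')
    (h : ∀ s : ↥(Subgroup.centralizer ({r} : Set G)), ¬ p ∣ orderOf s →
      f (r * (s : G)) = f' (r * (s : G)))
    (s : ↥(Subgroup.centralizer ({r} : Set G))) (hs : ¬ p ∣ orderOf s) :
    T M f (r * (s : G)) e = T M f' (r * (s : G)) e := by
  classical
  haveI := Fintype.ofFinite ↥(Subgroup.centralizer ({r} : Set G))
  obtain ⟨b, hb, rfl⟩ := exists_eq_sblk (M := M) he
  have hbu := CfsgLib.Blocks.isBlockUnion_of_isPBlock hb
  rw [T_sblk hM hbu hf s, T_sblk hM hbu hf' s,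
    SubsectionNorm.blockPart_regular_eq hM hbu (CfsgLib.Blocks.isClassFunction_translate f hf r) hs,
    SubsectionNorm.blockPart_regular_eq hM hbu (CfsgLib.Blocks.isClassFunction_translate f' hf' r) hs]
  refine Finset.sum_congr rfl fun ξ _ => ?_
  rw [BlocksCharsC.regInner_congr_left _ h]

variable [CharP (Res M) p] [IsAlgClosed (Res M)]

/-- A nilpotent block of a subgroup gives one of the subgroup as a group. -/
theorem exists_local_nilp {K P : Subgroup G} {e eP : GA (Res M) G} (he : IsBlock K e)
    (hmax : IsMaxPair p K e P eP) (hn : Nilp p K e) :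
    ∃ (b : Set (IrrCharacter K)) (eP' : GA (Res M) K), Cfsg.IsPBlock M b ∧
      sblk M K b = e ∧ emb K.subtype eP' = eP ∧
      IsMaxPair p ⊤ (gblk M b) (P.subgroupOf K) eP' ∧ Nilp p ⊤ (gblk M b) := by
  haveI := Fintype.ofFinite K
  have hinj := K.subtype_injective
  have hPK : P ≤ K := hmax.1.1.1
  have hPm : (P.subgroupOf K).map K.subtype = P := Subgroup.map_subgroupOf_eq_of_le hPK
  have htop : (⊤ : Subgroup K).map K.subtype = K := by
    rw [← MonoidHom.range_eq_map, K.range_subtype]
  obtain ⟨b, hb, rfl⟩ := exists_eq_sblk (M := M) he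
  obtain ⟨eP', he'⟩ := exists_emb_of_isSupp (φ := K.subtype) hinj (z := eP)
    (hmax.1.1.2.2.supp.mono (by rw [K.range_subtype]; exact inf_le_left))
  have hbh : BlockHas p ⊤ (gblk M b) (P.subgroupOf K) eP' := by
    refine (blockHas_map_iff (φ := K.subtype) hinj).1 ?_
    rw [htop, hPm, he', InertialQuotient.emb_gblk]
    exact hmax.1
  have hd : IsDefectGrp p ⊤ (gblk M b) (P.subgroupOf K) := by
    rw [← isDefectGroup_gblk_iff hb, isDefectGroup_subgroupOf_iff hb hPK]
    exact (hmax.isDefectGrp he).1
  refine ⟨b, eP', hb, rfl, he', isMaxPair_of_defect hd hbh, fun Q f hQ x hx hreg => ?_⟩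
  have h := (blockHas_map_iff (φ := K.subtype) hinj).2 hQ
  rw [htop, InertialQuotient.emb_gblk] at h
  have hx' : (x : G) ∈ stab K (Q.map K.subtype) (emb K.subtype f) := by
    have := (map_mem_stab_iff (φ := K.subtype) hinj).2 hx
    rwa [htop] at this
  exact (map_mem_centralizer_iff (φ := K.subtype) hinj).1
    (hn _ _ h _ hx' ((isPRegular_map (φ := K.subtype) hinj).2 hreg))

end CfsgLib.TameBlocks
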