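import Cfsg.Agent.TameBlocks.TameShape
import Cfsg.Agent.PLocal.Cores
import Cfsg.Agent.Blocks.SylowIn
import Mathlib.GroupTheory.Perm.Fin

/-!
# Regular classes of a constrained group with tame Sylow two-subgroups

With trivial odd core and `C(O_2) ≤ O_2` the normalizer `M` of `O_2 ⊓ zpowers a` is a two-group of
index one or three, so the nontrivial elements of odd order have order three and are conjugate.
-/

set_option autoImplicit false
set_option linter.unusedSectionVars false
set_option linter.style.haveILetI false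

namespace CfsgLib.TameBlocks

open CfsgLib.Blocks (IsSylowIn)

universe u

variable {H : Type u} [Group H] [Finite H]

theorem perm_three : ∀ a b : Equiv.Perm (Fin 3), a * a = 1 → a ≠ 1 → b * b * b = 1 →
    a * b * a⁻¹ = b⁻¹ := by
  decide

theorem perm_three' {X : Type*} [Finite X] (hX : Nat.card X = 3) {a b : Equiv.Perm X}
    (ha : a * a = 1) (ha1 : a ≠ 1) (hb : b * b * b = 1) : a * b * a⁻¹ = b⁻¹ := by
  let e : X ≃ Fin 3 := (Finite.equivFin X).trans (finCongr hX)
  let f : Equiv.Perm X ≃* Equiv.Perm (Fin 3) := e.permCongrHom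
  refine f.injective ?_
  rw [map_mul, map_mul, map_inv, map_inv]
  exact perm_three _ _ (by rw [← map_mul, ha, map_one]) (fun h => ha1 (f.injective (by rw [h, map_one])))
    (by rw [← map_mul, ← map_mul, hb, map_one])

/-- Two nontrivial elements of odd order are conjugate. -/
theorem regular_isConj {D : Subgroup H} (hD : IsTame D) (hind : ¬ 2 ∣ D.index)
    (hC : Subgroup.centralizer (Cfsg.pCore 2 H : Set H) ≤ Cfsg.pCore 2 H) {g u : H}
    (hg : ¬ 2 ∣ orderOf g) (hu : ¬ 2 ∣ orderOf u) (hg1 : g ≠ 1) (hu1 : u ≠ 1) : IsConj g u := by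
  classical
  haveI : Fact (Nat.Prime 2) := ⟨Nat.prime_two⟩
  haveI : Fact (Nat.Prime 3) := ⟨Nat.prime_three⟩
  obtain ⟨h, ⟨T⟩⟩ := exists_tame hD
  set Q := Cfsg.pCore 2 H with hQ
  haveI : Q.Normal := inferInstanceAs (Cfsg.pCore 2 H).Normal
  have hQp : IsPGroup 2 Q := CfsgLib.PLocal.isPGroup_pCore 2 H
  set P : Sylow 2 H := T.isPGroup.toSylow hind
  have hQD : Q ≤ D := CfsgLib.PLocal.pCore_le_sylow P
  set A := Q ⊓ Subgroup.zpowers T.a with hA
  set N := Subgroup.normalizer (A : Set H) with hN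
  -- the normalizer of `A` has no nontrivial element of odd order
  have hodd : ∀ y ∈ N, ¬ 2 ∣ orderOf y → y = 1 := by
    intro y hy hy2
    have hyQ : y ∈ Q := hC (T.centralizes_of_fixed hy2 hQD
      (fun w hw => Subgroup.Normal.conj_mem inferInstance w hw y)
      (fun w hw => (Subgroup.mem_normalizer_iff.1 hy w).1 hw))
    obtain ⟨k, hk⟩ := hQp ⟨y, hyQ⟩
    obtain ⟨i, -, hi⟩ := (Nat.dvd_prime_pow Nat.prime_two).1
      (orderOf_dvd_of_pow_eq_one (x := y) (congrArg Subtype.val hk))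
    rcases i with _ | i
    · exact orderOf_eq_one_iff.1 (by simpa using hi)
    · exact absurd (hi ▸ dvd_pow_self 2 (Nat.succ_ne_zero i)) hy2
  have hNp : IsPGroup 2 N := by
    rw [IsPGroup.iff_card]
    refine ⟨(Nat.card N).primeFactorsList.length,
      Nat.eq_prime_pow_of_unique_prime_dvd Nat.card_pos.ne' fun {q} hq hqd => ?_⟩
    by_contra hq2
    haveI := Fact.mk hq
    obtain ⟨y, hy⟩ := exists_prime_orderOf_dvd_card' (G := N) q hqd
    rw [← Subgroup.orderOf_coe] at hy
    have := hodd y y.2 (fun hd => hq2 ((Nat.prime_dvd_prime_iff_eq Nat.prime_two hq).1 (hy ▸ hd)).symm)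
    rw [this, orderOf_one] at hy
    exact hq.one_lt.ne hy
  -- its index is three
  have hidx : N.index = 3 := by
    have hle : N.index ≤ 3 := T.index_normalizer_le hQD
    have hne : N.index ≠ 0 := Subgroup.index_ne_zero_of_finite
    obtain ⟨k, hk⟩ := IsPGroup.iff_card.1 hNp
    have hcard := N.index_mul_card
    have hgd : orderOf g ∣ Nat.card H := orderOf_dvd_natCard g
    rw [← hcard, hk] at hgd
    have hgi : orderOf g ∣ N.index :=
      (Nat.Coprime.pow_right k ((Nat.prime_two.coprime_iff_not_dvd.2 hg).symm)).dvd_of_dvd_mul_right hgd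
    have h1 : orderOf g ≠ 1 := fun e => hg1 (orderOf_eq_one_iff.1 e)
    have h0 := orderOf_pos g
    have := Nat.le_of_dvd (Nat.pos_of_ne_zero hne) hgi
    have hle' : orderOf g ≤ 3 := this.trans hle
    interval_cases hh : orderOf g <;> omega
  have hord : ∀ w : H, ¬ 2 ∣ orderOf w → w ≠ 1 → orderOf w = 3 := by
    intro w hw hw1
    obtain ⟨k, hk⟩ := IsPGroup.iff_card.1 hNp
    have hwd : orderOf w ∣ Nat.card H := orderOf_dvd_natCard w
    rw [← N.index_mul_card, hidx, hk] at hwd
    exact ((Nat.dvd_prime Nat.prime_three).1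
      ((Nat.Coprime.pow_right k ((Nat.prime_two.coprime_iff_not_dvd.2 hw).symm)).dvd_of_dvd_mul_right
        hwd)).resolve_left fun e => hw1 (orderOf_eq_one_iff.1 e)
  have hg3 := hord g hg hg1
  have hu3 := hord u hu hu1
  have hsyl : ∀ (K : Subgroup H) (w : H), orderOf w = 3 → w ∈ K →
      IsSylowIn 3 K (Subgroup.zpowers w) := by
    intro K w hw hwK
    refine ⟨Subgroup.zpowers_le.2 hwK, IsPGroup.of_card (n := 1) (by rw [Nat.card_zpowers, hw, pow_one]),
      fun hd => ?_⟩
    have hm := CfsgLib.PLocal.card_mul_relIndex (Subgroup.zpowers_le.2 hwK)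
    obtain ⟨k, hk⟩ := IsPGroup.iff_card.1 hNp
    have hKd : Nat.card K ∣ 3 * 2 ^ k := by
      rw [← hk, ← hidx, N.index_mul_card]; exact Subgroup.card_subgroup_dvd_card K
    rw [← hm, Nat.card_zpowers, hw] at hKd
    exact absurd ((Nat.prime_dvd_prime_iff_eq Nat.prime_three Nat.prime_two).1
      (Nat.prime_three.dvd_of_dvd_pow (hd.trans (Nat.dvd_of_mul_dvd_mul_left (by norm_num) hKd))))
      (by norm_num)
  -- the action on the three cosets
  set φ := MulAction.toPermHom H (H ⧸ N) with hφ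
  have hker : φ.ker = N.normalCore := (Subgroup.normalCore_eq_ker N).symm
  have hkerQ : φ.ker ≤ Q := by
    rw [hker]
    exact CfsgLib.PLocal.le_pCore ((hNp.to_le (Subgroup.normalCore_le N)))
  have hX : Nat.card (H ⧸ N) = 3 := hidx
  have hφ3 : ∀ w : H, orderOf w = 3 → φ w ≠ 1 := fun w hw he => by
    have := hodd w ((Subgroup.normalCore_le N) (hker ▸ (MonoidHom.mem_ker.2 he)))
      (by rw [hw]; norm_num)
    rw [this, orderOf_one] at hw
    omega
  -- `Q` is not the whole of `D`
  obtain ⟨d, hdD, hdQ⟩ : ∃ d ∈ D, d ∉ Q := by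
    refine Set.not_subset.1 fun hDQ => ?_
    have hDe : Q = D := le_antisymm hQD hDQ
    have hNtop : N = ⊤ := by
      refine eq_top_iff.2 fun y _ => Subgroup.mem_normalizer_iff.2 ?_
      have hAa : A = Subgroup.zpowers T.a := by
        rw [hA, hDe]; exact inf_eq_right.2 T.zpowers_le
      have key : ∀ z : H, ∀ w ∈ A, z * w * z⁻¹ ∈ A := by
        intro z w hw
        rw [hAa] at hw ⊢
        have haD : z * T.a * z⁻¹ ∈ D := hQD (Subgroup.Normal.conj_mem inferInstance _ (hDQ T.a_mem) z)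
        have ha' : z * T.a * z⁻¹ ∈ Subgroup.zpowers T.a := by
          by_contra hn
          obtain ⟨k, hk⟩ := (T.mul_mem_iff T.x_mem haD).2
            ⟨fun e => absurd e T.x_not_mem, fun e => absurd e hn⟩
          simp only at hk
          -- outside `zpowers a` the fourth power is trivial
          have e1 : T.x * T.a ^ k * T.x⁻¹ * T.a ^ k = 1 ∨
              (2 ≤ h ∧ T.x * T.a ^ k * T.x⁻¹ * T.a ^ k = T.z ^ k) := by
            rcases T.conj with e | ⟨h2, e⟩
            · left; rw [← conj_zpow, e, inv_zpow, inv_mul_cancel]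
            · right
              refine ⟨h2, ?_⟩
              rw [← conj_zpow, e, Commute.mul_zpow ((Commute.refl T.a).inv_left.pow_right _),
                inv_zpow, mul_assoc]
              rw [show (T.a ^ (2 * h)) ^ k * T.a ^ k = T.a ^ k * (T.a ^ (2 * h)) ^ k from
                (((Commute.refl T.a).pow_left _).zpow_zpow k k).eq, inv_mul_cancel_left]
              rfl
          have e2 : z * T.a * z⁻¹ = T.x⁻¹ * T.a ^ k := by rw [hk]; group
          have e3 : T.x⁻¹ = T.x := inv_eq_of_mul_eq_one_right T.x_sq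
          have e4 : (z * T.a * z⁻¹) * (z * T.a * z⁻¹) = 1 ∨
              (2 ≤ h ∧ (z * T.a * z⁻¹) * (z * T.a * z⁻¹) = T.z ^ k) := by
            have e5 : T.x⁻¹ * T.a ^ k * (T.x⁻¹ * T.a ^ k) = T.x * T.a ^ k * T.x⁻¹ * T.a ^ k := by
              conv_lhs => arg 1; rw [e3]
              group
            rw [e2, e5]; exact e1
          have hh := T.h_pos
          have hsq : (z * T.a * z⁻¹) * (z * T.a * z⁻¹) = z * T.a ^ 2 * z⁻¹ := by rw [pow_two]; group
          rw [hsq] at e4
          rcases e4 with e4 | ⟨h2, e4⟩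
          · rw [mul_inv_eq_one, mul_eq_left] at e4
            have := Nat.le_of_dvd two_pos (orderOf_dvd_of_pow_eq_one e4)
            rw [T.order] at this
            omega
          · have e6 : (z * T.a ^ 2 * z⁻¹) ^ 2 = 1 := by
              rw [e4, ← zpow_natCast, ← zpow_mul, mul_comm, zpow_mul, zpow_natCast, pow_two, T.z_mul_z,
                one_zpow]
            rw [conj_pow, mul_inv_eq_one, mul_eq_left, ← pow_mul] at e6
            have := Nat.le_of_dvd (by norm_num) (orderOf_dvd_of_pow_eq_one e6)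
            rw [T.order] at this
            omega
        obtain ⟨k, rfl⟩ := hw
        simp only
        rw [← conj_zpow]
        exact zpow_mem ha' k
      intro w
      exact ⟨key y w, fun hw => by simpa [mul_assoc] using key y⁻¹ _ hw⟩
    rw [hNtop, Subgroup.index_top] at hidx
    omega
  -- an involution inverting the image of `g`
  have hd1 : φ d ≠ 1 := fun e => hdQ (hkerQ (MonoidHom.mem_ker.2 e))
  have hd2 : φ d * φ d = 1 := by
    obtain ⟨k, hk⟩ := T.isPGroup ⟨d, hdD⟩
    have h1 : φ d ^ (2 ^ k) = 1 := by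
      rw [← map_pow, show d ^ 2 ^ k = 1 from congrArg Subtype.val hk, map_one]
    have h6 : φ d ^ 6 = 1 := by
      have := pow_card_eq_one' (x := φ d)
      rwa [Nat.card_perm, hX] at this
    rw [← pow_two]
    refine orderOf_dvd_iff_pow_eq_one.1 ?_
    have h3 := Nat.dvd_gcd (orderOf_dvd_of_pow_eq_one h1) (orderOf_dvd_of_pow_eq_one h6)
    refine h3.trans ?_
    rw [show (6 : ℕ) = 2 * 3 by norm_num,
      Nat.Coprime.gcd_mul _ (by norm_num : Nat.Coprime 2 3),
      (Nat.Coprime.pow_left k (by norm_num : Nat.Coprime 2 3)).gcd_eq_one, mul_one]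
    exact Nat.gcd_dvd_right _ _
  have hg3' : g * g * g = 1 := by
    rw [← pow_orderOf_eq_one g, hg3, pow_three']
  have hinv : φ (d * g * d⁻¹) = (φ g)⁻¹ := by
    rw [map_mul, map_mul, map_inv]
    exact perm_three' hX hd2 hd1 (by rw [← map_mul, ← map_mul, hg3', map_one])
  -- so `g` is conjugate to its inverse
  set K := (Subgroup.zpowers (φ g)).comap φ with hK
  have hgK : g ∈ K := Subgroup.mem_zpowers (φ g)
  have hg'K : d * g * d⁻¹ ∈ K := by
    rw [hK, Subgroup.mem_comap, hinv]; exact inv_mem (Subgroup.mem_zpowers _)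
  have hg'3 : orderOf (d * g * d⁻¹) = 3 := ((MulAut.conj d).orderOf_eq g).trans hg3
  obtain ⟨k, hkK, hk⟩ := (hsyl K g hg3 hgK).exists_conj (hsyl K _ hg'3 hg'K)
  have hkg : k * g * k⁻¹ ∈ Subgroup.zpowers (d * g * d⁻¹) := by
    rw [← hk]; exact Subgroup.mem_map.2 ⟨g, Subgroup.mem_zpowers g, rfl⟩
  obtain ⟨i, hi⟩ := hkg
  simp only at hi
  have hcomm : φ (k * g * k⁻¹) = φ g := by
    obtain ⟨j, hj⟩ := Subgroup.mem_zpowers_iff.1 (show φ k ∈ Subgroup.zpowers (φ g) from hkK)
    rw [map_mul, map_mul, map_inv, ← hj, ((Commute.refl (φ g)).zpow_left j).eq, mul_inv_cancel_right]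
  rw [← hi, map_zpow, hinv, inv_zpow', ← mul_inv_eq_one, ← zpow_neg_one, ← zpow_add] at hcomm
  have hφg : orderOf (φ g) = 3 := ((Nat.dvd_prime Nat.prime_three).1
    (hg3 ▸ orderOf_map_dvd φ g)).resolve_left fun e => hφ3 g hg3 (orderOf_eq_one_iff.1 e)
  have hdiv : (3 : ℤ) ∣ -i + -1 := by
    have := orderOf_dvd_iff_zpow_eq_one.2 hcomm
    rwa [hφg] at this
  have hgg : IsConj g g⁻¹ := by
    have e : (d * g * d⁻¹) ^ i = (d * g * d⁻¹)⁻¹ := by
      refine (orderOf_dvd_sub_iff_zpow_eq_zpow.1 ?_).trans (zpow_neg_one _)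
      rw [hg'3]
      obtain ⟨c, hc⟩ := hdiv
      exact ⟨-c, by push_cast; linarith⟩
    have h1 : IsConj g (d * g * d⁻¹)⁻¹ := isConj_iff.2 ⟨k, hi.symm.trans e⟩
    exact h1.trans (isConj_iff.2 ⟨d⁻¹, by group⟩)
  -- Sylow
  obtain ⟨k', -, hk'⟩ := (hsyl ⊤ g hg3 trivial).exists_conj (hsyl ⊤ u hu3 trivial)
  have hug : k' * g * k'⁻¹ ∈ Subgroup.zpowers u := by
    rw [← hk']; exact Subgroup.mem_map.2 ⟨g, Subgroup.mem_zpowers g, rfl⟩
  obtain ⟨i', hi'⟩ := hug
  simp only at hi'
  have hcase : u ^ i' = u ∨ u ^ i' = u⁻¹ ∨ u ^ i' = 1 := by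
    have hmod : i' % 3 = 0 ∨ i' % 3 = 1 ∨ i' % 3 = 2 := by omega
    rw [← zpow_mod_orderOf, hu3]
    push_cast
    rcases hmod with e | e | e <;> rw [e]
    · right; right; exact zpow_zero u
    · left; exact zpow_one u
    · right; left
      rw [eq_inv_iff_mul_eq_one, ← zpow_add_one, show (2 : ℤ) + 1 = ((orderOf u : ℕ) : ℤ) by rw [hu3]; rfl,
        zpow_natCast, pow_orderOf_eq_one]
  have hgu : IsConj g (u ^ i') := isConj_iff.2 ⟨k', hi'.symm⟩
  rcases hcase with e | e | e <;> rw [e] at hgu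
  · exact hgu
  · have h2 : IsConj g⁻¹ u := by
      obtain ⟨c, hc⟩ := isConj_iff.1 hgu
      exact isConj_iff.2 ⟨c, by rw [← conj_inv, hc, inv_inv]⟩
    exact hgg.trans h2
  · exact absurd (isConj_one_left.1 hgu) hg1

end CfsgLib.TameBlocks
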